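import Groth.Agent.AlgSp.K624.LimBase2

set_option autoImplicit false
set_option backward.isDefEq.respectTransparency false
set_option backward.isDefEq.respectTransparency.types false
universe u
open CategoryTheory CategoryTheory.Limits AlgebraicGeometry Topology TopologicalSpace Opposite

namespace K624.LocSys

open AlgSp K624.LimBase

theorem isUnit_of_basicOpen_eq_top {X : Scheme.{u}} (r : Γ(X, ⊤)) (h : X.basicOpen r = ⊤) : IsUnit r := by
  refine X.toRingedSpace.isUnit_of_isUnit_germ ⊤ r fun x hx => ?_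
  have : x ∈ X.basicOpen r := by rw [h]; exact hx
  exact (X.mem_basicOpen _ _ hx).1 this

theorem exists_lift_ring {A B C : CommRingCat.{u}} (t : A ⟶ B) (p : Ideal A) [p.IsPrime]
    (h : @IsLocalization.AtPrime A _ B _ t.hom.toAlgebra p _) (g : A ⟶ C)
    (hu : ∀ f : A, f ∉ p → IsUnit (g.hom f)) : ∃ l : B ⟶ C, t ≫ l = g := by
  let _ := t.hom.toAlgebra
  have hu' : ∀ f : p.primeCompl, IsUnit (g.hom (f : A)) := fun f => hu f.1 f.2
  refine ⟨CommRingCat.ofHom (IsLocalization.lift (M := p.primeCompl) (g := g.hom) hu'), ?_⟩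
  ext a
  exact IsLocalization.lift_eq (M := p.primeCompl) hu' a

section

variable {A : CommRingCat.{u}}

/-- Functions not vanishing at a point. -/
structure Nb (x : Spec A) : Type u where
  /-- the function -/
  f : A
  /-- it does not vanish -/
  hf : f ∉ PrimeSpectrum.asIdeal x

variable {x : Spec A}

/-- The non-vanishing locus. -/
noncomputable def Nb.U (n : Nb x) : (Spec A).Opens := PrimeSpectrum.basicOpen n.f

theorem Nb.mem (n : Nb x) : x ∈ n.U := n.hf

noncomputable instance : Preorder (Nb x) := Preorder.lift Nb.U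

theorem Nb.le_iff (n m : Nb x) : n ≤ m ↔ n.U ≤ m.U := Iff.rfl

instance : Nonempty (Nb x) := ⟨⟨1, fun h => x.2.ne_top ((Ideal.eq_top_iff_one _).2 h)⟩⟩

instance : IsDirected (Nb x) (· ≥ ·) := ⟨fun n m => ⟨⟨n.f * m.f, fun h =>
  (x.2.mem_or_mem h).elim n.hf m.hf⟩, (Nb.le_iff _ _).2 ((PrimeSpectrum.basicOpen_mul n.f m.f).trans_le inf_le_left),
    (Nb.le_iff _ _).2 ((PrimeSpectrum.basicOpen_mul n.f m.f).trans_le inf_le_right)⟩⟩

instance : IsCofiltered (Nb x) := isCofiltered_of_directed_ge_nonempty _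

/-- The basic open as a scheme over `Spec A`. -/
noncomputable abbrev Nb.O (n : Nb x) : Over (Spec A) := Over.mk n.U.ι

theorem Nb.isAffine (n : Nb x) : IsAffine n.O.left :=
  IsAffineOpen.Spec_basicOpen n.f

theorem hom_ext {T V : Over (Spec A)} [Mono V.hom] (f g : T ⟶ V) : f = g := by
  ext1
  rw [← cancel_mono V.hom]
  exact (Over.w f).trans (Over.w g).symm

instance (n : Nb x) : Mono n.O.hom := inferInstanceAs (Mono n.U.ι)

/-- The system of basic open neighbourhoods of a point. -/
noncomputable def sys (x : Spec A) : Nb x ⥤ Over (Spec A) where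
  obj n := n.O
  map {n m} φ := Over.homMk ((Spec A).homOfLE ((Nb.le_iff n m).1 (leOfHom φ)))
  map_id n := hom_ext _ _
  map_comp {n m k} φ ψ := hom_ext (V := k.O) _ _

theorem range_fromSpecStalk_subset (n : Nb x) :
    Set.range ((Spec A).fromSpecStalk x) ⊆ Set.range n.U.ι := by
  rw [Scheme.range_fromSpecStalk, Scheme.Opens.range_ι]
  intro y hy
  exact Specializes.mem_open hy n.U.2 n.mem

theorem mem_of_hom {T : Over (Spec A)} (n : Nb x) (k : T ⟶ n.O) (t : T.left) : T.hom t ∈ n.U := by
  have h1 : k.left ≫ n.U.ι = T.hom := Over.w k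
  rw [← h1, Scheme.Hom.comp_apply]
  exact (k.left t : n.U).2

/-- The cone given by the local scheme. -/
noncomputable def cone (x : Spec A) : Cone (sys x) where
  pt := Over.mk ((Spec A).fromSpecStalk x)
  π :=
    { app := fun n => Over.homMk (IsOpenImmersion.lift n.U.ι ((Spec A).fromSpecStalk x)
        (range_fromSpecStalk_subset n)) (IsOpenImmersion.lift_fac _ _ _)
      naturality := fun _ m _ => hom_ext (V := m.O) _ _ }

theorem isUnit_gm {T : Over (Spec A)} (k : ∀ n : Nb x, T ⟶ n.O) (f : A) (hf : f ∉ x.asIdeal) :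
    IsUnit ((gm T).hom f) := by
  let n : Nb x := ⟨f, hf⟩
  refine isUnit_of_basicOpen_eq_top _ ?_
  change T.left.basicOpen (T.hom.appTop ((Scheme.ΓSpecIso A).inv f)) = ⊤
  rw [← Scheme.preimage_basicOpen_top, basicOpen_eq_of_affine, eq_top_iff]
  exact fun t _ => mem_of_hom n (k n) t

theorem exists_lift {T : Over (Spec A)} (k : ∀ n : Nb x, T ⟶ n.O) :
    Nonempty (T ⟶ Over.mk ((Spec A).fromSpecStalk x)) := by
  obtain ⟨l, hl⟩ := exists_lift_ring (K624.IntBiratSch.ts x) x.asIdeal (K624.IntBiratSch.isLocalization x) (gm T)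
    (isUnit_gm k)
  refine ⟨Over.homMk (T.left.toSpecΓ ≫ Spec.map l) ?_⟩
  change (T.left.toSpecΓ ≫ Spec.map l) ≫ (Spec A).fromSpecStalk x = T.hom
  have h1 : (Spec A).fromSpecStalk x = Spec.map (K624.IntBiratSch.ts x) := Spec.fromSpecStalk_eq _ _
  rw [h1, Category.assoc, ← Spec.map_comp, hl]
  exact toSpecΓ_gm T

noncomputable def isLimit (x : Spec A) : IsLimit (cone x) where
  lift s := (exists_lift fun n => s.π.app n).some
  fac s n := hom_ext (V := n.O) _ _
  uniq s m _ := by
    have : Mono (Over.mk ((Spec A).fromSpecStalk x)).hom := inferInstanceAs (Mono ((Spec A).fromSpecStalk x))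
    exact hom_ext (V := Over.mk ((Spec A).fromSpecStalk x)) _ _

end

end K624.LocSys
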