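import Groth.Agent.AlgSp.K617.EtFin2
import Mathlib.AlgebraicGeometry.Morphisms.QuasiSeparated
import Groth.Agent.Sga3C.IrrComp

/-!
# The loci `GE f n` of a quasi-compact separated étale morphism are quasi-compact
-/

set_option autoImplicit false
universe u
open CategoryTheory CategoryTheory.Limits AlgebraicGeometry Topology TopologicalSpace

namespace K624.GECompact

open K617.EtFin

theorem quasiCompact_of_isClosed_range {X Y : Scheme.{u}} (U : X.Opens) (f : X ⟶ Y) [QuasiCompact f]
    (hU : IsClosed (U : Set X)) : QuasiCompact (U.ι ≫ f) := by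
  have : QuasiCompact U.ι := by
    refine ⟨fun V hV hVc => ?_⟩
    have h1 : IsCompact ((U : Set X) ∩ V) := hVc.inter_left hU
    rw [U.ι.isOpenEmbedding.isInducing.isCompact_iff]
    have h2 : U.ι '' (U.ι ⁻¹' V) = (U : Set X) ∩ V := by
      rw [Set.image_preimage_eq_range_inter, Scheme.Opens.range_ι]
    rw [h2]
    exact h1
  infer_instance

theorem quasiCompact_offSnd {Y T : Scheme.{u}} (f : Y ⟶ T) [Etale f] [IsSeparated f] [QuasiCompact f] :
    QuasiCompact (offSnd f) := by
  refine quasiCompact_of_isClosed_range (offDiag f) (pullback.snd f f) ?_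
  exact ((pullback.diagonal f).isOpenEmbedding.isOpen_range).isClosed_compl

/-- The locus where a quasi-compact separated étale morphism has at least `n` geometric points in its fibres is
quasi-compact when the target is. -/
theorem isCompact_GE (n : ℕ) : ∀ {Y T : Scheme.{u}} (f : Y ⟶ T) [Etale f] [IsSeparated f]
    [QuasiCompact f] [CompactSpace T], IsCompact (GE f n) := by
  induction n with
  | zero =>
    intro Y T f _ _ _ _
    rw [GE_zero]
    exact isCompact_univ
  | succ n ih =>
    intro Y T f _ _ _ _
    rw [GE_succ_eq_image]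
    have := quasiCompact_offSnd f
    have : CompactSpace Y := QuasiCompact.compactSpace_of_compactSpace f
    exact (ih (offSnd f)).image f.continuous

/-- Bounded number of geometric points in the fibre over a given point. -/
theorem exists_notMem_GE {Y T : Scheme.{u}} (f : Y ⟶ T) [Etale f] [QuasiCompact f] (t : T) :
    ∃ n, t ∉ GE f n := by
  have sq : IsPullback (pullback.fst f (frf T t)) (pullback.snd f (frf T t)) f (frf T t) :=
    IsPullback.of_hasPullback _ _
  have h1 : Etale (pullback.snd f (frf T t)) := inferInstance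
  have h2 : CompactSpace ↥(pullback f (frf T t)) :=
    QuasiCompact.compactSpace_of_compactSpace (pullback.snd f (frf T t))
  obtain ⟨n, hn⟩ := GE_eq_empty_of_compactSpace (k := T.residueField t) (pullback.snd f (frf T t))
  refine ⟨n, fun h => ?_⟩
  have h3 := (mem_GE_of_isPullback sq n (pt (T.residueField t))).2 (by rw [frf_apply]; exact h)
  rw [hn] at h3
  exact h3

/-- A maximal point has a neighbourhood disjoint from a given quasi-compact open not containing it. -/
theorem exists_disjoint_nbhd {X : Scheme.{u}} [QuasiSeparatedSpace X] (u : X)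
    (hu : ∀ z : X, z ⤳ u → z = u) (C : Set X) (hC : IsOpen C) (hCc : IsCompact C) (huC : u ∉ C) :
    ∃ W : Set X, IsOpen W ∧ u ∈ W ∧ Disjoint W C := by
  have hgen : u ∈ genericPoints X := by
    refine ⟨isIrreducible_singleton.closure, fun s hs hus => ?_⟩
    obtain ⟨z, hz⟩ := QuasiSober.sober hs.closure isClosed_closure
    have hzu : z ⤳ u := by
      rw [specializes_iff_mem_closure, hz.def]
      exact subset_closure (hus (subset_closure rfl))
    rw [hu z hzu] at hz
    change s ⊆ closure {u}
    rw [hz.def]
    exact subset_closure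
  have h1 : ∀ x ∈ C, ∃ A B : Set X, IsOpen A ∧ IsOpen B ∧ x ∈ A ∧ u ∈ B ∧ Disjoint A B := by
    intro x hx
    exact Groth.Agent.Sga3C.IrrComp.exists_disjoint_opens x u hgen
      (fun h => huC (h.mem_open hC hx))
  choose! A B hA hB hxA huB hAB using h1
  obtain ⟨t, ht⟩ := hCc.elim_finite_subcover (fun x : C => A x) (fun x => hA x x.2)
    (fun x hx => Set.mem_iUnion.2 ⟨⟨x, hx⟩, hxA x hx⟩)
  refine ⟨⋂ x ∈ t, B x, t.finite_toSet.isOpen_biInter fun x _ => hB x x.2, ?_, ?_⟩
  · exact Set.mem_iInter₂.2 fun x _ => huB x x.2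
  · rw [Set.disjoint_left]
    intro y hy hyC
    obtain ⟨x, hx⟩ := Set.mem_iUnion.1 (ht hyC)
    obtain ⟨hxt, hyA⟩ := Set.mem_iUnion.1 hx
    exact Set.disjoint_left.1 (hAB x x.2) hyA (Set.mem_iInter₂.1 hy x hxt)

end K624.GECompact
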