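import Groth.Agent.AlgSp.K624.AnBC2

/-!
# Sections of the base change; the unit section
-/

set_option autoImplicit false
universe u

open CategoryTheory CategoryTheory.Limits AlgebraicGeometry Opposite MonoidalCategory MonObj
open AlgSp K595.ChBase K902.Slice K624.GrpBC K622.AnDefs

namespace K624.AnBC

section

variable {S S' : Scheme.{u}} {g : S ⟶ S'}

/-- The map `h_{T} ⟶ X` over `S'` attached to a map `h_T ⟶ j⁻¹ X` over `S`. -/
def fl {X : Sp S'} {T : Over S} (f : (yon S).obj T ⟶ (R g).obj X) : (yon S').obj ((Over.map g).obj T) ⟶ X :=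
  homOf (F := X) (f.hom.app (op T) (⟨𝟙 T⟩ : ULift (T ⟶ T)))

theorem fl_injective {X : Sp S'} {T : Over S} {f f' : (yon S).obj T ⟶ (R g).obj X} (h : fl f = fl f') : f = f' := by
  rw [eq_homOf f, eq_homOf f']
  exact congrArg (homOf (F := (R g).obj X)) (homOf_inj (F := X) (T := (Over.map g).obj T) h)

theorem fl_comp {X Y : Sp S'} {T : Over S} (f : (yon S).obj T ⟶ (R g).obj X) (y : X ⟶ Y) :
    fl (f ≫ (R g).map y) = fl f ≫ y := by
  unfold fl
  rw [homOf_comp]
  rfl

theorem fl_pre {X : Sp S'} {T T' : Over S} (e : T' ⟶ T) (f : (yon S).obj T ⟶ (R g).obj X) :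
    fl ((yon S).map e ≫ f) = (yon S').map ((Over.map g).map e) ≫ fl f := by
  unfold fl
  rw [yon_map_homOf]
  congr 1
  change f.hom.app (op T') (⟨𝟙 T' ≫ e⟩ : ULift (T' ⟶ T)) = _
  rw [Category.id_comp]
  exact hom_app_apply f e

theorem fl_yonIsoR (Γ : Over S') :
    fl (yonIsoR (g := g) Γ).hom = (yon S').map ((Over.mapPullbackAdj g).counit.app Γ) := by
  rw [eq_homOf ((yon S').map ((Over.mapPullbackAdj g).counit.app Γ))]
  unfold fl
  congr 1

/-- The unit section of the base change. -/
theorem eta_left (G : Over (pt S')) [GrpObj G] :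
    η[(F g).obj G].left = (ptIso g).inv ≫ (R g).map η[G].left := by
  have h1 : η[(F g).obj G] = Functor.LaxMonoidal.ε (F g) ≫ (F g).map η[G] := rfl
  rw [h1, Over.comp_left]
  have h2 : IsTerminal ((R g).obj (pt S')) := IsTerminal.isTerminalObj (R g) _ (K596.QC2.isTerminalYon S')
  exact congrArg (· ≫ (R g).map η[G].left) (h2.hom_ext _ _)

/-- The map to the base change of a scheme attached to a map over `S'`. -/
noncomputable def bcLift {Γ T : Over S'} {T' : Over S} (e : T ⟶ Γ) (l : T'.left ⟶ T.left)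
    (hl : l ≫ T.hom = T'.hom ≫ g) : T' ⟶ Over.mk (pullback.snd Γ.hom g) :=
  Over.homMk (pullback.lift (l ≫ e.left) T'.hom (by rw [Category.assoc, Over.w, hl])) (pullback.lift_snd _ _ _)

theorem key {Γ T : Over S'} {T' : Over S} (e : T ⟶ Γ) {X : Sp S'} (j : (yon S').obj Γ ⟶ X) (x : pt S' ⟶ X)
    (he : (yon S').map e ≫ j =
      (yon S').map (Over.homMk T.hom (Category.comp_id T.hom) : T ⟶ Over.mk (𝟙 S')) ≫ x)
    (l : T'.left ⟶ T.left) (hl : l ≫ T.hom = T'.hom ≫ g) :
    (yon S).map (bcLift e l hl) ≫ (yonIsoR (g := g) Γ).hom ≫ (R g).map j =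
      (yon S).map (Over.homMk T'.hom (Category.comp_id T'.hom) : T' ⟶ Over.mk (𝟙 S)) ≫
        (ptIso g).inv ≫ (R g).map x := by
  apply fl_injective
  rw [fl_pre, fl_comp, fl_yonIsoR, fl_pre, fl_comp, ← Functor.map_comp_assoc]
  have h1 : (Over.map g).map (bcLift e l hl) ≫ (Over.mapPullbackAdj g).counit.app Γ =
      (Over.homMk l hl : (Over.map g).obj T' ⟶ T) ≫ e := by
    ext
    change pullback.lift (l ≫ e.left) T'.hom _ ≫ pullback.fst _ _ = l ≫ e.left
    rw [pullback.lift_fst]
  rw [h1, Functor.map_comp_assoc, he, ← Category.assoc, ← Category.assoc]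
  exact congrArg (· ≫ x) ((K596.QC2.isTerminalYon S').hom_ext _ _)

end

/-- Near the points of the base the unit section lies in an open subscheme: base change. -/
theorem unitSch_bc {R R₁ : Type u} [CommRing R] [CommRing R₁] [Algebra R R₁] [Algebra.IsIntegral R R₁]
    {G : Over (pt (Spec (CommRingCat.of R)))} [GrpObj G] (h : UnitSch R G) :
    UnitSch R₁ ((F (Spec.map (CommRingCat.ofHom (algebraMap R R₁)))).obj G) := by
  intro q'
  have hq' := q'.isMaximal
  have hq : (q'.asIdeal.comap (algebraMap R R₁)).IsMaximal := Ideal.isMaximal_comap_of_isIntegral_of_isMaximal _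
  obtain ⟨Γ, j, T, e, hj, hsep, hlft, hqc, hT, he⟩ := h ⟨_, hq⟩
  subst hT
  let g : Spec (CommRingCat.of R₁) ⟶ Spec (CommRingCat.of R) := Spec.map (CommRingCat.ofHom (algebraMap R R₁))
  let lr : Localization.AtPrime (q'.asIdeal.comap (algebraMap R R₁)) →+* Localization.AtPrime q'.asIdeal :=
    Localization.localRingHom _ _ (algebraMap R R₁) rfl
  let T' : Over (Spec (CommRingCat.of R₁)) :=
    Over.mk (Spec.map (CommRingCat.ofHom (algebraMap R₁ (Localization.AtPrime q'.asIdeal))))
  have hl : Spec.map (CommRingCat.ofHom lr) ≫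
      Spec.map (CommRingCat.ofHom (algebraMap R (Localization.AtPrime (q'.asIdeal.comap (algebraMap R R₁))))) =
      T'.hom ≫ g := by
    change _ = Spec.map _ ≫ Spec.map _
    rw [← Spec.map_comp, ← Spec.map_comp, ← CommRingCat.ofHom_comp, ← CommRingCat.ofHom_comp]
    congr 2
    ext a
    exact Localization.localRingHom_to_map _ _ _ rfl a
  refine ⟨Over.mk (pullback.snd Γ.hom g), (yonIsoR (g := g) Γ).hom ≫ (K595.ChBase.R g).map j, T',
    bcLift e (Spec.map (CommRingCat.ofHom lr)) hl, ?_, inferInstanceAs (IsSeparated (pullback.snd Γ.hom g)),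
    inferInstanceAs (LocallyOfFiniteType (pullback.snd Γ.hom g)),
    inferInstanceAs (QuasiCompact (pullback.snd Γ.hom g)), rfl, ?_⟩
  · exact (repWith_cancel_left _ _).2 (repWith_R (g := g) hj)
  · rw [eta_left]
    exact key e j η[G].left he _ hl

/-- A global open subscheme containing the unit section. -/
theorem unitSch_of {R : Type u} [CommRing R] {G : Over (pt (Spec (CommRingCat.of R)))} [GrpObj G]
    (Γ : Over (Spec (CommRingCat.of R))) (j : (yon (Spec (CommRingCat.of R))).obj Γ ⟶ G.left)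
    (e : pt (Spec (CommRingCat.of R)) ⟶ (yon (Spec (CommRingCat.of R))).obj Γ)
    (hj : RepWith @IsOpenImmersion j) (hs : IsSeparated Γ.hom) (hf : LocallyOfFiniteType Γ.hom)
    (hq : QuasiCompact Γ.hom) (he : e ≫ j = η[G].left) : UnitSch R G := by
  intro q
  obtain ⟨e₀, rfl⟩ := (yon (Spec (CommRingCat.of R))).map_surjective e
  refine ⟨Γ, j, _, Over.homMk (Spec.map (CommRingCat.ofHom (algebraMap R (Localization.AtPrime q.asIdeal))) ≫
    e₀.left) (by
      rw [Category.assoc, Over.w]
      exact Category.comp_id _), hj, hs, hf, hq, rfl, ?_⟩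
  have h1 : (Over.homMk (Spec.map (CommRingCat.ofHom (algebraMap R (Localization.AtPrime q.asIdeal))) ≫
      e₀.left) (by
      rw [Category.assoc, Over.w]
      exact Category.comp_id _) : Over.mk (Spec.map (CommRingCat.ofHom
        (algebraMap R (Localization.AtPrime q.asIdeal)))) ⟶ Γ) =
      (Over.homMk (Spec.map (CommRingCat.ofHom (algebraMap R (Localization.AtPrime q.asIdeal))))
        (Category.comp_id _) : Over.mk (Spec.map (CommRingCat.ofHom
        (algebraMap R (Localization.AtPrime q.asIdeal)))) ⟶ Over.mk (𝟙 _)) ≫ e₀ := by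
    ext
    rfl
  rw [h1, Functor.map_comp_assoc, he]
  rfl

end K624.AnBC
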