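import Groth.Agent.AlgSp.K622.AnDefs2
import Groth.Agent.AlgSp.K624.AnBC3
import Groth.Agent.AlgSp.K93.RFEx

/-!
# Assembly of the core of theorem B from arcs, models and `CoreD`
-/

set_option autoImplicit false
universe u

open CategoryTheory CategoryTheory.Limits AlgebraicGeometry MonoidalCategory MonObj
open AlgSp K595.ChBase K624.GrpBC K624.AnBC K622.AnDefs K622.AnDefs2 K93.RedFib

namespace K624.AnAsm

/-- Arcs over all sufficiently large finite extensions. -/
def ArcG : Prop :=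
  ∀ (R K : Type u) [CommRing R] [IsDedekindDomain R] [Finite (MaximalSpectrum R)] (_ : ¬ IsField R)
    [Field K] [Algebra R K] [IsFractionRing R K]
    (G : Over ((yon (Spec (CommRingCat.of R))).obj (Over.mk (𝟙 (Spec (CommRingCat.of R)))))) [GrpObj G],
    IsAlgSpace G.left → LocP @LocallyOfFiniteType G.hom → (IsSeparatedSp G.left ∨ G.left.obj.IsRepresentable) →
    K632.FlatClos.FlatSp G.left → UnitSch R G →
    Large K (fun K₂ => ∀ (R₂ : Type u) [CommRing R₂] [IsDedekindDomain R₂] [Finite (MaximalSpectrum R₂)]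
      [Algebra R R₂] [Algebra.IsIntegral R R₂] [Algebra R₂ K₂] [IsFractionRing R₂ K₂] [Algebra R K₂]
      [IsScalarTower R K K₂] [IsScalarTower R R₂ K₂],
      ∃ D : HData R₂ K₂ ((F (Spec.map (CommRingCat.ofHom (algebraMap R R₂)))).obj G),
        ∀ q₂ : MaximalSpectrum R₂, Nonempty (Arc R₂ K₂ D q₂))

/-- Good models over all sufficiently large finite extensions. -/
def ModN : Prop :=
  ∀ (R K : Type u) [CommRing R] [IsDedekindDomain R] [Finite (MaximalSpectrum R)] (_ : ¬ IsField R)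
    [Field K] [Algebra R K] [IsFractionRing R K]
    (G M : Over ((yon (Spec (CommRingCat.of R))).obj (Over.mk (𝟙 (Spec (CommRingCat.of R))))))
    [GrpObj G] (act : GAction G M) (X : Sp (Spec (CommRingCat.of R))) (i : X ⟶ M.left),
    Sit act i → FibClosed i → (IsSeparatedSp G.left ∨ G.left.obj.IsRepresentable) →
    K632.FlatClos.FlatSp G.left → K632.FlatClos.FlatSp M.left → OrbFlat act →
    ∀ (Xs : Over (Spec (CommRingCat.of R))) (_ : (yon (Spec (CommRingCat.of R))).obj Xs ≅ X),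
    Large K (fun K₂ => ∀ (R₂ : Type u) [CommRing R₂] [IsDedekindDomain R₂] [Finite (MaximalSpectrum R₂)]
      [Algebra R R₂] [Algebra.IsIntegral R R₂] [Algebra R₂ K₂] [IsFractionRing R₂ K₂] [Algebra R K₂]
      [IsScalarTower R K K₂] [IsScalarTower R R₂ K₂] (X₂ : Scheme.{u}) (f₂ : X₂ ⟶ Spec (CommRingCat.of R₂))
      (ι₂ : X₂ ⟶ Xs.left) (_ : IsPullback ι₂ f₂ Xs.hom (Spec.map (CommRingCat.ofHom (algebraMap R R₂)))),
      HasModels K₂ f₂)

/-- **The core** from arcs, models and `CoreD`. -/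
theorem overDed (hA : ArcG.{u}) (hMod : ModN.{u}) (hC : CoreD.{u}) : OverDed.{u} := by
  intro R _ _ _ hR G M _ act X i hS hF hGs hGf hMf hO hU hX
  obtain ⟨Xs, ⟨r⟩⟩ := hX.has_representation
  let eX : (yon (Spec (CommRingCat.of R))).obj Xs ≅ X := isoOfRepresentableBy r
  let K := FractionRing R
  obtain ⟨K₁, _, _, _, h⟩ := (hA R K hR G hS.algG hS.lftG hGs hGf hU).and
    (hMod R K hR G M act X i hS hF hGs hGf hMf hO Xs eX)
  let _ : Algebra R K₁ := ((algebraMap K K₁).comp (algebraMap R K)).toAlgebra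
  have : IsScalarTower R K K₁ := IsScalarTower.of_algebraMap_eq fun _ => rfl
  have := isDedekindDomain_ic R K K₁
  have := finite_ic R K K₁ hR
  have := isFractionRing_ic R K K₁
  obtain ⟨h1, h2⟩ := h K₁
  obtain ⟨D, hD⟩ := h1 (integralClosure R K₁)
  let g := gic R K₁
  have hS₁ := sit g hS
  refine concl_ic R K K₁ (hC (integralClosure R K₁) K₁ (not_isField_ic R K K₁ hR) ((F g).obj G) ((F g).obj M)
    (gact g act) ((K595.ChBase.R g).obj X) ((K595.ChBase.R g).map i) hS₁ (fibClosed g hF) (flatSp_R g hS.algG hGf)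
    (flatSp_R g hS.algM hMf) (K612.OrbFlat.main _ _ hS₁) D hD (Over.mk (pullback.snd Xs.hom g))
    (yonIsoR (g := g) Xs ≪≫ (K595.ChBase.R g).mapIso eX) ?_)
  exact h2 (integralClosure R K₁) (pullback Xs.hom g) (pullback.snd Xs.hom g) (pullback.fst Xs.hom g)
    (IsPullback.of_hasPullback _ _)

end K624.AnAsm
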