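import Groth.Agent.AlgSp.K624.AnBC
import Groth.Agent.VarietyB.KrullAkizuki
import Mathlib.NumberTheory.RamificationInertia.Basic

/-!
# The integral closure of a semi-local Dedekind domain in a finite extension: base change of theorem B
-/

set_option autoImplicit false
set_option linter.deprecated false
universe u

open CategoryTheory CategoryTheory.Limits AlgebraicGeometry Opposite
open AlgSp K595.ChBase K902.Slice K624.GrpBC K622.AnDefs
open scoped TensorProduct

namespace K624.AnBC

section ring

/-- `k ⊗ R₁` is of dimension at most `[L : K]`. -/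
theorem finite_tensor {R : Type u} (K : Type u) {L : Type u} [CommRing R] [Field K] [Field L] [Algebra R K]
    [Algebra K L] [Algebra R L] [IsScalarTower R K L] [IsDedekindDomain R] [IsFractionRing R K]
    [FiniteDimensional K L] (k : Type u) [Field k] [Algebra R k] (A : Type u) [CommRing A] [Algebra R A] [Algebra A L]
    [IsScalarTower R A L] (hA : Function.Injective (algebraMap A L)) : Module.Finite k (k ⊗[R] A) := by
  let f' : A →ₗ[R] k ⊗[R] A := (Algebra.TensorProduct.includeRight : A →ₐ[R] k ⊗[R] A).toLinearMap
  have hspan : Submodule.span k (Set.range f') = ⊤ := by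
    rw [eq_top_iff]
    rintro x -
    induction x using TensorProduct.induction_on with
    | zero => exact zero_mem _
    | tmul c a =>
      have : c ⊗ₜ[R] a = c • f' a := by
        simp [f', TensorProduct.smul_tmul']
      rw [this]
      exact Submodule.smul_mem _ _ (Submodule.subset_span ⟨a, rfl⟩)
    | add x y hx hy => exact add_mem hx hy
  obtain ⟨b, hb1, hb2, hb3⟩ := exists_linearIndependent k (Set.range f')
  have hb4 : ∀ x : b, ∃ a : A, f' a = x := fun x => hb1 x.2
  choose c hc using hb4
  have hlin : LinearIndependent k (f' ∘ c) := by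
    have : f' ∘ c = ((↑) : b → k ⊗[R] A) := funext hc
    rw [this]
    exact hb3
  have hlin2 := Ideal.FinrankQuotientMap.linearIndependent_of_nontrivial (R := R) (S := k) K (V := L) (V' := k ⊗[R] A)
    (V'' := A) (by
      intro h
      have : (1 : R) ∈ RingHom.ker (algebraMap R k) := by rw [h]; trivial
      rw [RingHom.mem_ker, map_one] at this
      exact one_ne_zero this) ((IsScalarTower.toAlgHom R A L).toLinearMap) hA f' hlin
  have hfin : Finite b := hlin2.finite
  refine ⟨⟨(Set.toFinite b).toFinset, ?_⟩⟩
  rw [Set.Finite.coe_toFinset, hb2, hspan]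

/-- The spectrum of `R₁` over that of `R`. -/
theorem finFib {R : Type u} (K : Type u) {L : Type u} [CommRing R] [Field K] [Field L] [Algebra R K]
    [Algebra K L] [Algebra R L] [IsScalarTower R K L] [IsDedekindDomain R] [IsFractionRing R K]
    [FiniteDimensional K L] (A : Type u) [CommRing A] [Algebra R A] [Algebra A L]
    [IsScalarTower R A L] (hA : Function.Injective (algebraMap A L)) :
    FinFib (Spec.map (CommRingCat.ofHom (algebraMap R A))) := by
  intro k _ t
  obtain ⟨φ, rfl⟩ := Spec.map_surjective t
  algebraize [φ.hom]
  have h1 := finite_tensor (R := R) K (L := L) k A hA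
  have h2 : IsArtinianRing (k ⊗[R] A) := IsArtinianRing.of_finite k _
  have h3 : Finite (PrimeSpectrum (k ⊗[R] A)) := inferInstance
  have e : pullback (Spec.map φ) (Spec.map (CommRingCat.ofHom (algebraMap R A))) ≅
    Spec (CommRingCat.of (k ⊗[R] A)) := pullbackSpecIso R k A
  have h4 : Finite ↥(Spec (CommRingCat.of (k ⊗[R] A))) := h3
  exact Finite.of_injective e.hom.homeomorph e.hom.homeomorph.injective

end ring

section dedekind

variable (R K L : Type u) [CommRing R] [Field K] [Field L] [Algebra R K] [Algebra K L] [Algebra R L]
  [IsScalarTower R K L] [IsDedekindDomain R] [IsFractionRing R K] [FiniteDimensional K L]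

include K in
theorem isDedekindDomain_ic : IsDedekindDomain (integralClosure R L) := by
  have h1 : IsNoetherianRing (integralClosure R L) :=
    Groth.Agent.VarietyB.KrullAkizuki.krullAkizuki (R := R) (K := K) (L := L) (A := integralClosure R L)
      Subtype.val_injective
  have h2 : Ring.DimensionLEOne (integralClosure R L) := inferInstance
  have h3 : IsIntegrallyClosed (integralClosure R L) := integralClosure.isIntegrallyClosedOfFiniteExtension K
  exact { }

include K in
theorem isFractionRing_ic : IsFractionRing (integralClosure R L) L :=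
  integralClosure.isFractionRing_of_finite_extension K L

omit [IsDedekindDomain R] [FiniteDimensional K L] in
include K in
theorem injective_algebraMap_ic : Function.Injective (algebraMap R (integralClosure R L)) := by
  have h1 : Function.Injective (algebraMap R L) := by
    rw [IsScalarTower.algebraMap_eq R K L]
    exact (algebraMap K L).injective.comp (IsFractionRing.injective R K)
  intro a b hab
  exact h1 (congrArg Subtype.val hab)

include K in
theorem not_isField_ic (h : ¬ IsField R) : ¬ IsField (integralClosure R L) := fun h1 =>
  h (isField_of_isIntegral_of_isField (injective_algebraMap_ic R K L) h1)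

include K in
theorem finite_ic [Finite (MaximalSpectrum R)] (h : ¬ IsField R) :
    Finite (MaximalSpectrum (integralClosure R L)) := by
  have hD := isDedekindDomain_ic R K L
  have hinj := injective_algebraMap_ic R K L
  obtain ⟨r, hr0, hr⟩ : ∃ r : R, r ≠ 0 ∧ ∀ q : MaximalSpectrum R, r ∈ q.asIdeal := by
    have := Fintype.ofFinite (MaximalSpectrum R)
    have h1 : ∀ q : MaximalSpectrum R, ∃ a : R, a ∈ q.asIdeal ∧ a ≠ 0 := fun q =>
      Submodule.exists_mem_ne_zero_of_ne_bot (Ring.ne_bot_of_isMaximal_of_not_isField q.isMaximal h)
    choose a ha ha0 using h1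
    exact ⟨∏ q, a q, Finset.prod_ne_zero_iff.2 fun q _ => ha0 q, fun q =>
      Ideal.mem_of_dvd _ (Finset.dvd_prod_of_mem a (Finset.mem_univ q)) (ha q)⟩
  let s := algebraMap R (integralClosure R L) r
  have hs0 : s ≠ 0 := fun h0 => hr0 (hinj (by rw [map_zero]; exact h0))
  have hfin : (Ideal.span {s}).minimalPrimes.Finite := Ideal.finite_minimalPrimes_of_isNoetherianRing _ _
  have hmem : ∀ m : MaximalSpectrum (integralClosure R L), m.asIdeal ∈ (Ideal.span {s}).minimalPrimes := by
    intro m
    have hm := m.isMaximal
    have hcm : (m.asIdeal.comap (algebraMap R (integralClosure R L))).IsMaximal :=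
      Ideal.isMaximal_comap_of_isIntegral_of_isMaximal m.asIdeal
    have hsm : Ideal.span {s} ≤ m.asIdeal := by
      rw [Ideal.span_singleton_le_iff_mem]
      exact hr ⟨_, hcm⟩
    obtain ⟨p, hp, hpm⟩ := Ideal.exists_minimalPrimes_le hsm
    have hp1 : p.IsPrime := hp.1.1
    have hp0 : p ≠ ⊥ := by
      rintro rfl
      exact hs0 (Ideal.mem_bot.1 (hp.1.2 (Ideal.mem_span_singleton_self s)))
    have hpmax : p.IsMaximal := Ring.DimensionLEOne.maximalOfPrime hp0 hp1
    rwa [← hpmax.eq_of_le hm.ne_top hpm]
  have := hfin.to_subtype
  exact Finite.of_injective (fun m => (⟨m.asIdeal, hmem m⟩ : (Ideal.span {s}).minimalPrimes)) fun a b hab =>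
    MaximalSpectrum.ext (congrArg Subtype.val hab)

/-- `Spec R₁ ⟶ Spec R`. -/
noncomputable abbrev gic : Spec (CommRingCat.of (integralClosure R L)) ⟶ Spec (CommRingCat.of R) :=
  Spec.map (CommRingCat.ofHom (algebraMap R (integralClosure R L)))

instance isIntegralHom_gic : IsIntegralHom (gic R L) := by
  rw [IsIntegralHom.SpecMap_iff]
  exact Algebra.IsIntegral.isIntegral (R := R) (A := integralClosure R L)

include K in
theorem surjective_gic : Surjective (gic R L) := by
  constructor
  intro p
  exact (algebraMap_isIntegral_iff.2 inferInstance).comap_surjective (injective_algebraMap_ic R K L) p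

include K in
theorem finFib_gic : FinFib (gic R L) :=
  finFib (R := R) K (L := L) (integralClosure R L) Subtype.val_injective

include K in
/-- `Concl` descends from `R₁` to `R`. -/
theorem concl_ic {X : Sp (Spec (CommRingCat.of R))} (h : Concl ((K595.ChBase.R (gic R L)).obj X)) : Concl X := by
  have := surjective_gic R K L
  exact concl (finFib_gic R K L) h

end dedekind

end K624.AnBC
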