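import Groth.Agent.AlgSp.K622.AnDefs
import Groth.Agent.CurvSt.K902.SliceMor
import Mathlib.CategoryTheory.Monoidal.Grp
import Mathlib.CategoryTheory.Sites.LocallySurjective

/-!
# Base change of group algebraic spaces and actions along a morphism of base schemes
-/

set_option autoImplicit false
universe u

open CategoryTheory CategoryTheory.Limits AlgebraicGeometry Opposite MonoidalCategory CartesianMonoidalCategory MonObj
open AlgSp K595.ChBase

namespace K624.GrpBC

section general

variable {S S' : Scheme.{u}} {B' : Sp S'} {B : Sp S} (Φ : Over B' ⥤ Over B) [Φ.Monoidal]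

/-- The image of an action under a monoidal functor. -/
noncomputable def gactMap {G M : Over B'} [GrpObj G] [GrpObj (Φ.obj G)]
    (hη : η[Φ.obj G] = Functor.LaxMonoidal.ε Φ ≫ Φ.map η[G])
    (hμ : μ[Φ.obj G] = Functor.LaxMonoidal.μ Φ G G ≫ Φ.map μ[G]) (a : GAction G M) :
    GAction (Φ.obj G) (Φ.obj M) where
  act := Functor.LaxMonoidal.μ Φ G M ≫ Φ.map a.act
  one_act := by
    rw [hη, comp_whiskerRight, Category.assoc, Functor.LaxMonoidal.μ_natural_left_assoc, ← Φ.map_comp, a.one_act,
      Functor.LaxMonoidal.left_unitality]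
  mul_act := by
    rw [hμ, comp_whiskerRight, Category.assoc, Functor.LaxMonoidal.μ_natural_left_assoc, ← Φ.map_comp, a.mul_act,
      Φ.map_comp, Φ.map_comp, Functor.LaxMonoidal.associativity_assoc, MonoidalCategory.whiskerLeft_comp,
      Category.assoc, Functor.LaxMonoidal.μ_natural_right_assoc]

end general

variable {S S' : Scheme.{u}} (g : S ⟶ S')

variable (S) in
/-- The final object. -/
abbrev pt : Sp S := (yon S).obj (Over.mk (𝟙 S))

/-- `j⁻¹` of the final object. -/
noncomputable def ptIso : (R g).obj (pt S') ≅ pt S :=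
  IsTerminal.uniqueUpToIso (IsTerminal.isTerminalObj (R g) _ (K596.QC2.isTerminalYon S')) (K596.QC2.isTerminalYon S)

/-- The base change of objects over the final object. -/
noncomputable def F : Over (pt S') ⥤ Over (pt S) := Over.post (R g) ⋙ Over.map (ptIso g).hom

theorem F_obj_left (G : Over (pt S')) : ((F g).obj G).left = (R g).obj G.left := rfl

theorem F_obj_hom (G : Over (pt S')) : ((F g).obj G).hom = (R g).map G.hom ≫ (ptIso g).hom := rfl

theorem F_map_left {G H : Over (pt S')} (f : G ⟶ H) : ((F g).map f).left = (R g).map f.left := rfl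

instance : (R g).IsRightAdjoint := ⟨_, ⟨adj g⟩⟩

noncomputable instance : (Over.post (X := pt S') (R g)).IsRightAdjoint := inferInstance

noncomputable instance : (F g).IsRightAdjoint := by
  have : (Over.map (ptIso g).hom).IsEquivalence := inferInstance
  unfold F
  infer_instance

noncomputable instance instPres : PreservesFiniteProducts (F g) := ⟨fun _ => inferInstance⟩

noncomputable instance instMon : (F g).Monoidal := Functor.Monoidal.ofChosenFiniteProducts _

noncomputable instance instGrp (G : Over (pt S')) [GrpObj G] : GrpObj ((F g).obj G) := Functor.grpObjObj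

/-- The base change of an action. -/
noncomputable def gact {G M : Over (pt S')} [GrpObj G] (a : GAction G M) : GAction ((F g).obj G) ((F g).obj M) :=
  gactMap (F g) rfl rfl a

theorem gact_act {G M : Over (pt S')} [GrpObj G] (a : GAction G M) :
    (gact g a).act = Functor.LaxMonoidal.μ (F g) G M ≫ (F g).map a.act := rfl

theorem lift_act {G M : Over (pt S')} [GrpObj G] (a : GAction G M) :
    lift (gact g a).act (snd ((F g).obj G) ((F g).obj M)) =
      Functor.LaxMonoidal.μ (F g) G M ≫ (F g).map (lift a.act (snd G M)) ≫ Functor.OplaxMonoidal.δ (F g) M M := by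
  apply CartesianMonoidalCategory.hom_ext
  · rw [lift_fst, Category.assoc, Category.assoc, Functor.OplaxMonoidal.δ_fst, ← Functor.map_comp, lift_fst, gact_act]
  · rw [lift_snd, Category.assoc, Category.assoc, Functor.OplaxMonoidal.δ_snd, ← Functor.map_comp, lift_snd,
      Functor.Monoidal.μ_snd]

theorem imageSieve_R {A B : Sp S'} (f : A ⟶ B) {T : Over S} (s : ((R g).obj B).obj.obj (op T)) :
    Presheaf.imageSieve ((R g).map f).hom s =
      (Presheaf.imageSieve (U := (Over.map g).obj T) f.hom s).functorPullback (Over.map g) := rfl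

instance epi_R {A B : Sp S'} (f : A ⟶ B) [Epi f] : Epi ((R g).map f) := by
  have h1 : Sheaf.IsLocallySurjective f := (Sheaf.isLocallySurjective_iff_epi f).2 inferInstance
  refine (Sheaf.isLocallySurjective_iff_epi _).1 ⟨fun {T} s => ?_⟩
  rw [imageSieve_R]
  have : (Over.map g).IsCocontinuous (J S) (J S') :=
    inferInstanceAs ((Over.map g).IsCocontinuous (Scheme.fppfTopology.over _) (Scheme.fppfTopology.over _))
  exact (Over.map g).cover_lift (J S) (J S') (h1.imageSieve_mem _)

theorem epi_lift_act {G M : Over (pt S')} [GrpObj G] (a : GAction G M) (h : Epi (lift a.act (snd G M)).left) :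
    Epi (lift (gact g a).act (snd ((F g).obj G) ((F g).obj M))).left := by
  rw [lift_act, Over.comp_left, Over.comp_left, F_map_left]
  have h1 : IsIso (Functor.LaxMonoidal.μ (F g) G M) := inferInstance
  have h2 : IsIso (Functor.OplaxMonoidal.δ (F g) M M) := inferInstance
  have h3 : IsIso (Functor.LaxMonoidal.μ (F g) G M).left :=
    inferInstanceAs (IsIso ((Over.forget (pt S)).map (Functor.LaxMonoidal.μ (F g) G M)))
  have h4 : IsIso (Functor.OplaxMonoidal.δ (F g) M M).left :=
    inferInstanceAs (IsIso ((Over.forget (pt S)).map (Functor.OplaxMonoidal.δ (F g) M M)))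
  have h5 : Epi ((R g).map (lift a.act (snd G M)).left) := inferInstance
  exact epi_comp' inferInstance (epi_comp' h5 inferInstance)

end K624.GrpBC
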