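import Groth.Agent.AlgSp.K612.ArcDefs
import Groth.Agent.AlgSp.K612.NodeUFin
import Groth.Agent.AlgSp.K601.EnlRep
import Groth.Agent.AlgSp.K624.AnAsm

/-!
# Theorem B from arcs, models and `CoreD`
-/

set_option autoImplicit false
universe u

namespace K624.AnThmB

theorem thmB (hA : K612.ArcDefs.ArcG.{u}) (hM : K624.AnAsm.ModN.{u}) (hC : K622.AnDefs2.CoreD.{u}) :
    K622.AnDefs.ThmB.{u} :=
  K612.NodeUFin.thmB (K624.AnAsm.overDed
    (fun R K _ _ _ hR _ _ _ G _ h1 h2 h3 h4 h5 => hA R K hR G h1 h2 h4 h3 h5) hM hC) K601.EnlRep.nodeF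

end K624.AnThmB
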