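import Mathlib.AlgebraicGeometry.PullbackCarrier
import Mathlib.AlgebraicGeometry.Fiber
import Mathlib.AlgebraicGeometry.Morphisms.Flat
import Mathlib.AlgebraicGeometry.Morphisms.UniversallyOpen

/-!
# Generic points of the fibres and base change

`exists_gen`: in a cartesian square a generization inside a fibre lifts. `isMax_translate`: the scheme theoretic part
of "the translate of a point by a generic arc is a maximal point of its fibre".
-/

set_option autoImplicit false
universe u

open CategoryTheory CategoryTheory.Limits AlgebraicGeometry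

namespace K624.C4Sch

/-- In a cartesian square a generization of `snd p` in the fibre of `g` lifts to a generization of `p`. -/
theorem exists_gen {P X Y Z : Scheme.{u}} {fst : P ⟶ X} {snd : P ⟶ Y} {f : X ⟶ Z} {g : Y ⟶ Z}
    (sq : IsPullback fst snd f g) (p : P) (y' : Y) (h : y' ⤳ snd p) (hg : g y' = g (snd p)) :
    ∃ p' : P, p' ⤳ p ∧ snd p' = y' := by
  have hz : g (snd p) = f (fst p) := by
    rw [← Scheme.Hom.comp_apply, ← Scheme.Hom.comp_apply, sq.w]
  let ex := X.fromSpecResidueField (fst p)
  let ez := Z.fromSpecResidueField (f (fst p))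
  let r : Spec (X.residueField (fst p)) ⟶ Spec (Z.residueField (f (fst p))) := Spec.map (f.residueFieldMap (fst p))
  have hr : r ≫ ez = ex ≫ f := Scheme.Hom.SpecMap_residueFieldMap_fromSpecResidueField _ _
  have hrflat : Flat r := by
    refine (HasRingHomProperty.Spec_iff (P := @Flat)).mpr ?_
    let _ : Algebra (Z.residueField (f (fst p))) (X.residueField (fst p)) := (f.residueFieldMap (fst p)).hom.toAlgebra
    exact (inferInstance : Module.Flat (Z.residueField (f (fst p))) (X.residueField (fst p)))
  have sqY := IsPullback.of_hasPullback g ez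
  have sqP := IsPullback.of_hasPullback (pullback.snd g ez) r
  have sq1 : IsPullback (pullback.snd (pullback.snd g ez) r) (pullback.fst (pullback.snd g ez) r ≫ pullback.fst g ez)
      (ex ≫ f) g := by
    rw [← hr]
    exact (sqP.paste_horiz sqY.flip.flip).flip
  let l : pullback (pullback.snd g ez) r ⟶ P := sq.lift (pullback.snd _ r ≫ ex)
    (pullback.fst _ r ≫ pullback.fst g ez) (by rw [Category.assoc, sq1.w])
  have hl1 : l ≫ fst = pullback.snd _ r ≫ ex := sq.lift_fst _ _ _
  have hl2 : l ≫ snd = pullback.fst _ r ≫ pullback.fst g ez := sq.lift_snd _ _ _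
  have sq2 : IsPullback l (pullback.snd _ r) fst ex := by
    refine IsPullback.of_right ?_ hl1 sq.flip
    rw [hl2]
    exact sq1.flip
  obtain ⟨p₁, hp₁, -⟩ := Scheme.exists_preimage_of_isPullback sq2 p (IsLocalRing.closedPoint _) (by
    exact (Scheme.fromSpecResidueField_apply _ _).symm)
  obtain ⟨y₁, hy₁, -⟩ := Scheme.Pullback.exists_preimage_pullback (f := g) (g := ez) y' (IsLocalRing.closedPoint _) (by
    rw [hg, hz]
    exact (Scheme.fromSpecResidueField_apply _ _).symm)
  have h1 : (pullback.fst g ez) ((pullback.fst _ r) p₁) = snd p := by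
    rw [← Scheme.Hom.comp_apply, ← hl2, Scheme.Hom.comp_apply]
    exact congrArg snd hp₁
  have h2 : y₁ ⤳ (pullback.fst (pullback.snd g ez) r) p₁ := by
    rw [← (pullback.fst g ez).isEmbedding.isInducing.specializes_iff, h1, hy₁]
    exact h
  obtain ⟨p₂, hp₂, hp₂'⟩ := Flat.generalizingMap (pullback.fst (pullback.snd g ez) r) h2
  refine ⟨l p₂, ?_, ?_⟩
  · have h3 := hp₂.map l.continuous
    rwa [show l p₁ = p from hp₁] at h3
  · rw [← Scheme.Hom.comp_apply, hl2, Scheme.Hom.comp_apply, hp₂', hy₁]

section translate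

variable {S Γ X P' : Scheme.{u}} (f : Γ ⟶ S) (g : X ⟶ S) (π : P' ⟶ S) (c : P' ⟶ Γ) (hc : c ≫ f = π)
  {E : Scheme.{u}} (ex : E ⟶ X)

/-- The inclusion of the fibre over `ex`. -/
noncomputable abbrev fibι : pullback (ex ≫ g) π ⟶ pullback g π :=
  pullback.lift (pullback.fst _ _ ≫ ex) (pullback.snd _ _) (by rw [Category.assoc]; exact pullback.condition)

theorem isPullback_fibι : IsPullback (fibι g π ex) (pullback.fst (ex ≫ g) π) (pullback.fst g π) ex := by
  refine IsPullback.of_right ?_ (pullback.lift_fst _ _ _) (IsPullback.of_hasPullback g π).flip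
  rw [pullback.lift_snd]
  exact (IsPullback.of_hasPullback (ex ≫ g) π).flip

include hc in
theorem isPullback_theta (t : E ⟶ S) :
    IsPullback (pullback.snd t π) (pullback.lift (pullback.snd t π ≫ c) (pullback.fst t π)
      (by rw [Category.assoc, hc]; exact pullback.condition.symm) : pullback t π ⟶ pullback f t) c
      (pullback.fst f t) := by
  refine IsPullback.of_bot ?_ (pullback.lift_fst _ _ _).symm (IsPullback.of_hasPullback f t)
  rw [pullback.lift_snd, hc]
  exact (IsPullback.of_hasPullback t π).flip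

include hc in
/-- The translate of a point by a generic arc is a maximal point of its fibre. -/
theorem isMax_translate (hmax : ∀ (p : P') (y : Γ), y ⤳ c p → f y = f (c p) → y = c p)
    (w : pullback g π ⟶ X) (z : ↥(pullback g π))
    (hz : ∀ z', z' ⤳ z → pullback.fst g π z' = pullback.fst g π z → z' = z)
    [IsPreimmersion ex] [Subsingleton ↥E] (e : E) (he : ex e = pullback.fst g π z)
    {W : Scheme.{u}} (jW : W ⟶ pullback f (ex ≫ g)) [IsOpenImmersion jW] (h : W ⟶ pullback g (ex ≫ g)) [Flat h]
    (θ' : pullback (ex ≫ g) π ⟶ W)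
    (h1 : θ' ≫ jW ≫ pullback.fst _ _ = pullback.snd _ _ ≫ c)
    (h2 : θ' ≫ h ≫ pullback.fst _ _ = fibι g π ex ≫ w)
    (h3 : θ' ≫ jW ≫ pullback.snd _ _ = pullback.fst _ _) (u : X) (hu : u ⤳ w z) (hgu : g u = g (w z)) :
    u = w z := by
  let t : E ⟶ S := ex ≫ g
  -- the point of the fibre
  obtain ⟨z₁, hz₁, -⟩ := Scheme.exists_preimage_of_isPullback (isPullback_fibι g π ex) z e he.symm
  have hz₁' : fibι g π ex z₁ = z := hz₁
  have hpre : IsPreimmersion (fibι g π ex) :=
    MorphismProperty.of_isPullback (P := @IsPreimmersion) (isPullback_fibι g π ex).flip inferInstance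
  have hmz : ∀ z₂, z₂ ⤳ z₁ → z₂ = z₁ := by
    intro z₂ h
    apply (fibι g π ex).isEmbedding.injective
    rw [hz₁']
    refine hz _ ?_ ?_
    · have := h.map (fibι g π ex).continuous
      rwa [hz₁'] at this
    · rw [← he, ← Scheme.Hom.comp_apply, (isPullback_fibι g π ex).w, Scheme.Hom.comp_apply]
      congr 1
      exact Subsingleton.elim _ _
  -- its image in `W₀`
  let θ : pullback t π ⟶ pullback f t := pullback.lift (pullback.snd t π ≫ c) (pullback.fst t π)
    (by rw [Category.assoc, hc]; exact pullback.condition.symm)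
  have hθ : θ' ≫ jW = θ := by
    apply pullback.hom_ext
    · rw [Category.assoc, h1, pullback.lift_fst]
    · rw [Category.assoc, h3, pullback.lift_snd]
  have hmθ : ∀ y, y ⤳ θ z₁ → y = θ z₁ := by
    intro y hy
    have hfst : pullback.fst f t (θ z₁) = c (pullback.snd t π z₁) := by
      rw [← Scheme.Hom.comp_apply, pullback.lift_fst, Scheme.Hom.comp_apply]
    have hy1 : pullback.fst f t y = pullback.fst f t (θ z₁) := by
      rw [hfst]
      refine hmax _ _ ?_ ?_
      · have := hy.map (pullback.fst f t).continuous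
        rwa [hfst] at this
      · have h5 : ∀ v : ↥(pullback f t), f (pullback.fst f t v) = t (pullback.snd f t v) := fun v => by
          rw [← Scheme.Hom.comp_apply, pullback.condition, Scheme.Hom.comp_apply]
        rw [← hfst, h5, h5]
        exact congrArg t (Subsingleton.elim _ _)
    obtain ⟨z₂, hz₂, hz₂'⟩ := exists_gen (isPullback_theta f π c hc t) z₁ y hy hy1
    rw [← hz₂', hmz z₂ hz₂]
  -- in `W`
  have hmW : ∀ y, y ⤳ θ' z₁ → y = θ' z₁ := by
    intro y hy
    apply jW.isOpenEmbedding.injective
    have h4 : jW (θ' z₁) = θ z₁ := by rw [← Scheme.Hom.comp_apply, hθ]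
    rw [h4]
    refine hmθ _ ?_
    have := hy.map jW.continuous
    rwa [h4] at this
  -- in `X₀`
  have hmX : ∀ y, y ⤳ h (θ' z₁) → y = h (θ' z₁) := by
    intro y hy
    obtain ⟨y', hy', hy''⟩ := Flat.generalizingMap h hy
    rw [← hy'', hmW y' hy']
  have hw1 : pullback.fst g t (h (θ' z₁)) = w z := by
    rw [← Scheme.Hom.comp_apply, ← Scheme.Hom.comp_apply, h2, Scheme.Hom.comp_apply, hz₁']
  obtain ⟨y, hy, hy'⟩ := exists_gen (IsPullback.of_hasPullback g t).flip (h (θ' z₁)) u (by rw [hw1]; exact hu)
    (by rw [hw1]; exact hgu)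
  rw [← hy', hmX y hy, hw1]

end translate

end K624.C4Sch
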