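import Groth.Agent.AlgSp.K622.CoreC
import Groth.Agent.AlgSp.K624.C4Sch
import Groth.Agent.AlgSp.K622.Trans

/-!
# Generic translates are maximal points of the fibres (Node C4)
-/

set_option autoImplicit false
universe u

open CategoryTheory CategoryTheory.Limits AlgebraicGeometry MonoidalCategory CartesianMonoidalCategory MonObj AlgSp

namespace K624.CoreC4

open K622.AnDefs K622.AnDefs2 K622.CoreC K612.OrbFlat K624.C4Sch

noncomputable section

variable {S : Scheme.{u}}

/-- The product of schemes over `S`. -/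
abbrev prd (A B : Over S) : Over S := Over.mk (pullback.fst A.hom B.hom ≫ A.hom)

abbrev prdFst (A B : Over S) : prd A B ⟶ A := Over.homMk (pullback.fst A.hom B.hom)

abbrev prdSnd (A B : Over S) : prd A B ⟶ B := Over.homMk (pullback.snd A.hom B.hom) pullback.condition.symm

theorem isPullback_prd (A B : Over S) :
    IsPullback ((yon S).map (prdFst A B)) ((yon S).map (prdSnd A B)) (st A) (st B) := by
  have h1 : IsPullback (prdFst A B) (prdSnd A B) (Over.homMk A.hom (Category.comp_id A.hom) : A ⟶ Over.mk (𝟙 S))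
      (Over.homMk B.hom (Category.comp_id B.hom) : B ⟶ Over.mk (𝟙 S)) := by
    refine IsPullback.of_map (Over.forget S) ?_ (IsPullback.of_hasPullback A.hom B.hom)
    ext
    exact pullback.condition
  exact h1.map (yon S)

variable {N : Over ((yon S).obj (Over.mk (𝟙 S)))} {A : Over S} (j : (yon S).obj A ⟶ N.left) (T : Over S)

/-- The base change to `T` of the morphism `j : h_A ⟶ N`. -/
def jT : (yon S).obj (prd A T) ⟶ pullback N.hom (st T) :=
  pullback.lift ((yon S).map (prdFst A T) ≫ j) ((yon S).map (prdSnd A T)) hom_ext1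

theorem jT_fst : jT j T ≫ pullback.fst _ _ = (yon S).map (prdFst A T) ≫ j := pullback.lift_fst _ _ _

theorem jT_snd : jT j T ≫ pullback.snd _ _ = (yon S).map (prdSnd A T) := pullback.lift_snd _ _ _

theorem isPullback_jT : IsPullback ((yon S).map (prdFst A T)) (jT j T) j (pullback.fst N.hom (st T)) := by
  refine IsPullback.of_bot (v₂₁ := pullback.snd N.hom (st T)) (v₂₂ := N.hom) (h₃₁ := st T) ?_ (jT_fst j T).symm
    (IsPullback.of_hasPullback N.hom (st T))
  rw [jT_snd, show j ≫ N.hom = st A from hom_ext1]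
  exact isPullback_prd A T

theorem repWith_jT (hj : RepWith @IsOpenImmersion j) : RepWith @IsOpenImmersion (jT j T) :=
  MorphismProperty.of_isPullback (P := RepWith @IsOpenImmersion) (isPullback_jT j T) hj

theorem etale_of_open {A B : Sp S} {f : A ⟶ B} (h : RepWith @IsOpenImmersion f) : RepWith @Etale f :=
  K609.Points.repWith_mono (fun _ h => by have := h; infer_instance) h

/-- Maximality of a translate, abstract form: `o` is a flat morphism `G_T ⟶ M_T` over `T = Spec κ(x)`. -/
theorem main_gen {G M : Over ((yon S).obj (Over.mk (𝟙 S)))} {Γ X P' : Over S}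
    (j : (yon S).obj Γ ⟶ G.left) (hj : RepWith @IsOpenImmersion j)
    (k : (yon S).obj X ⟶ M.left) (hk : RepWith @IsOpenImmersion k) (c : P' ⟶ Γ)
    (hmax : ∀ (p : P'.left) (y : Γ.left), y ⤳ c.left p → Γ.hom y = Γ.hom (c.left p) → y = c.left p)
    (w : prd X P' ⟶ X) (z : ↥(pullback X.hom P'.hom))
    (hz : ∀ z', z' ⤳ z → pullback.fst X.hom P'.hom z' = pullback.fst X.hom P'.hom z → z' = z)
    {E : Scheme.{u}} (ex : E ⟶ X.left) [IsPreimmersion ex] [Subsingleton ↥E] (e : E)
    (he : ex e = pullback.fst X.hom P'.hom z)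
    (o : pullback G.hom (st (Over.mk (ex ≫ X.hom))) ⟶ pullback M.hom (st (Over.mk (ex ≫ X.hom))))
    (ho : LocP @Flat o) (ho2 : o ≫ pullback.snd _ _ = pullback.snd _ _)
    (hrel : ∀ N : (yon S).obj (prd (Over.mk (ex ≫ X.hom)) P') ⟶ pullback G.hom (st (Over.mk (ex ≫ X.hom))),
      N ≫ pullback.fst _ _ = (yon S).map (prdSnd (Over.mk (ex ≫ X.hom)) P' ≫ c) ≫ j →
      N ≫ pullback.snd _ _ = (yon S).map (prdFst (Over.mk (ex ≫ X.hom)) P') →
      N ≫ o ≫ pullback.fst _ _ =
        (yon S).map ((Over.homMk (fibι X.hom P'.hom ex) (by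
          change fibι X.hom P'.hom ex ≫ pullback.fst _ _ ≫ X.hom = pullback.fst _ _ ≫ ex ≫ X.hom
          rw [pullback.lift_fst_assoc, Category.assoc]) : prd (Over.mk (ex ≫ X.hom)) P' ⟶ prd X P') ≫ w) ≫ k)
    (u : X.left) (hu : u ⤳ w.left z) (hgu : X.hom u = X.hom (w.left z)) : u = w.left z := by
  let T : Over S := Over.mk (ex ≫ X.hom)
  let F : Over S := prd T P'
  let ιF : F ⟶ prd X P' := Over.homMk (fibι X.hom P'.hom ex) (by
    change fibι X.hom P'.hom ex ≫ pullback.fst _ _ ≫ X.hom = pullback.fst _ _ ≫ ex ≫ X.hom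
    rw [pullback.lift_fst_assoc, Category.assoc])
  have hcw : c.left ≫ Γ.hom = P'.hom := Over.w c
  let θ : F ⟶ prd Γ T := Over.homMk (pullback.lift (pullback.snd T.hom P'.hom ≫ c.left) (pullback.fst T.hom P'.hom)
    (by rw [Category.assoc, hcw]; exact pullback.condition.symm)) (by
      change pullback.lift _ _ _ ≫ pullback.fst _ _ ≫ Γ.hom = pullback.fst _ _ ≫ T.hom
      rw [pullback.lift_fst_assoc, Category.assoc, hcw]
      exact pullback.condition.symm)
  have hww : w.left ≫ X.hom = pullback.fst X.hom P'.hom ≫ X.hom := Over.w w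
  let v : F ⟶ prd X T := Over.homMk (pullback.lift (fibι X.hom P'.hom ex ≫ w.left) (pullback.fst T.hom P'.hom)
    (by rw [Category.assoc, hww, pullback.lift_fst_assoc, Category.assoc]; rfl)) (by
      change pullback.lift _ _ _ ≫ pullback.fst _ _ ≫ X.hom = pullback.fst _ _ ≫ T.hom
      rw [pullback.lift_fst_assoc, Category.assoc, hww, pullback.lift_fst_assoc, Category.assoc]
      rfl)
  -- the open subscheme `V` of `Γ ×_S T`
  obtain ⟨V, jV, fst, sq⟩ := (repWith_jT k T hk).1 (jT j T ≫ o)
  obtain ⟨h, rfl⟩ := (yon S).map_surjective fst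
  have hjV : IsOpenImmersion jV.left := (repWith_jT k T hk).2 _ _ _ sq
  have hflat : Flat h.left := by
    refine ho ((yon S).map jV ≫ jT j T) (jT k T) h ?_ ?_ (by rw [Category.assoc]; exact sq.w.symm)
    · exact MorphismProperty.comp_mem _ _ _ ((repWith_yon_map_iff _ _).2 inferInstance)
        (etale_of_open (repWith_jT j T hj))
    · exact etale_of_open (repWith_jT k T hk)
  have hcond : (yon S).map v ≫ jT k T = (yon S).map θ ≫ jT j T ≫ o := by
    have hN1 : ((yon S).map θ ≫ jT j T) ≫ pullback.fst _ _ = (yon S).map (prdSnd T P' ≫ c) ≫ j := by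
      rw [Category.assoc, jT_fst, ← Category.assoc, ← Functor.map_comp]
      congr 2
      ext
      exact pullback.lift_fst _ _ _
    have hN2 : ((yon S).map θ ≫ jT j T) ≫ pullback.snd _ _ = (yon S).map (prdFst T P') := by
      rw [Category.assoc, jT_snd, ← Functor.map_comp]
      congr 1
      ext
      exact pullback.lift_snd _ _ _
    have h1 := hrel ((yon S).map θ ≫ jT j T) hN1 hN2
    apply pullback.hom_ext
    · rw [Category.assoc, jT_fst, ← Category.assoc, ← Functor.map_comp, Category.assoc, Category.assoc,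
        ← Category.assoc ((yon S).map θ), h1]
      congr 2
      ext
      exact pullback.lift_fst _ _ _
    · rw [Category.assoc, jT_snd, ← Functor.map_comp, Category.assoc, Category.assoc, ho2,
        ← Category.assoc ((yon S).map θ), hN2]
      congr 1
      ext
      exact pullback.lift_snd _ _ _
  obtain ⟨θ', hθ'⟩ := (yon S).map_surjective (sq.lift ((yon S).map v) ((yon S).map θ) hcond)
  have e1 : θ' ≫ h = v := (yon S).map_injective (by rw [Functor.map_comp, hθ', sq.lift_fst])
  have e2 : θ' ≫ jV = θ := (yon S).map_injective (by rw [Functor.map_comp, hθ', sq.lift_snd])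
  have e1' : θ'.left ≫ h.left = v.left := congrArg (fun t => t.left) e1
  have e2' : θ'.left ≫ jV.left = θ.left := congrArg (fun t => t.left) e2
  refine isMax_translate Γ.hom X.hom P'.hom c.left hcw ex hmax w.left z hz e he jV.left h.left θ'.left ?_ ?_ ?_ u hu hgu
  · rw [← Category.assoc, e2']
    exact pullback.lift_fst _ _ _
  · rw [← Category.assoc, e1']
    exact pullback.lift_fst _ _ _
  · rw [← Category.assoc, e2']
    exact pullback.lift_snd _ _ _

theorem locP_iso_comp {P : MorphismProperty Scheme.{u}} {A B C : Sp S} (e : A ⟶ B) [IsIso e] {f : B ⟶ C}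
    (h : LocP P f) : LocP P (e ≫ f) := by
  intro U V a b k ha hb w
  refine h (a ≫ e) b k ?_ hb (by rw [Category.assoc, w])
  exact ((RepWith (S := S) @Etale).cancel_right_of_respectsIso a e).2 ha

section inv

variable {G : Over ((yon S).obj (Over.mk (𝟙 S)))} [GrpObj G] (T : Over S)

/-- The inversion of `G_T`. -/
def invT : pullback G.hom (st T) ⟶ pullback G.hom (st T) :=
  pullback.lift (K612.OrbFlat.inv (pullback.fst _ _)) (pullback.snd _ _) hom_ext1

theorem invT_fst : invT (G := G) T ≫ pullback.fst _ _ = K612.OrbFlat.inv (pullback.fst _ _) :=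
  pullback.lift_fst _ _ _

theorem invT_snd : invT (G := G) T ≫ pullback.snd _ _ = pullback.snd _ _ := pullback.lift_snd _ _ _

theorem inv_inv' {F : Sp S} (g : F ⟶ G.left) : K612.OrbFlat.inv (K612.OrbFlat.inv g) = g := by
  have h := inv_mul_cancel' (K612.OrbFlat.inv g) g
  rw [K612.OrbFlat.inv_mul'] at h
  have h2 : mul (K612.OrbFlat.inv (K612.OrbFlat.inv g)) ((1 : ov F ⟶ G).left) =
      K612.OrbFlat.inv (K612.OrbFlat.inv g) := by
    have h1 := congrArg (fun f => f.left) (_root_.mul_one (up (K612.OrbFlat.inv (K612.OrbFlat.inv g))))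
    exact h1
  rw [← h2]
  exact h

theorem invT_invT : invT (G := G) T ≫ invT (G := G) T = 𝟙 _ := by
  apply pullback.hom_ext
  · rw [Category.assoc, invT_fst, comp_inv, invT_fst, inv_inv', Category.id_comp]
  · rw [Category.assoc, invT_snd, invT_snd, Category.id_comp]

instance isIso_invT : IsIso (invT (G := G) T) := ⟨invT (G := G) T, invT_invT (G := G) T, invT_invT (G := G) T⟩

end inv

open K622.FibPts in
theorem nodeC4 : NodeC4.{u} := by
  intro R K _ _ _ _ _ G M _ act X i hS hO D q A Xs eX w w' hw hw' z hz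
  let P' : Over (Spec (CommRingCat.of R)) := Over.mk (Spec.map (CommRingCat.ofHom A.φ))
  have hk : RepWith @IsOpenImmersion (eX.hom ≫ i) :=
    ((RepWith (S := Spec (CommRingCat.of R)) @IsOpenImmersion).cancel_left_of_respectsIso eX.hom i).2 hS.op
  have hmax : ∀ (p : P'.left) (y : A.Γ.left), y ⤳ A.c.left p → A.Γ.hom y = A.Γ.hom (A.c.left p) →
      y = A.c.left p := by
    intro p y h1 h2
    rcases K622.Trans.eq_bot_or_eq_max (P := A.P) p with h | h
    · have hp : p = (⊥ : PrimeSpectrum A.P) := PrimeSpectrum.ext h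
      subst hp
      exact A.max_gen y h1 h2
    · have hp : p = IsLocalRing.closedPoint A.P := PrimeSpectrum.ext h
      subst hp
      exact A.max_closed y h1 h2
  let x : Xs.left := pullback.fst Xs.hom P'.hom z
  let ex : Spec (CommRingCat.of (Xs.left.residueField x)) ⟶ Xs.left := Xs.left.fromSpecResidueField x
  let xM : (yon _).obj (Over.mk (ex ≫ Xs.hom)) ⟶ M.left :=
    pt i eX (Over.homMk ex : Over.mk (ex ≫ Xs.hom) ⟶ Xs)
  have hpre : IsPreimmersion ex := inferInstanceAs (IsPreimmersion (Xs.left.fromSpecResidueField x))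
  have hss : Subsingleton ↥(Spec (CommRingCat.of (Xs.left.residueField x))) :=
    inferInstanceAs (Subsingleton (PrimeSpectrum (Xs.left.residueField x)))
  have hex : ex (IsLocalRing.closedPoint (Xs.left.residueField x)) = x := Scheme.fromSpecResidueField_apply _ _
  let T : Over (Spec (CommRingCat.of R)) := Over.mk (ex ≫ Xs.hom)
  have hflat : LocP @Flat (orb act xM) := hO (Xs.left.residueField x) (ex ≫ Xs.hom) xM
  let ιF : prd T P' ⟶ prd Xs P' := Over.homMk (fibι Xs.hom P'.hom ex) (by
    change fibι Xs.hom P'.hom ex ≫ pullback.fst _ _ ≫ Xs.hom = pullback.fst _ _ ≫ ex ≫ Xs.hom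
    rw [pullback.lift_fst_assoc, Category.assoc])
  have hι1 : ιF ≫ prdSnd Xs P' = prdSnd T P' := by
    ext
    exact pullback.lift_snd _ _ _
  have hι2 : (ιF ≫ prdFst Xs P' : prd T P' ⟶ Xs) = prdFst T P' ≫ (Over.homMk ex : Over.mk (ex ≫ Xs.hom) ⟶ Xs) := by
    ext
    exact pullback.lift_fst _ _ _
  have e1 : (yon _).map ιF ≫ ((yon _).map (prdSnd Xs P' ≫ A.c) ≫ A.j) =
      (yon _).map (prdSnd T P' ≫ A.c) ≫ A.j := by
    rw [← Category.assoc, ← Functor.map_comp, ← Category.assoc ιF, hι1]
  have e2 : (yon _).map ιF ≫ pt i eX (prdFst Xs P') = (yon _).map (prdFst T P') ≫ xM := by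
    change (yon _).map ιF ≫ (yon _).map (prdFst Xs P') ≫ eX.hom ≫ i =
      (yon _).map (prdFst T P') ≫ (yon _).map _ ≫ eX.hom ≫ i
    rw [← Category.assoc, ← Functor.map_comp, hι2, Functor.map_comp, Category.assoc]
  constructor
  · refine fun u hu hgu => main_gen A.j A.openImm (eX.hom ≫ i) hk A.c hmax w z hz ex
      (IsLocalRing.closedPoint (Xs.left.residueField x)) hex (orb act xM) hflat (orb_snd act xM) ?_ u hu hgu
    intro N hN1 hN2
    rw [orb_fst, comp_op, ← Category.assoc N, hN1, hN2, ← e1, ← e2, ← comp_op, Functor.map_comp, Category.assoc]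
    exact congrArg ((yon _).map ιF ≫ ·) hw.symm
  · refine fun u hu hgu => main_gen A.j A.openImm (eX.hom ≫ i) hk A.c hmax w' z hz ex
      (IsLocalRing.closedPoint (Xs.left.residueField x)) hex (invT (G := G) T ≫ orb act xM)
      (locP_iso_comp _ hflat) (by rw [Category.assoc, orb_snd, invT_snd]) ?_ u hu hgu
    intro N hN1 hN2
    rw [Category.assoc, orb_fst, comp_op, comp_op, ← Category.assoc (invT T), invT_snd, invT_fst, comp_inv, hN1,
      ← Category.assoc N, hN2, ← e1, ← e2, ← comp_inv, ← comp_op, Functor.map_comp, Category.assoc]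
    exact congrArg ((yon _).map ιF ≫ ·) hw'.symm

end

end K624.CoreC4
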