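import Groth.Agent.AlgSp.K616.DimInv
import Groth.Agent.AlgSp.K621.Base
import Groth.Agent.Sga3C.DimTop
import Groth.Agent.S9683

/-!
# Dimension of algebraic spaces through affine charts, and integral morphisms
-/

set_option autoImplicit false
universe u
open CategoryTheory CategoryTheory.Limits AlgebraicGeometry Topology TopologicalSpace

namespace K624.DimInt

open AlgSp

variable {S : Scheme.{u}}

/-- The topological dimension of a scheme is at most `d` iff all its local rings have dimension at most `d`. -/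
theorem topologicalKrullDim_le_iff (U : Scheme.{u}) (d : WithBot ℕ∞) :
    topologicalKrullDim ↥U ≤ d ↔ ∀ u : U, ringKrullDim ↥(U.presheaf.stalk u) ≤ d := by
  have h1 : topologicalKrullDim ↥U =
      ⨆ v : ↥U, ((@Order.coheight _ (specializationOrder _).toPreorder v : ℕ∞) : WithBot ℕ∞) :=
    (Groth.Agent.Sga3C.DimTop.topologicalKrullDim_eq_krullDim (X := ↥U)).trans
      (@Order.krullDim_eq_iSup_coheight _ (specializationOrder ↥U).toPreorder)
  rw [h1, iSup_le_iff]
  refine forall_congr' fun u => ?_
  rw [ringKrullDim_stalk_eq_coheight]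

theorem stalkDim_le_topologicalKrullDim (U : Scheme.{u}) (u : U) :
    ringKrullDim ↥(U.presheaf.stalk u) ≤ topologicalKrullDim ↥U :=
  (topologicalKrullDim_le_iff U _).1 le_rfl u

theorem topologicalKrullDim_le_dim {F : Sp S} {U : Over S} (a : (yon S).obj U ⟶ F)
    (ha : RepWith @Etale a) : topologicalKrullDim ↥U.left ≤ dim F :=
  le_iSup_of_le U (le_iSup_of_le a (le_iSup_of_le ha le_rfl))

theorem stalkDim_le_dim {F : Sp S} {U : Over S} (a : (yon S).obj U ⟶ F)
    (ha : RepWith @Etale a) (u : ↥U.left) : ringKrullDim ↥(U.left.presheaf.stalk u) ≤ dim F :=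
  (stalkDim_le_topologicalKrullDim _ u).trans (topologicalKrullDim_le_dim a ha)

/-- `dim F ≤ d` can be tested on one étale chart around each point. -/
theorem dim_le_of_forall_exists {F : Sp S} (d : WithBot ℕ∞)
    (h : ∀ x : Points F, ∃ (U : Over S) (a : (yon S).obj U ⟶ F) (u : ↥U.left),
      RepWith @Etale a ∧ Points.ofPt a u = x ∧ ringKrullDim ↥(U.left.presheaf.stalk u) ≤ d) :
    dim F ≤ d := by
  refine iSup_le fun V => iSup_le fun b => iSup_le fun hb => ?_
  rw [topologicalKrullDim_le_iff]
  intro v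
  obtain ⟨U, a, u, ha, hu, hd⟩ := h (Points.ofPt b v)
  obtain ⟨W, p, q, w, -, e1, e2, hw1, hw2⟩ := K616.Inv.exists_chart_refinement a b ha hb u v hu
  have h2 := K616.DimInv.ringKrullDim_stalk_eq_of_etale p.left w
  have h3 := K616.DimInv.ringKrullDim_stalk_eq_of_etale q.left w
  rw [hw1] at h2
  rw [hw2] at h3
  rw [← h3, h2]
  exact hd

/-- Every point of an algebraic space lies on an affine étale chart. -/
theorem exists_affine_chart {F : Sp S} (hF : IsAlgSpace F) (x : Points F) :
    ∃ (V : Over S) (b : (yon S).obj V ⟶ F) (v : ↥V.left), IsAffine V.left ∧ RepWith @Etale b ∧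
      Points.ofPt b v = x := by
  obtain ⟨V, b, v, hb, hv⟩ := K621.Base.exists_chart hF x
  obtain ⟨O, hvO, -, hO⟩ := K621.Base.exists_affine_openChart v ⊤ trivial
  refine ⟨K621.Base.openChart V O, (yon S).map (K621.Base.openChartι V O) ≫ b,
    show ↥(K621.Base.openChart V O).left from (⟨v, hvO⟩ : O), hO,
    K621.Base.repWith_openChart hb O, ?_⟩
  rw [← hv]
  exact K621.Base.ofPt_openChart b O ⟨v, hvO⟩

/-- Integral morphisms do not raise the dimension. -/
theorem dim_le_of_isIntegralMor {F G : Sp S} (hG : IsAlgSpace G) (f : F ⟶ G)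
    (hf : IsIntegralMor f) : dim F ≤ dim G := by
  refine dim_le_of_forall_exists _ fun x => ?_
  obtain ⟨V, b, v, hV, hb, hv⟩ := exists_affine_chart hG (Points.map f x)
  obtain ⟨W, i, fst, sq, -, hi⟩ := hf hV b
  obtain ⟨w, -, hw⟩ := K621.Base.exists_point_of_isPullback' sq v x hv
  have hfst : RepWith @Etale fst := K621.Base.repWith_baseChange sq.flip hb
  refine ⟨W, fst, w, hfst, hw, (stalkDim_le_topologicalKrullDim _ w).trans ?_⟩
  exact ((Groth.Agent.S9683.result i.left).1).trans (topologicalKrullDim_le_dim b hb)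

/-- Integral surjective morphisms preserve the dimension. -/
theorem dim_le_of_isIntegralMor_of_surjective {F G : Sp S} (hG : IsAlgSpace G) (f : F ⟶ G)
    (hf : IsIntegralMor f) (hs : Function.Surjective (Points.map f)) : dim G ≤ dim F := by
  refine dim_le_of_forall_exists _ fun y => ?_
  obtain ⟨V, b, v, hV, hb, hv⟩ := exists_affine_chart hG y
  obtain ⟨W, i, fst, sq, -, hi⟩ := hf hV b
  have hfst : RepWith @Etale fst := K621.Base.repWith_baseChange sq.flip hb
  have hsurj : Surjective i.left := by
    constructor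
    intro v'
    obtain ⟨x, hx⟩ := hs (Points.ofPt b v')
    obtain ⟨w, hw, -⟩ := K621.Base.exists_point_of_isPullback' sq v' x hx.symm
    exact ⟨w, hw⟩
  refine ⟨V, b, v, hb, hv, (stalkDim_le_topologicalKrullDim _ v).trans ?_⟩
  rw [← (Groth.Agent.S9683.result i.left).2 hsurj]
  exact topologicalKrullDim_le_dim fst hfst

end K624.DimInt
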