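import Groth.Agent.AlgSp.K624.GrpBC
import Groth.Agent.AlgSp.K597.EtLoc
import Groth.Agent.AlgSp.K609.QC

/-!
# Base change of the situation of theorem B
-/

set_option autoImplicit false
universe u

open CategoryTheory CategoryTheory.Limits AlgebraicGeometry Opposite MonoidalCategory CartesianMonoidalCategory MonObj
open AlgSp K595.ChBase K902.Slice K624.GrpBC K622.AnDefs

namespace K624.AnBC

variable {S S' : Scheme.{u}} (g : S ⟶ S')

theorem isPullback_counit {F G : Sp S'} (f : F ⟶ G) :
    IsPullback ((adj g).counit.app F) ((L g).map ((R g).map f)) f ((adj g).counit.app G) := by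
  refine IsPullback.of_bot ?_ ((adj g).counit.naturality f).symm (isPullback_LR (g := g) G).flip
  rw [L_map_projHom]
  have e : f ≫ terminal.from ((𝟭 (Sp S')).obj G) = terminal.from F := Subsingleton.elim _ _
  rw [e]
  exact (isPullback_LR (g := g) F).flip

/-- `j_! j⁻¹ X ⟶ X` is a base change of `h_S ⟶ h_{S'}`. -/
theorem isPullback_counit_yon (X : Sp S') :
    IsPullback (projHom (g := g) ((R g).obj X)) ((adj g).counit.app X)
      ((yon S').map (Over.homMk g : (Over.mk g : Over S') ⟶ Over.mk (𝟙 S')))
      ((K596.QC2.isTerminalYon S').from X) := by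
  refine IsPullback.of_iso (isPullback_LR (g := g) X) (Iso.refl _) (Iso.refl _) (Iso.refl _)
    (IsTerminal.uniqueUpToIso terminalIsTerminal (K596.QC2.isTerminalYon S')) ?_ ?_
    ((K596.QC2.isTerminalYon S').hom_ext _ _) ((K596.QC2.isTerminalYon S').hom_ext _ _)
  · simp
  · simp

theorem repWith_counit {P : MorphismProperty Scheme.{u}} [P.IsStableUnderBaseChange] (hg : P g) (X : Sp S') :
    RepWith P ((adj g).counit.app X) :=
  MorphismProperty.of_isPullback (P := RepWith P) (isPullback_counit_yon g X)
    ((repWith_yon_map_iff _ _).2 hg)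

theorem locP_R {P : MorphismProperty Scheme.{u}} (hP : K597.EtLoc P) [P.IsStableUnderBaseChange] [P.RespectsIso]
    {F G : Sp S'} (hF : IsAlgSpace F) (hG : IsAlgSpace G) {f : F ⟶ G} (h : LocP P f) : LocP P ((R g).map f) :=
  (locP_L_iff (g := g) _).1 (K597.locP_bc hP (isPullback_counit g f) hF.hasAtlas hG.hasAtlas
    (isAlgSpace_L (isAlgSpace_R hG)).hasAtlas h)

theorem isSeparatedSp_R {X : Sp S'} (h : IsSeparatedSp X) : IsSeparatedSp ((R g).obj X) := by
  have h1 : RepWith @IsClosedImmersion ((R g).map (Limits.diag X)) := repWith_R (g := g) h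
  have : PreservesLimitsOfShape (Discrete WalkingPair) (R g) := inferInstance
  have h2 : Limits.diag ((R g).obj X) = (R g).map (Limits.diag X) ≫ prodComparison (R g) X X := by
    apply Limits.prod.hom_ext
    · rw [Category.assoc, Limits.prodComparison_fst, ← Functor.map_comp, Limits.prod.lift_fst, Limits.prod.lift_fst,
        CategoryTheory.Functor.map_id]
    · rw [Category.assoc, Limits.prodComparison_snd, ← Functor.map_comp, Limits.prod.lift_snd, Limits.prod.lift_snd,
        CategoryTheory.Functor.map_id]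
  change RepWith _ _
  rw [h2, repWith_cancel_right]
  exact h1

theorem isQuasiCompactSp_R [QuasiCompact g] {X : Sp S'} (h : IsQuasiCompactSp X) :
    IsQuasiCompactSp ((R g).obj X) := by
  rw [← isQuasiCompactSp_L_iff (g := g)]
  exact K596.QC.isQuasiCompactSp_of_repWith h (repWith_counit g (P := @QuasiCompact) inferInstance X)

theorem isRepresentable_of_iso {T : Over S} {X : Sp S} (e : (yon S).obj T ≅ X) : X.obj.IsRepresentable :=
  ⟨⟨T, ⟨representableByOfIso e⟩⟩⟩

theorem isRepresentable_R {X : Sp S'} (h : X.obj.IsRepresentable) : ((R g).obj X).obj.IsRepresentable := by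
  obtain ⟨Y, ⟨r⟩⟩ := h.has_representation
  exact isRepresentable_of_iso (yonIsoR (g := g) Y ≪≫ (R g).mapIso (isoOfRepresentableBy r))

theorem locP_comp_iso {P : MorphismProperty Scheme.{u}} {F G H : Sp S} {f : F ⟶ G} (h : LocP P f) (e : G ⟶ H)
    [IsIso e] : LocP P (f ≫ e) := by
  intro U V a b k ha hb w
  exact h a (b ≫ inv e) k ha ((repWith_cancel_right _ _).2 hb) (by
    rw [← Category.assoc, ← w, Category.assoc, Category.assoc, IsIso.hom_inv_id, Category.comp_id])

theorem locP_hom {P : MorphismProperty Scheme.{u}} (hP : K597.EtLoc P) [P.IsStableUnderBaseChange] [P.RespectsIso]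
    {G : Over (pt S')} (hG : IsAlgSpace G.left) (h : LocP P G.hom) : LocP P ((F g).obj G).hom :=
  locP_comp_iso (locP_R g hP hG (IsAlgSpace.yon_obj _) h) (ptIso g).hom

theorem flatSp_R {X : Sp S'} (hX : IsAlgSpace X) (h : K632.FlatClos.FlatSp X) : K632.FlatClos.FlatSp ((R g).obj X) := by
  rw [K632.FlatClos.flatSp_iff ((R g).map ((K596.QC2.isTerminalYon S').from X) ≫ (ptIso g).hom)]
  have h1 : LocP @Flat ((K596.QC2.isTerminalYon S').from X) := (K632.FlatClos.flatSp_iff _).1 h
  exact locP_hom g K597.etLoc_flat (G := Over.mk ((K596.QC2.isTerminalYon S').from X)) hX h1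

theorem sit [QuasiCompact g] {G M : Over (pt S')} [GrpObj G] {act : GAction G M} {X : Sp S'} {i : X ⟶ M.left}
    (h : Sit act i) : Sit (gact g act) ((R g).map i) where
  algG := isAlgSpace_R h.algG
  lftG := locP_hom g K597.etLoc_lft h.algG h.lftG
  algM := isAlgSpace_R h.algM
  lftM := locP_hom g K597.etLoc_lft h.algM h.lftM
  sepM := isSeparatedSp_R g h.sepM
  hom := epi_lift_act g act h.hom
  op := repWith_R (g := g) h.op
  qc := isQuasiCompactSp_R g h.qc

theorem fibClosed {X M : Sp S'} {i : X ⟶ M} (h : FibClosed i) : FibClosed ((R g).map i) := by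
  intro k _ t Z V q a v b sq
  have sq1 := (isPullback_L (g := g) sq).paste_horiz (isPullback_counit g i)
  have sq2 : IsPullback (yonHom (g := g) V) ((yon S').map ((Over.map g).map v)) ((L g).map ((yon S).map v))
      (yonHom Z) := IsPullback.of_horiz_isIso ⟨(yonHom_naturality v).symm⟩
  exact h k (t ≫ g) ((Over.map g).obj Z) ((Over.map g).obj V) (Over.homMk q.left (by
    change q.left ≫ t ≫ g = Z.hom ≫ g
    rw [← Category.assoc]
    exact congrArg (· ≫ g) (Over.w q))) _ ((Over.map g).map v) _ (sq2.paste_horiz sq1)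

section Concl

/-- The base changes of the points of `S'` are finite. -/
def FinFib : Prop := ∀ (k : Type u) [Field k] (t : Spec (CommRingCat.of k) ⟶ S'), Finite ↥(pullback t g)

variable {g}

theorem finite_fibre (hg : FinFib g) (X : Sp S') (x : Points X) :
    {p : Points ((L g).obj ((R g).obj X)) | Points.map ((adj g).counit.app X) p = x}.Finite := by
  obtain ⟨K, _, str, a, ha⟩ := K609.Points.exists_field_ofPt x
  let T : Over S' := Over.mk str
  let W : Over S' := Over.mk (pullback.fst str g ≫ str)
  let w1 : W ⟶ T := Over.homMk (pullback.fst _ _)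
  let w2 : W ⟶ Over.mk g := Over.homMk (pullback.snd _ _) pullback.condition.symm
  have sq1 : IsPullback w2 w1 (Over.homMk g : (Over.mk g : Over S') ⟶ Over.mk (𝟙 S'))
      (Over.homMk str : T ⟶ Over.mk (𝟙 S')) := by
    refine IsPullback.of_map (Over.forget S') ?_ (IsPullback.of_hasPullback str g).flip
    ext
    exact pullback.condition.symm
  have sq2 := sq1.map (yon S')
  have sq3 := isPullback_counit_yon g X
  let l : (yon S').obj W ⟶ (L g).obj ((R g).obj X) := sq3.lift ((yon S').map w2) ((yon S').map w1 ≫ a)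
    ((K596.QC2.isTerminalYon S').hom_ext _ _)
  have hl1 : l ≫ projHom (g := g) ((R g).obj X) = (yon S').map w2 := sq3.lift_fst _ _ _
  have hl2 : l ≫ (adj g).counit.app X = (yon S').map w1 ≫ a := sq3.lift_snd _ _ _
  have sq4 : IsPullback l ((yon S').map w1) ((adj g).counit.app X) a := by
    refine IsPullback.of_right ?_ hl2 sq3
    rw [hl1, show a ≫ (K596.QC2.isTerminalYon S').from X = (yon S').map (Over.homMk str : T ⟶ Over.mk (𝟙 S')) from
      (K596.QC2.isTerminalYon S').hom_ext _ _]
    exact sq2
  have hfin : Finite ↥W.left := hg K str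
  refine (Set.finite_range (Points.ofPt l)).subset ?_
  rintro p (hp : Points.map _ p = x)
  obtain ⟨t₀⟩ : Nonempty ↥T.left := inferInstanceAs (Nonempty ↥(Spec (CommRingCat.of K)))
  obtain ⟨q, hq1, hq2⟩ := K609.Points.exists_of_isPullback sq4 p (Points.ofScheme T t₀) (by
    rw [hp, ← Points.ofPt_eq_map_ofScheme, ha])
  obtain ⟨w, rfl⟩ := K609.Points.ofScheme_surjective W q
  exact ⟨w, by rw [Points.ofPt_eq_map_ofScheme, hq1]⟩

theorem finite_preimage (hg : FinFib g) (X : Sp S') {E : Set (Points X)} (hE : E.Finite) :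
    {p : Points ((R g).obj X) | Points.map ((adj g).counit.app X) (lpt g _ p) ∈ E}.Finite := by
  have h1 : {p : Points ((L g).obj ((R g).obj X)) | Points.map ((adj g).counit.app X) p ∈ E}.Finite := by
    have : {p : Points ((L g).obj ((R g).obj X)) | Points.map ((adj g).counit.app X) p ∈ E} =
      ⋃ x ∈ E, {p | Points.map ((adj g).counit.app X) p = x} := by
      ext p; simp
    rw [this]
    exact hE.biUnion fun x _ => finite_fibre hg X x
  have h2 := Set.Finite.preimage (f := lpt g ((R g).obj X)) (lpt_injective (g := g) _).injOn h1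
  exact h2

theorem concl [IsIntegralHom g] [Surjective g] (hg : FinFib g) {X : Sp S'} (h : Concl ((R g).obj X)) : Concl X := by
  obtain ⟨Z, π, h1, h2, h3⟩ := h
  refine ⟨(Over.map g).obj Z, (yonHom (g := g) Z ≫ (L g).map π) ≫ (adj g).counit.app X, ?_, ?_, fun E hE => ?_⟩
  · exact MorphismProperty.comp_mem _ _ _ ((repWith_chart_iff π).2 h1)
      (repWith_counit g (P := @IsIntegralHom) inferInstance X)
  · exact MorphismProperty.comp_mem _ _ _ ((repWith_chart_iff π).2 h2)
      (repWith_counit g (P := @Surjective) inferInstance X)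
  · obtain ⟨U, hU, hU'⟩ := h3 _ (finite_preimage hg X hE)
    refine ⟨U, hU, fun z hz => hU' z ?_⟩
    change Points.map _ (lpt g _ (Points.ofPt π z)) ∈ E
    rw [lpt_ofPt, Points.map_ofPt]
    exact hz

end Concl

end K624.AnBC
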