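import Groth.Agent.AlgSp.K612.NodeU
import Groth.Agent.AlgSp.K624.AnBC3

/-!
# The base change node of theorem B in the form consumed by `K612.NodeU.thmB`
-/

set_option autoImplicit false
universe u

open CategoryTheory CategoryTheory.Limits AlgebraicGeometry Opposite MonoidalCategory MonObj
open AlgSp K595.ChBase K902.Slice K624.GrpBC K622.AnDefs

namespace K624.AnBC

theorem nodeBC : K612.NodeU.NodeBC.{u} := by
  intro R _ _ _ hR K _ _ _ L _ _ _ _ _ G M _ act X i hS hF hG hM
  let g := K612.NodeU.gg R L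
  refine ⟨(F g).obj G, (F g).obj M, inferInstance, gact g act, Iso.refl _, (K595.ChBase.R g).map i, ?_,
    fun h => isSeparatedSp_R g h, sit g hS, fibClosed g hF, flatSp_R g hS.algG hG, flatSp_R g hS.algM hM,
    fun h => concl_ic R K L h⟩
  have h2 : IsTerminal ((K595.ChBase.R g).obj (pt (Spec (CommRingCat.of R)))) :=
    IsTerminal.isTerminalObj (K595.ChBase.R g) _ (K596.QC2.isTerminalYon _)
  rw [eta_left, Iso.refl_hom]
  refine Eq.trans (congrArg (K612.NodeU.ptHom (K612.NodeU.gg R L) ≫ ·) (Category.comp_id _)) ?_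
  exact congrArg (· ≫ (K595.ChBase.R g).map η[G].left) (h2.hom_ext _ _)

end K624.AnBC
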