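import Groth.Agent.AlgSp.K624.AnAsm
import Groth.Agent.AlgSp.K603.ModNode

/-!
# Good models over all sufficiently large finite extensions, in the form used by `K624.AnAsm`
-/

set_option autoImplicit false
universe u
open CategoryTheory CategoryTheory.Limits AlgebraicGeometry MonoidalCategory MonObj AlgSp

namespace K624.AnModN

theorem modN : K624.AnAsm.ModN.{u} := by
  intro R K _ _ _ hR _ _ _ G M _ act X i hS _ _ _ hMf _ Xs e
  exact K603.ModNode.main K hS hMf e

end K624.AnModN
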