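import Groth.Agent.AlgSp.K624.QFCodim1
import Groth.Agent.AlgSp.K616.LocNoeth
import Groth.Agent.AlgSp.K616.DimInv
import Groth.Agent.AlgSp.K621.Generic

/-!
# Quasi-finiteness over points of codimension at most one, for algebraic spaces
-/

set_option autoImplicit false
universe u
open CategoryTheory CategoryTheory.Limits AlgebraicGeometry Topology TopologicalSpace

namespace K624.QFCodim1Sp

open AlgSp K616.Inv K624.QFCodim1

variable {S : Scheme.{u}}

/-- `f` is quasi-finite at the point `x` (same shape as in the statements). -/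
abbrev QFAt {F G : Sp S} (f : F ⟶ G) (x : Points F) : Prop :=
  HasAtMor (fun U _ h u => ∃ W : U.Opens, u ∈ W ∧ LocallyQuasiFinite (W.ι ≫ h) ∧
    LocallyOfFiniteType (W.ι ≫ h)) f x

theorem quasiFiniteAt_iff_near {U V : Scheme.{u}} (h : U ⟶ V) [LocallyOfFiniteType h] (u : U) :
    h.QuasiFiniteAt u ↔
      ∃ W : U.Opens, u ∈ W ∧ LocallyQuasiFinite (W.ι ≫ h) ∧ LocallyOfFiniteType (W.ι ≫ h) := by
  rw [quasiFiniteAt_iff_fibreDimAt, ← K616.NearDim.near_lqf_iff]
  exact Iff.rfl

theorem etInvOn_qf : EtInvOn @LocallyOfFiniteType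
    (fun (U _ : Scheme.{u}) h u => ∃ W : U.Opens, u ∈ W ∧ LocallyQuasiFinite (W.ι ≫ h) ∧
      LocallyOfFiniteType (W.ι ≫ h)) := by
  intro U V U' V' h h' p q _ _ h1 h2 w u
  dsimp only
  have h1 : LocallyOfFiniteType h := h1
  have h2 : LocallyOfFiniteType h' := h2
  rw [← quasiFiniteAt_iff_near, ← quasiFiniteAt_iff_near, quasiFiniteAt_iff_fibreDimAt,
    quasiFiniteAt_iff_fibreDimAt]
  exact K616.DimInv.etInvOn_fibreDimAt (· = 0) h h' p q h1 h2 w u

theorem qfAt_iff {F G : Sp S} {f : F ⟶ G} (hf : LocP @LocallyOfFiniteType f)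
    {U V : Over S} (a : (yon S).obj U ⟶ F) (b : (yon S).obj V ⟶ G) (h : U ⟶ V)
    (ha : RepWith @Etale a) (hb : RepWith @Etale b) (w : a ≫ f = (yon S).map h ≫ b) (u : ↥U.left) :
    QFAt f (Points.ofPt a u) ↔ h.left.QuasiFiniteAt u := by
  have hl : LocallyOfFiniteType h.left := hf a b h ha hb w
  rw [quasiFiniteAt_iff_near]
  exact hasAtMor_iff etInvOn_qf hf a b h ha hb w u

/-- The common reduction: quasi-finiteness at the codimension zero points specializing to `x`. -/
theorem qfAt_of_codim_le_one {F G : Sp S} (hF : IsAlgSpace F) (hG : IsAlgSpace G) (f : F ⟶ G)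
    (hf : LocP @LocallyOfFiniteType f) (hN : IsLocNoethSp G) (y : Points G)
    (hy : HasAt (fun U u => ringKrullDim ↥(U.presheaf.stalk u) ≤ 1) G y)
    (x : Points F) (hx : Points.map f x = y)
    (H : ∀ (U V : Over S) (a : (yon S).obj U ⟶ F) (b : (yon S).obj V ⟶ G) (h : U ⟶ V)
      (u η : ↥U.left), RepWith @Etale a → RepWith @Etale b → a ≫ f = (yon S).map h ≫ b →
      IsLocallyNoetherian U.left → LocallyOfFiniteType h.left →
      Points.ofPt a u = x → η ⤳ u → IsMaxP η → h.left.QuasiFiniteAt η) :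
    QFAt f x := by
  obtain ⟨U, V, a, b, h, u, ha, hb, w, hu⟩ := exists_diagram hF hG f x
  have hl : LocallyOfFiniteType h.left := hf a b h ha hb w
  have hVN : IsLocallyNoetherian V.left := K616.LocNoeth.isLocallyNoetherian_chart hN b hb
  have hUN : IsLocallyNoetherian U.left := LocallyOfFiniteType.isLocallyNoetherian h.left
  rw [← hu, qfAt_iff hf a b h ha hb w]
  refine quasiFiniteAt_of_codim_le_one h.left u ?_ fun η h1 h2 =>
    H U V a b h u η ha hb w hUN hl hu h2 h1
  have h1 : Points.ofPt b (h.left u) = y := by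
    rw [← hx, ← hu, Points.map_ofPt, w, K621.Base.ofPt_comp]
  exact (hasAt_iff' (K616.DimInv.etInvAt_stalkDim (· ≤ 1)) b hb _ h1).1 hy

end K624.QFCodim1Sp
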