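import Mathlib.AlgebraicGeometry.Morphisms.Etale

/-!
# Isomorphisms of local rings and base change
-/

set_option autoImplicit false
universe u
open CategoryTheory CategoryTheory.Limits AlgebraicGeometry Topology TopologicalSpace IsLocalRing

namespace K624.StalkBC

variable {P U V W : Scheme.{u}} {p : P ⟶ U} {q : P ⟶ V} {g : U ⟶ W} {h : V ⟶ W}

theorem exists_section (sq : IsPullback p q g h) (x : U) (y : V) (e : g x = h y) [IsIso (g.stalkMap x)] :
    ∃ σ : Spec (V.presheaf.stalk y) ⟶ P, σ ≫ q = V.fromSpecStalk y ∧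
      p (σ (closedPoint _)) = x ∧
      ∀ z : P, q z = y → p z = x →
        ∀ (τ : Spec (P.presheaf.stalk z) ⟶ Spec (V.presheaf.stalk y)),
          τ ≫ V.fromSpecStalk y = P.fromSpecStalk z ≫ q → τ ≫ σ = P.fromSpecStalk z := by
  obtain ⟨β, hβ, hβc⟩ : ∃ β : Spec (V.presheaf.stalk y) ⟶ Spec (W.presheaf.stalk (g x)),
      β ≫ W.fromSpecStalk (g x) = V.fromSpecStalk y ≫ h ∧ β (closedPoint _) = closedPoint _ := by
    rw [e]
    refine ⟨Spec.map (h.stalkMap y), Scheme.SpecMap_stalkMap_fromSpecStalk _, ?_⟩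
    exact IsLocalRing.comap_closedPoint (h.stalkMap y).hom
  have hg := Scheme.SpecMap_stalkMap_fromSpecStalk (f := g) (x := x)
  have hw : (β ≫ inv (Spec.map (g.stalkMap x)) ≫ U.fromSpecStalk x) ≫ g = V.fromSpecStalk y ≫ h := by
    rw [Category.assoc, Category.assoc, ← hg, IsIso.inv_hom_id_assoc, hβ]
  refine ⟨sq.lift (β ≫ inv (Spec.map (g.stalkMap x)) ≫ U.fromSpecStalk x) (V.fromSpecStalk y) hw,
    sq.lift_snd _ _ _, ?_, ?_⟩
  · rw [← Scheme.Hom.comp_apply, sq.lift_fst, Scheme.Hom.comp_apply, Scheme.Hom.comp_apply, hβc]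
    have : inv (Spec.map (g.stalkMap x)) (closedPoint _) = closedPoint _ := by
      have h1 : Spec.map (g.stalkMap x) (closedPoint _) = closedPoint _ :=
        IsLocalRing.comap_closedPoint (g.stalkMap x).hom
      conv_lhs => rw [← h1]
      rw [← Scheme.Hom.comp_apply, IsIso.hom_inv_id]
      rfl
    rw [this, Scheme.fromSpecStalk_closedPoint]
  · intro z hq hp τ hτ
    subst hq hp
    have h1 : τ ≫ β = Spec.map (p.stalkMap z) ≫ Spec.map (g.stalkMap (p z)) := by
      rw [← cancel_mono (W.fromSpecStalk (g (p z))), Category.assoc, hβ, ← Category.assoc, hτ, Category.assoc,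
        ← sq.w, Category.assoc, hg, ← Category.assoc, ← Category.assoc,
        Scheme.SpecMap_stalkMap_fromSpecStalk]
    apply sq.hom_ext
    · rw [Category.assoc, sq.lift_fst, ← Category.assoc, h1, Category.assoc, IsIso.hom_inv_id_assoc,
        Scheme.SpecMap_stalkMap_fromSpecStalk]
    · rw [Category.assoc, sq.lift_snd, hτ]

/-- Two points of the pullback with the same image agree, if the local ring map is an isomorphism. -/
theorem eq_of_eq (sq : IsPullback p q g h) {z z' : P} [IsIso (g.stalkMap (p z))] (hp : p z' = p z)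
    (hq : q z' = q z) : z' = z := by
  have e : g (p z) = h (q z) := by rw [← Scheme.Hom.comp_apply, sq.w, Scheme.Hom.comp_apply]
  obtain ⟨σ, -, -, H⟩ := exists_section sq (p z) (q z) e
  have key : ∀ w : P, p w = p z → q w = q z → w = σ (closedPoint _) := by
    intro w hp hq
    obtain ⟨τ, hτ, hc⟩ : ∃ τ : Spec (P.presheaf.stalk w) ⟶ Spec (V.presheaf.stalk (q z)),
        τ ≫ V.fromSpecStalk (q z) = P.fromSpecStalk w ≫ q ∧ τ (closedPoint _) = closedPoint _ := by
      rw [← hq]
      exact ⟨Spec.map (q.stalkMap w), Scheme.SpecMap_stalkMap_fromSpecStalk _,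
        IsLocalRing.comap_closedPoint (q.stalkMap w).hom⟩
    have h1 := H w hq hp τ hτ
    have h2 : (τ ≫ σ) (closedPoint _) = w := by
      rw [h1]
      exact Scheme.fromSpecStalk_closedPoint
    rw [Scheme.Hom.comp_apply, hc] at h2
    exact h2.symm
  rw [key z' hp hq, ← key z rfl rfl]

/-- Isomorphisms of local rings are stable under base change. -/
theorem isIso_stalkMap (sq : IsPullback p q g h) (z : P) [IsIso (g.stalkMap (p z))] : IsIso (q.stalkMap z) := by
  have e : g (p z) = h (q z) := by rw [← Scheme.Hom.comp_apply, sq.w, Scheme.Hom.comp_apply]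
  obtain ⟨σ, hσ, -, H⟩ := exists_section sq (p z) (q z) e
  have hτ := Scheme.SpecMap_stalkMap_fromSpecStalk (f := q) (x := z)
  have h1 := H z rfl rfl _ hτ
  have hc : Spec.map (q.stalkMap z) (closedPoint _) = closedPoint _ :=
    IsLocalRing.comap_closedPoint (q.stalkMap z).hom
  have h2 : σ (closedPoint _) = z := by
    rw [← hc, ← Scheme.Hom.comp_apply, h1]
    exact Scheme.fromSpecStalk_closedPoint
  obtain ⟨s, hs⟩ : ∃ s : Spec (V.presheaf.stalk (q z)) ⟶ Spec (P.presheaf.stalk z),
      s ≫ P.fromSpecStalk z = σ := by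
    have h3 : ∃ s : Spec (V.presheaf.stalk (q z)) ⟶ Spec (P.presheaf.stalk (σ (closedPoint _))),
        s ≫ P.fromSpecStalk (σ (closedPoint _)) = σ :=
      ⟨_, Scheme.Spec_stalkClosedPointTo_fromSpecStalk σ⟩
    rwa [h2] at h3
  have : IsIso (Spec.map (q.stalkMap z)) := by
    refine ⟨s, ?_, ?_⟩
    · rw [← cancel_mono (P.fromSpecStalk z), Category.assoc, hs, h1, Category.id_comp]
    · rw [← cancel_mono (V.fromSpecStalk (q z)), Category.assoc, hτ, ← Category.assoc, hs, hσ,
        Category.id_comp]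
  exact (ConcreteCategory.isIso_iff_bijective _).2 (isIso_SpecMap_iff.1 this)

end K624.StalkBC
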