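import Groth.Prelude.Def_W4stk3decentspacesp2Birat
import Groth.Agent.AlgSp.K624.StalkBC
import Groth.Agent.AlgSp.K629.Basic
import Groth.Agent.AlgSp.K621.Generic
import Groth.Agent.AlgSp.K608.Pts2
import Groth.Agent.AlgSp.K613.Chart
import Groth.Agent.AlgSp.K620.Dec
import Groth.Agent.AlgSp.K620.FinPts
import Groth.Agent.AlgSp.K624.QFCodim1Sp
import Groth.Agent.S10339
import Groth.Agent.S10352
import Groth.Agent.S10389

/-!
# Birational morphisms of decent spaces and étale base change
-/

set_option autoImplicit false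
set_option backward.isDefEq.respectTransparency false
set_option backward.isDefEq.respectTransparency.types false
universe u
open CategoryTheory CategoryTheory.Limits AlgebraicGeometry Topology TopologicalSpace

namespace K624.Birat

open AlgSp K621.Generic W4stk3decentspacesp2

variable {S : Scheme.{u}}

theorem mem_genericPoints_iff {X : Space S} (hX : IsDecent X.obj) {x : Points X.obj} :
    x ∈ genericPoints (Points X.obj) ↔ CodimZero X.obj x := by
  have := Groth.Agent.S10339.result X hX
  rw [← exists_component_iff_codimZero X.property (K621.Decent.finFibres_of_isDecent hX)]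
  constructor
  · intro h
    exact ⟨_, h, rfl⟩
  · rintro ⟨T, hT, hx⟩
    have : closure {x} = T := hx
    change closure {x} ∈ irreducibleComponents _
    rwa [this]

theorem finite_genericPoints_iff {X : Space S} (hX : IsDecent X.obj) :
    (genericPoints (Points X.obj)).Finite ↔ (irreducibleComponents (Points X.obj)).Finite := by
  have := Groth.Agent.S10339.result X hX
  have := K621.Decent.t0Space X.property hX
  exact ⟨fun h => Set.finite_coe_iff.1 (@Finite.of_equiv _ _ (Set.finite_coe_iff.2 h) genericPoints.equiv),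
    fun h => Set.finite_coe_iff.1 (@Finite.of_equiv _ _ (Set.finite_coe_iff.2 h) genericPoints.equiv.symm)⟩

section BC

variable {X Y : Space S} (f : X ⟶ Y) (hX : IsDecent X.obj) (hY : IsDecent Y.obj) {V : Over S}
  (b : (yon S).obj V ⟶ Y.obj) (hb : RepWith @Etale b) {P : Sp S} (fst : P ⟶ X.obj)
  (snd : P ⟶ (yon S).obj V) (hP : IsPullback fst snd f.hom b)

include hb hP in
theorem repWith_fst : RepWith @Etale fst := MorphismProperty.of_isPullback hP.flip hb

include hP in
theorem isAlgSpace_P : IsAlgSpace P :=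
  K613.Chart.isAlgSpace_of_isPullback Y.property.diag X.property (IsAlgSpace.yon_obj _) hP

include hb hP hX in
theorem isDecent_P : IsDecent P := by
  let P' : Space S := ⟨P, isAlgSpace_P f b fst snd hP⟩
  let fst' : P' ⟶ X := ObjectProperty.homMk fst
  exact Groth.Agent.S10352.result fst' (fun _ _ hφ => MorphismProperty.comp_mem _ _ _ hφ (repWith_fst f b hb fst snd hP)) hX

include hb in
theorem codimZero_map_b (v : Points ((yon S).obj V)) :
    CodimZero Y.obj (Points.map b v) ↔ CodimZero ((yon S).obj V) v :=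
  codimZero_map_iff Y.property (IsAlgSpace.yon_obj _)
    (fun _ _ hφ => MorphismProperty.comp_mem _ _ _ hφ hb)

include hb hP in
theorem codimZero_map_fst (p : Points P) :
    CodimZero X.obj (Points.map fst p) ↔ CodimZero P p :=
  codimZero_map_iff X.property (isAlgSpace_P f b fst snd hP)
    (fun _ _ hφ => MorphismProperty.comp_mem _ _ _ hφ (repWith_fst f b hb fst snd hP))

include hb hY in
theorem finite_gp_V [IsAffine V.left] (hYf : (irreducibleComponents (Points Y.obj)).Finite) :
    (genericPoints (Points ((yon S).obj V))).Finite := by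
  let Vs : Space S := ⟨(yon S).obj V, IsAlgSpace.yon_obj _⟩
  have hVd : IsDecent Vs.obj := K620.Dec.isDecent_yon _
  have h1 : (Points.ofPt b ⁻¹' genericPoints (Points Y.obj)).Finite := by
    rw [← Set.biUnion_preimage_singleton]
    exact ((finite_genericPoints_iff hY).2 hYf).biUnion fun y _ =>
      K621.Decent.finFibres_of_isDecent hY y V b ‹_› hb
  refine (h1.image (Points.ofPt (𝟙 ((yon S).obj V)))).subset fun v hv => ?_
  obtain ⟨v', rfl⟩ := K608.Pts.ofPt_surjective_yon v
  refine ⟨v', ?_, rfl⟩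
  have h2 := (mem_genericPoints_iff (X := Vs) hVd).1 hv
  have h3 := (codimZero_map_b b hb (Points.ofPt (𝟙 ((yon S).obj V)) v')).2 h2
  rw [Points.map_ofPt, Category.id_comp] at h3
  exact (mem_genericPoints_iff hY).2 h3

include hX hY hb hP in
theorem finite_gp_P [IsAffine V.left]
    (hm : Set.MapsTo (Points.map f.hom) (genericPoints (Points X.obj)) (genericPoints (Points Y.obj)))
    (hXf : (irreducibleComponents (Points X.obj)).Finite)
    (hYf : (irreducibleComponents (Points Y.obj)).Finite) :
    (genericPoints (Points P)).Finite := by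
  let Ps : Space S := ⟨P, isAlgSpace_P f b fst snd hP⟩
  let Vs : Space S := ⟨(yon S).obj V, IsAlgSpace.yon_obj _⟩
  have hPd : IsDecent Ps.obj := isDecent_P f hX b hb fst snd hP
  have hVd : IsDecent Vs.obj := K620.Dec.isDecent_yon _
  let fst' : Ps ⟶ X := ObjectProperty.homMk fst
  let snd' : Ps ⟶ Vs := ObjectProperty.homMk snd
  let b' : Vs ⟶ Y := ObjectProperty.homMk b
  have key : genericPoints (Points P) ⊆ ⋃ x ∈ genericPoints (Points X.obj),
      ⋃ v ∈ genericPoints (Points ((yon S).obj V)),
        {w | Points.map f.hom x = Points.map b v ∧ Points.map fst w = x ∧ Points.map snd w = v} := by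
    intro w hw
    have h1 := (mem_genericPoints_iff (X := Ps) hPd).1 hw
    have h2 := (mem_genericPoints_iff hX).2 ((codimZero_map_fst f b hb fst snd hP w).2 h1)
    have h3 : Points.map f.hom (Points.map fst w) = Points.map b (Points.map snd w) := by
      rw [← Points.map_comp, hP.w, Points.map_comp]
    have h4 := (mem_genericPoints_iff hY).1 (hm h2)
    rw [h3, codimZero_map_b b hb] at h4
    simp only [Set.mem_iUnion]
    exact ⟨_, h2, _, (mem_genericPoints_iff (X := Vs) hVd).2 h4, h3, rfl, rfl⟩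
  refine Set.Finite.subset ?_ key
  refine ((finite_genericPoints_iff hX).2 hXf).biUnion fun x _ =>
    (finite_gp_V hY b hb hYf).biUnion fun v _ => ?_
  by_cases hxv : Points.map f.hom x = Points.map b v
  · refine (Groth.Agent.S10389.result f b' fst' snd' hP x v hxv ?_ ?_).subset fun w hw => hw.2
    · obtain ⟨r, h1, h2, -⟩ := hY (Points.map b v)
      exact ⟨r, h1, h2⟩
    · obtain ⟨v', rfl⟩ := K608.Pts.ofPt_surjective_yon v
      refine ⟨V, V, 𝟙 _, b, 𝟙 _, v', (RepWith (S := S) @Etale).id_mem _, hb, ?_, rfl, ⊤, trivial, ?_, ?_⟩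
      · rw [(yon S).map_id]
        rfl
      · change LocallyQuasiFinite (Scheme.Opens.ι _ ≫ 𝟙 _)
        infer_instance
      · change LocallyOfFiniteType (Scheme.Opens.ι _ ≫ 𝟙 _)
        infer_instance
  · convert Set.finite_empty
    ext w
    simp [hxv]

include hP hb in
theorem exists_local {U V₀ : Over S} (a : (yon S).obj U ⟶ X.obj) (b₀ : (yon S).obj V₀ ⟶ Y.obj) (g : U ⟶ V₀)
    (ha : RepWith @IsOpenImmersion a) (hb₀ : RepWith @IsOpenImmersion b₀)
    (w : a ≫ f.hom = (yon S).map g ≫ b₀) :
    ∃ (T V' : Over S) (t : (yon S).obj T ⟶ P) (j : V' ⟶ V) (q : T ⟶ V') (p₁ : T ⟶ U) (k : V' ⟶ V₀),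
      RepWith @IsOpenImmersion t ∧ IsOpenImmersion j.left ∧ IsPullback p₁.left q.left g.left k.left ∧
      t ≫ snd = (yon S).map (q ≫ j) ∧ IsPullback t ((yon S).map p₁) fst a := by
  obtain ⟨T, p₁, t, sqT⟩ := (repWith_fst f b hb fst snd hP).rep a
  obtain ⟨V', k, j, sqV⟩ := hb.rep b₀
  obtain ⟨j, rfl⟩ := (yon S).map_surjective j
  have ht : RepWith @IsOpenImmersion t := MorphismProperty.of_isPullback sqT.flip ha
  have hj : IsOpenImmersion j.left := hb₀.property _ _ _ sqV.flip
  have big := sqT.flip.paste_vert hP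
  have hw : (t ≫ snd) ≫ b = (yon S).map (p₁ ≫ g) ≫ b₀ := by
    rw [Category.assoc, ← hP.w, ← Category.assoc, sqT.w, Category.assoc, w, Functor.map_comp, Category.assoc]
  obtain ⟨q, hq⟩ := (yon S).map_surjective (sqV.lift (t ≫ snd) ((yon S).map (p₁ ≫ g)) hw)
  have hq1 : (yon S).map q ≫ (yon S).map j = t ≫ snd := by rw [hq, sqV.lift_fst]
  have hq2 : (yon S).map q ≫ (yon S).map k = (yon S).map (p₁ ≫ g) := by rw [hq, sqV.lift_snd]
  rw [w, ← hq1] at big
  have small : IsPullback ((yon S).map p₁) ((yon S).map q) ((yon S).map g) ((yon S).map k) :=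
    IsPullback.of_bot big (by rw [hq2, Functor.map_comp]) sqV.flip
  have small' : IsPullback p₁ q g k := IsPullback.of_map (yon S) (by
    apply (yon S).map_injective
    rw [Functor.map_comp, Functor.map_comp, small.w]) small
  exact ⟨T, V', t, j, q, p₁, k, ht, hj, small'.map (Over.forget S), by rw [Functor.map_comp, hq1], sqT⟩

include hX hY hb hP in
theorem isBirational_snd (hf : IsBirational f.hom) : IsBirational snd := by
  let Ps : Space S := ⟨P, isAlgSpace_P f b fst snd hP⟩
  let Vs : Space S := ⟨(yon S).obj V, IsAlgSpace.yon_obj _⟩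
  have hPd : IsDecent Ps.obj := isDecent_P f hX b hb fst snd hP
  have hVd : IsDecent Vs.obj := K620.Dec.isDecent_yon _
  have hw : ∀ p : Points P, Points.map f.hom (Points.map fst p) = Points.map b (Points.map snd p) := by
    intro p
    rw [← Points.map_comp, hP.w, Points.map_comp]
  have hgX : ∀ {p : Points P}, p ∈ genericPoints (Points P) →
      Points.map fst p ∈ genericPoints (Points X.obj) := by
    intro p hp
    exact (mem_genericPoints_iff hX).2 ((codimZero_map_fst f b hb fst snd hP p).2
      ((mem_genericPoints_iff (X := Ps) hPd).1 hp))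
  have key : ∀ x ∈ genericPoints (Points X.obj), ∃ (T V' U : Over S) (t : (yon S).obj T ⟶ P) (j : V' ⟶ V)
      (q : T ⟶ V') (p₁ : T ⟶ U) (a : (yon S).obj U ⟶ X.obj) (u : ↥U.left), Points.ofPt a u = x ∧
      RepWith @IsOpenImmersion t ∧ IsOpenImmersion j.left ∧ t ≫ snd = (yon S).map (q ≫ j) ∧
      IsPullback t ((yon S).map p₁) fst a ∧
      (∀ z : ↥T.left, p₁.left z = u → IsIso (q.left.stalkMap z)) ∧
      (∀ z z' : ↥T.left, p₁.left z = u → p₁.left z' = u → q.left z = q.left z' → z = z') := by
    intro x hx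
    obtain ⟨U, V₀, a, b₀, g, u, ha, hb₀, w, hu, hg⟩ := hf.stalkIso x hx
    obtain ⟨T, V', t, j, q, p₁, k, ht, hj, sq, h1, h2⟩ := exists_local f b hb fst snd hP a b₀ g ha hb₀ w
    refine ⟨T, V', U, t, j, q, p₁, a, u, hu, ht, hj, h1, h2, ?_, ?_⟩
    · rintro z rfl
      exact K624.StalkBC.isIso_stalkMap sq z
    · rintro z z' rfl h3 h4
      exact (K624.StalkBC.eq_of_eq sq h3 h4.symm).symm
  refine ⟨⟨?_, ?_, ?_⟩, ?_⟩
  · intro p hp
    refine (mem_genericPoints_iff (X := Vs) hVd).2 ?_
    have h4 := (mem_genericPoints_iff hY).1 (hf.bijOn.mapsTo (hgX hp))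
    rwa [hw, codimZero_map_b b hb] at h4
  · intro p hp p' hp' h
    have h1 : Points.map fst p' = Points.map fst p := by
      apply hf.bijOn.injOn (hgX hp') (hgX hp)
      rw [hw, hw, h]
    obtain ⟨T, V', U, t, j, q, p₁, a, u, hu, ht, hj, h2, h3, -, H⟩ := key _ (hgX hp)
    obtain ⟨z, rfl, hz⟩ := K629.Basic.exists_pt h3 p u hu.symm
    obtain ⟨z', rfl, hz'⟩ := K629.Basic.exists_pt h3 p' u (by rw [hu, h1])
    rw [H z z' hz hz' ?_]
    apply hj.base_open.injective
    apply K608.Pts.ofPt_yon_injective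
    rw [Points.map_ofPt, Points.map_ofPt, h2, (yon S).map_comp] at h
    have h5 := K629.Basic.ofPt_comp (F := (yon S).obj V) (q ≫ j) (𝟙 _) z
    have h6 := K629.Basic.ofPt_comp (F := (yon S).obj V) (q ≫ j) (𝟙 _) z'
    rw [Category.comp_id, (yon S).map_comp] at h5 h6
    rw [h5, h6] at h
    exact h
  · intro v hv
    have h1 := (mem_genericPoints_iff (X := Vs) hVd).1 hv
    have h2 := (mem_genericPoints_iff hY).2 ((codimZero_map_b b hb v).2 h1)
    obtain ⟨x, hx, hxy⟩ := hf.bijOn.surjOn h2
    obtain ⟨p, hp1, hp2⟩ := K629.Basic.exists_point hP x v hxy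
    refine ⟨p, (mem_genericPoints_iff (X := Ps) hPd).2 ((codimZero_map_fst f b hb fst snd hP p).1 ?_), hp2⟩
    rw [hp1]
    exact (mem_genericPoints_iff hX).1 hx
  · intro p hp
    obtain ⟨T, V', U, t, j, q, p₁, a, u, hu, ht, hj, h2, h3, H, -⟩ := key _ (hgX hp)
    obtain ⟨z, rfl, hz⟩ := K629.Basic.exists_pt h3 p u hu.symm
    refine ⟨T, V, t, 𝟙 _, q ≫ j, z, ht, (RepWith (S := S) @IsOpenImmersion).id_mem _, ?_, rfl, ?_⟩
    · rw [h2, Category.comp_id]
    · have := H z hz
      change IsIso ((q.left ≫ j.left).stalkMap z)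
      rw [Scheme.Hom.stalkMap_comp]
      infer_instance

end BC

end K624.Birat
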