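import Groth.Agent.AlgSp.K624.Branches
import Groth.Prelude.Def_Brnch

/-!
# Counting branches over all elementary étale neighbourhoods
-/

set_option autoImplicit false
universe u
open CategoryTheory CategoryTheory.Limits AlgebraicGeometry IsLocalRing

namespace K624.BranchCount

open AlgSp

variable {S : Scheme.{u}} {F : Sp S} {x : Points F} {U₀ : Over S} {a₀ : (yon S).obj U₀ ⟶ F}
  {u₀ : ↥U₀.left} (h₀ : IsElemEtaleNbhd a₀ u₀ x) (R : Type u) [CommRing R] [IsLocalRing R]
  [Algebra ↥(U₀.left.presheaf.stalk u₀) R] [IsLocalHom (algebraMap ↥(U₀.left.presheaf.stalk u₀) R)]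
  [Hensel.IsHenselization ↥(U₀.left.presheaf.stalk u₀) R]

include h₀

/-- The maximum of the number of minimal primes of the local rings is `n` exactly when `R` has `n`
minimal primes. -/
theorem minimalPrimes_iff (n : ℕ) :
    ((∀ (U : Over S) (a : (AlgSp.yon S).obj U ⟶ F) (u : ↥U.left), AlgSp.IsElemEtaleNbhd a u x →
        (minimalPrimes ↥(U.left.presheaf.stalk u)).encard ≤ n) ∧
      (∃ (U : Over S) (a : (AlgSp.yon S).obj U ⟶ F) (u : ↥U.left), AlgSp.IsElemEtaleNbhd a u x ∧
        (minimalPrimes ↥(U.left.presheaf.stalk u)).encard = n)) ↔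
      (minimalPrimes R).encard = n := by
  constructor
  · rintro ⟨h1, U, a, u, hu, h2⟩
    refine le_antisymm ?_ (h2 ▸ K624.Branches.encard_le h₀ R hu)
    by_contra hlt
    rw [not_le] at hlt
    have h3 : ((n + 1 : ℕ) : ℕ∞) ≤ (minimalPrimes R).encard := by
      have := Order.add_one_le_of_lt hlt
      exact_mod_cast this
    obtain ⟨U', a', u', hu', hle⟩ := K624.Branches.exists_le_encard h₀ R (n + 1) h3
    have h4 := hle.trans (h1 U' a' u' hu')
    have h5 : n + 1 ≤ n := by exact_mod_cast h4
    omega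
  · intro h
    refine ⟨fun U a u hu => h ▸ K624.Branches.encard_le h₀ R hu, ?_⟩
    obtain ⟨U, a, u, hu, hle⟩ := K624.Branches.exists_le_encard h₀ R n h.ge
    exact ⟨U, a, u, hu, le_antisymm (h ▸ K624.Branches.encard_le h₀ R hu) hle⟩

/-- Same for the number of irreducible components through the point. -/
theorem components_iff (n : ℕ) :
    ((∀ (U : Over S) (a : (AlgSp.yon S).obj U ⟶ F) (u : ↥U.left), AlgSp.IsElemEtaleNbhd a u x →
        {Z : Set ↥U.left | Z ∈ irreducibleComponents ↥U.left ∧ u ∈ Z}.encard ≤ n) ∧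
      (∃ (U : Over S) (a : (AlgSp.yon S).obj U ⟶ F) (u : ↥U.left), AlgSp.IsElemEtaleNbhd a u x ∧
        {Z : Set ↥U.left | Z ∈ irreducibleComponents ↥U.left ∧ u ∈ Z}.encard = n)) ↔
      (minimalPrimes R).encard = n := by
  rw [← minimalPrimes_iff h₀ R n]
  simp only [K624.StalkComp.encard_minimalPrimes]

/-- Same for the number of branches, given the comparison of the number of branches of a local ring
with the number of minimal primes of its henselization. -/
theorem numBranches_iff (n : ℕ)
    (H : ∀ (A B : Type u) [CommRing A] [IsLocalRing A] [CommRing B] [IsLocalRing B] [Algebra A B]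
      [IsLocalHom (algebraMap A B)] [Hensel.IsHenselization A B],
      ENat.card (minimalPrimes B) = Brnch.numBranches A) :
    ((∀ (U : Over S) (a : (AlgSp.yon S).obj U ⟶ F) (u : ↥U.left), AlgSp.IsElemEtaleNbhd a u x →
        Brnch.numBranchesAt U.left u ≤ n) ∧
      (∃ (U : Over S) (a : (AlgSp.yon S).obj U ⟶ F) (u : ↥U.left), AlgSp.IsElemEtaleNbhd a u x ∧
        Brnch.numBranchesAt U.left u = n)) ↔
      (minimalPrimes R).encard = n := by
  have key : ∀ (U : Over S) (a : (AlgSp.yon S).obj U ⟶ F) (u : ↥U.left),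
      AlgSp.IsElemEtaleNbhd a u x →
      Brnch.numBranchesAt U.left u = (minimalPrimes R).encard := by
    intro U a u hu
    obtain ⟨_, _, _⟩ := K624.Branches.exists_isHenselization h₀ R hu
    exact (H ↥(U.left.presheaf.stalk u) R).symm
  constructor
  · rintro ⟨h1, U, a, u, hu, h2⟩
    rw [← h2]
    exact (key U a u hu).symm
  · intro h
    exact ⟨fun U a u hu => (key U a u hu).trans h |>.le, U₀, a₀, u₀, h₀, (key U₀ a₀ u₀ h₀).trans h⟩

end K624.BranchCount
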