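import Groth.Agent.AlgSp.K624.ChartMap

/-!
# Two elementary étale neighbourhoods are dominated by a third

For arbitrary sheaves `F`, étale charts `a₁ : h_{U₁} ⟶ F`, `a₂ : h_{U₂} ⟶ F`.
-/

set_option autoImplicit false
universe u
open CategoryTheory CategoryTheory.Limits AlgebraicGeometry

namespace K624.CommonNbhd

open AlgSp

variable {S : Scheme.{u}} {F : Sp S}

/-- The morphism `Spec κ(t) ⟶ T` over `S`. -/
noncomputable abbrev ptι (T : Over S) (t : ↥T.left) :
    Over.mk (T.left.fromSpecResidueField t ≫ T.hom) ⟶ T :=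
  Over.homMk (T.left.fromSpecResidueField t) rfl

instance mono_ptι (T : Over S) (t : ↥T.left) : Mono (ptι T t) := by
  have : IsPreimmersion (T.left.fromSpecResidueField t) := inferInstance
  have : Mono (ptι T t).left := inferInstanceAs (Mono (T.left.fromSpecResidueField t))
  exact Over.mono_of_mono_left _

/-- The morphism of residue fields induced by a morphism over `S`. -/
noncomputable def resHom {U U' : Over S} (g : U' ⟶ U) (u' : ↥U'.left) :
    Over.mk (U'.left.fromSpecResidueField u' ≫ U'.hom) ⟶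
      Over.mk (U.left.fromSpecResidueField (g.left u') ≫ U.hom) :=
  Over.homMk (Spec.map (g.left.residueFieldMap u')) (by
    change Spec.map (g.left.residueFieldMap u') ≫ U.left.fromSpecResidueField _ ≫ U.hom =
      U'.left.fromSpecResidueField u' ≫ U'.hom
    rw [← Category.assoc, Scheme.Hom.SpecMap_residueFieldMap_fromSpecResidueField,
      Category.assoc, Over.w g])

theorem resHom_ptι {U U' : Over S} (g : U' ⟶ U) (u' : ↥U'.left) :
    resHom g u' ≫ ptι U (g.left u') = ptι U' u' ≫ g := by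
  apply Over.OverMorphism.ext
  exact Scheme.Hom.SpecMap_residueFieldMap_fromSpecResidueField g.left u'

/-- The morphism `Spec κ(u) ⟶ U ⟶ F`. -/
noncomputable abbrev pm {U : Over S} (a : (yon S).obj U ⟶ F) (u : ↥U.left) :
    (yon S).obj (Over.mk (U.left.fromSpecResidueField u ≫ U.hom)) ⟶ F :=
  (yon S).map (ptι U u) ≫ a

theorem toHom_eq_pm {U : Over S} (a : (yon S).obj U ⟶ F) (u : ↥U.left) :
    (FieldPt.ofPt a u).toHom = pm a u := FieldPt.toHom_ofPt a u

theorem mono_iff_pm {U : Over S} (a : (yon S).obj U ⟶ F) (u : ↥U.left) :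
    Mono (FieldPt.ofPt a u).toHom ↔ Mono (pm a u) := by
  constructor
  · intro h
    exact (toHom_eq_pm a u) ▸ h
  · intro h
    rw [toHom_eq_pm]
    exact h

theorem resHom_pm {U U' : Over S} (a : (yon S).obj U ⟶ F) (g : U' ⟶ U) (u' : ↥U'.left) :
    (yon S).map (resHom g u') ≫ pm a (g.left u') = pm ((yon S).map g ≫ a) u' := by
  change (yon S).map (resHom g u') ≫ (yon S).map (ptι U (g.left u')) ≫ a =
    (yon S).map (ptι U' u') ≫ (yon S).map g ≫ a
  rw [← Category.assoc, ← Category.assoc, ← (yon S).map_comp, ← (yon S).map_comp, resHom_ptι]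

/-- In a fibre product of two charts, a point lying over two points represented by monomorphisms is
represented by a monomorphism. -/
theorem mono_pm_pullback {U₁ U₂ W : Over S} (a₁ : (yon S).obj U₁ ⟶ F)
    (a₂ : (yon S).obj U₂ ⟶ F) (f₁ : W ⟶ U₁) (f₂ : W ⟶ U₂)
    (hW : IsPullback ((yon S).map f₁) ((yon S).map f₂) a₁ a₂) (w : ↥W.left)
    (h₁ : Mono (pm a₁ (f₁.left w))) (h₂ : Mono (pm a₂ (f₂.left w))) :
    Mono (pm ((yon S).map f₁ ≫ a₁) w) := by
  refine ⟨fun {T} g h hgh => ?_⟩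
  have e1 := resHom_pm a₁ f₁ w
  have e2 := resHom_pm a₂ f₂ w
  rw [← hW.w] at e2
  have k1 : g ≫ (yon S).map (resHom f₁ w) = h ≫ (yon S).map (resHom f₁ w) := by
    rw [← cancel_mono (pm a₁ (f₁.left w)), Category.assoc, Category.assoc, e1]
    exact hgh
  have k2 : g ≫ (yon S).map (resHom f₂ w) = h ≫ (yon S).map (resHom f₂ w) := by
    rw [← cancel_mono (pm a₂ (f₂.left w)), Category.assoc, Category.assoc, e2]
    exact hgh
  have hm : Mono ((yon S).map (ptι W w)) := inferInstance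
  rw [← cancel_mono ((yon S).map (ptι W w))]
  apply hW.hom_ext
  · rw [Category.assoc, Category.assoc, ← (yon S).map_comp, ← resHom_ptι, (yon S).map_comp,
      ← Category.assoc, ← Category.assoc, k1]
  · rw [Category.assoc, Category.assoc, ← (yon S).map_comp, ← resHom_ptι, (yon S).map_comp,
      ← Category.assoc, ← Category.assoc, k2]

/-- Points of a fibre product of schemes over a sheaf. -/
theorem exists_point {U₁ U₂ W : Over S} (a₁ : (yon S).obj U₁ ⟶ F)
    (a₂ : (yon S).obj U₂ ⟶ F) (f₁ : W ⟶ U₁) (f₂ : W ⟶ U₂)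
    (hW : IsPullback ((yon S).map f₁) ((yon S).map f₂) a₁ a₂) (u₁ : ↥U₁.left) (u₂ : ↥U₂.left)
    (h : Points.ofPt a₁ u₁ = Points.ofPt a₂ u₂) :
    ∃ w : ↥W.left, f₁.left w = u₁ ∧ f₂.left w = u₂ := by
  obtain ⟨Ω, _, s, b₁, b₂, hb⟩ := Points.mk_eq_mk_iff.1 h
  have hb' : (yon S).map b₁ ≫ (yon S).map (ptι U₁ u₁) ≫ a₁ =
      (yon S).map b₂ ≫ (yon S).map (ptι U₂ u₂) ≫ a₂ := by
    have h1 := FieldPt.toHom_ofPt a₁ u₁
    have h2 := FieldPt.toHom_ofPt a₂ u₂
    have h3 : (yon S).map b₁ ≫ (FieldPt.ofPt a₁ u₁).toHom =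
        (yon S).map b₂ ≫ (FieldPt.ofPt a₂ u₂).toHom := by
      apply (J S).uliftYonedaEquiv.injective
      rw [GrothendieckTopology.uliftYonedaEquiv_comp, GrothendieckTopology.uliftYonedaEquiv_comp,
        GrothendieckTopology.uliftYonedaEquiv_uliftYoneda_map,
        GrothendieckTopology.uliftYonedaEquiv_uliftYoneda_map, FieldPt.toHom_app,
        FieldPt.toHom_app]
      exact hb
    exact ((congrArg ((yon S).map b₁ ≫ ·) h1).symm.trans h3).trans
      (congrArg ((yon S).map b₂ ≫ ·) h2)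
  obtain ⟨l, hl⟩ := (yon S).map_surjective (hW.lift ((yon S).map (b₁ ≫ ptι U₁ u₁))
    ((yon S).map (b₂ ≫ ptι U₂ u₂)) (by
      rw [(yon S).map_comp, (yon S).map_comp, Category.assoc, Category.assoc]
      exact hb'))
  have hl1 : l ≫ f₁ = b₁ ≫ ptι U₁ u₁ := by
    apply (yon S).map_injective
    rw [(yon S).map_comp, hl]
    exact hW.lift_fst _ _ _
  have hl2 : l ≫ f₂ = b₂ ≫ ptι U₂ u₂ := by
    apply (yon S).map_injective
    rw [(yon S).map_comp, hl]
    exact hW.lift_snd _ _ _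
  let o : ↥(Spec (CommRingCat.of Ω)) := IsLocalRing.closedPoint Ω
  refine ⟨l.left o, ?_, ?_⟩
  · have h1 : f₁.left (l.left o) = (l ≫ f₁).left o := rfl
    rw [h1, hl1]
    exact Scheme.fromSpecResidueField_apply u₁ _
  · have h1 : f₂.left (l.left o) = (l ≫ f₂).left o := rfl
    rw [h1, hl2]
    exact Scheme.fromSpecResidueField_apply u₂ _

/-- Two elementary étale neighbourhoods are dominated by a third. -/
theorem exists_common {x : Points F} {U₁ U₂ : Over S} (a₁ : (yon S).obj U₁ ⟶ F)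
    (a₂ : (yon S).obj U₂ ⟶ F) (u₁ : ↥U₁.left) (u₂ : ↥U₂.left) (h₁ : IsElemEtaleNbhd a₁ u₁ x)
    (h₂ : IsElemEtaleNbhd a₂ u₂ x) :
    ∃ (W : Over S) (f₁ : W ⟶ U₁) (f₂ : W ⟶ U₂) (w : ↥W.left),
      (yon S).map f₁ ≫ a₁ = (yon S).map f₂ ≫ a₂ ∧
      IsElemEtaleNbhd ((yon S).map f₁ ≫ a₁) w x ∧ f₁.left w = u₁ ∧ f₂.left w = u₂ ∧
      Etale f₁.left ∧ Etale f₂.left ∧ Function.Bijective (f₁.left.residueFieldMap w) ∧
      Function.Bijective (f₂.left.residueFieldMap w) := by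
  obtain ⟨W, f₂, f₁, hW⟩ := h₁.etale.1 a₂
  obtain ⟨f₁, rfl⟩ := (yon S).map_surjective f₁
  have e2 : Etale f₂.left := h₁.etale.2 a₂ ((yon S).map f₁) f₂ hW
  have e1 : Etale f₁.left := h₂.etale.2 a₁ ((yon S).map f₂) f₁ hW.flip
  obtain ⟨w, hw1, hw2⟩ := exists_point a₁ a₂ f₁ f₂ hW u₁ u₂ (h₁.ofPt_eq.trans h₂.ofPt_eq.symm)
  have hm : Mono (FieldPt.ofPt ((yon S).map f₁ ≫ a₁) w).toHom := by
    rw [mono_iff_pm]
    refine mono_pm_pullback a₁ a₂ f₁ f₂ hW w ?_ ?_
    · rw [hw1]; exact (mono_iff_pm _ _).1 h₁.mono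
    · rw [hw2]; exact (mono_iff_pm _ _).1 h₂.mono
  have hx : Points.ofPt ((yon S).map f₁ ≫ a₁) w = x := by
    rw [← Points.map_ofPt]
    have h5 : Points.ofPt ((yon S).map f₁) w = Points.ofScheme U₁ (f₁.left w) := by
      apply (Points.schemeEquiv U₁).symm.injective
      exact (Points.toScheme_ofPt f₁ w).trans (Points.toScheme_ofScheme U₁ _).symm
    rw [h5, hw1, ← Points.ofPt_eq_map_ofScheme, h₁.ofPt_eq]
  have he : RepWith @Etale ((yon S).map f₁ ≫ a₁) :=
    (RepWith @Etale).comp_mem _ _ ((repWith_yon_map_iff _ _).2 e1) h₁.etale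
  refine ⟨W, f₁, f₂, w, hW.w, ⟨he, hx, hm⟩, hw1, hw2, e1, e2, ?_, ?_⟩
  · exact K624.ChartMap.bijective_residueFieldMap a₁ _ f₁ rfl w hm
  · refine K624.ChartMap.bijective_residueFieldMap a₂ ((yon S).map f₂ ≫ a₂) f₂ rfl w ?_
    rw [← hW.w]
    exact hm

end K624.CommonNbhd
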