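import Groth.Agent.AlgSp.K624.HensSep
import Groth.Agent.AlgSp.K624.CommonNbhd
import Groth.Agent.S0506

/-!
# Henselizations and minimal primes over all elementary étale neighbourhoods of a point

`F` an fppf sheaf, `x` a point of `F`, `(U₀, u₀)` an elementary étale neighbourhood and `R` a
henselization of `O_{U₀,u₀}`.
-/

set_option autoImplicit false
universe u
open CategoryTheory CategoryTheory.Limits AlgebraicGeometry IsLocalRing

namespace K624.Branches

open AlgSp

/-- Transport of a henselization along an isomorphism of the target. -/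
theorem exists_isHenselization_of_ringEquiv (A R' R : Type u) [CommRing A] [IsLocalRing A]
    [CommRing R'] [IsLocalRing R'] [Algebra A R'] [IsLocalHom (algebraMap A R')]
    [h : Hensel.IsHenselization A R'] [CommRing R] [IsLocalRing R] (e : R' ≃+* R) :
    ∃ (_ : Algebra A R) (_ : IsLocalHom (algebraMap A R)), Hensel.IsHenselization A R := by
  let _ : Algebra A R := (e.toRingHom.comp (algebraMap A R')).toAlgebra
  have hl : IsLocalHom (algebraMap A R) := by
    change IsLocalHom (e.toRingHom.comp (algebraMap A R'))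
    have : IsLocalHom e.toRingHom := ⟨fun a ha => by
      have := ha.map e.symm
      simpa using this⟩
    infer_instance
  have hh : HenselianLocalRing R := by
    have := h.henselian
    refine { is_henselian := ?_ }
    intro f hf a₀ h₁ h₂
    have key := HenselianLocalRing.is_henselian (f.map e.symm.toRingHom) (hf.map _) (e.symm a₀)
      (by
        have h3 : (f.map e.symm.toRingHom).eval (e.symm a₀) = e.symm (f.eval a₀) := by
          rw [Polynomial.eval_map]
          exact Polynomial.eval₂_hom e.symm.toRingHom a₀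
        rw [h3, mem_maximalIdeal, mem_nonunits_iff]
        rw [mem_maximalIdeal, mem_nonunits_iff] at h₁
        intro h4
        apply h₁
        have := h4.map e
        simpa using this)
      (by
        have h3 : (f.map e.symm.toRingHom).derivative.eval (e.symm a₀) =
            e.symm (f.derivative.eval a₀) := by
          rw [Polynomial.derivative_map, Polynomial.eval_map]
          exact Polynomial.eval₂_hom e.symm.toRingHom a₀
        rw [h3]
        exact h₂.map e.symm)
    obtain ⟨a, ha, ha'⟩ := key
    refine ⟨e a, ?_, ?_⟩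
    · change f.eval (e a) = 0
      have h3 : (f.map e.symm.toRingHom).eval (e.symm (e a)) = e.symm (f.eval (e a)) := by
        rw [Polynomial.eval_map]
        exact Polynomial.eval₂_hom e.symm.toRingHom (e a)
      rw [e.symm_apply_apply] at h3
      have h4 : (f.map e.symm.toRingHom).eval a = 0 := ha
      rw [h4] at h3
      exact (map_eq_zero_iff e.symm e.symm.injective).1 h3.symm
    · rw [mem_maximalIdeal, mem_nonunits_iff] at ha' ⊢
      intro h4
      apply ha'
      have := h4.map e.symm
      simpa using this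
  refine ⟨inferInstance, hl, ⟨hh, ?_⟩⟩
  intro T _ _ f hf
  obtain ⟨g, hg, hg'⟩ := h.universal T f hf
  refine ⟨g.comp e.symm.toRingHom, ?_, ?_⟩
  · ext a
    have := RingHom.congr_fun hg a
    change g (e.symm (e (algebraMap A R' a))) = f a
    rw [e.symm_apply_apply]
    exact this
  · intro g₂ hg₂
    have h1 := hg' (g₂.comp e.toRingHom) ((RingHom.comp_assoc _ _ _).trans hg₂)
    ext r
    have := RingHom.congr_fun h1 (e.symm r)
    change g₂ r = g (e.symm r)
    rw [← this]
    change g₂ r = g₂ (e (e.symm r))
    rw [e.apply_symm_apply]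

/-- For an étale morphism with trivial residue field extension at `x`, a henselization of
`O_{Y,f x}` is a henselization of `O_{X,x}`. -/
theorem exists_isHenselization_source {X Y : Scheme.{u}} (f : X ⟶ Y) [Etale f] (x : X)
    (hk : Function.Bijective (f.residueFieldMap x)) (R : Type u) [CommRing R] [IsLocalRing R]
    [Algebra (Y.presheaf.stalk (f x)) R] [IsLocalHom (algebraMap (Y.presheaf.stalk (f x)) R)]
    [Hensel.IsHenselization (Y.presheaf.stalk (f x)) R] :
    ∃ (_ : Algebra (X.presheaf.stalk x) R) (_ : IsLocalHom (algebraMap (X.presheaf.stalk x) R)),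
      Hensel.IsHenselization (X.presheaf.stalk x) R := by
  obtain ⟨R', _, _, _, _, hR'⟩ := Groth.Agent.S0506.result (X.presheaf.stalk x)
  obtain ⟨hl, hh⟩ := K624.HensNbhd.isHenselization_of_etale f x hk R'
  let _ : Algebra (Y.presheaf.stalk (f x)) R' :=
    ((algebraMap (X.presheaf.stalk x) R').comp (f.stalkMap x).hom).toAlgebra
  have hl' : IsLocalHom (algebraMap (Y.presheaf.stalk (f x)) R') := hl
  have hh' : Hensel.IsHenselization (Y.presheaf.stalk (f x)) R' := hh
  obtain ⟨e⟩ := Groth.Agent.Hensel.Exist.nonempty_algEquiv_of_isHenselization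
    (Y.presheaf.stalk (f x)) R' R
  exact exists_isHenselization_of_ringEquiv _ R' R e.toRingEquiv

theorem exists_isHenselization_target {X Y : Scheme.{u}} (f : X ⟶ Y) [Etale f] (x : X)
    (hk : Function.Bijective (f.residueFieldMap x)) (R : Type u) [CommRing R] [IsLocalRing R]
    [Algebra (X.presheaf.stalk x) R] [IsLocalHom (algebraMap (X.presheaf.stalk x) R)]
    [Hensel.IsHenselization (X.presheaf.stalk x) R] :
    ∃ (_ : Algebra (Y.presheaf.stalk (f x)) R)
      (_ : IsLocalHom (algebraMap (Y.presheaf.stalk (f x)) R)),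
      Hensel.IsHenselization (Y.presheaf.stalk (f x)) R := by
  obtain ⟨hl, hh⟩ := K624.HensNbhd.isHenselization_of_etale f x hk R
  exact ⟨_, hl, hh⟩

/-- An étale neighbourhood with trivial residue field extension of an elementary étale
neighbourhood is an elementary étale neighbourhood. -/
theorem isElemEtaleNbhd_comp {S : Scheme.{u}} {F : Sp S} {x : Points F} {U U' : Over S}
    (a : (yon S).obj U ⟶ F) (g : U' ⟶ U) (u' : ↥U'.left) (h : IsElemEtaleNbhd a (g.left u') x)
    (hg : Etale g.left) (hb : Function.Bijective (g.left.residueFieldMap u')) :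
    IsElemEtaleNbhd ((yon S).map g ≫ a) u' x := by
  refine ⟨?_, ?_, ?_⟩
  · exact (RepWith @Etale).comp_mem _ _ ((repWith_yon_map_iff _ _).2 hg) h.etale
  · rw [← h.ofPt_eq, ← Points.map_ofPt, Points.ofPt_eq_map_ofScheme a (g.left u')]
    congr 1
    apply (Points.schemeEquiv U).symm.injective
    exact (Points.toScheme_ofPt _ u').trans (Points.toScheme_ofScheme U _).symm
  · rw [K624.CommonNbhd.mono_iff_pm]
    have h1 := K624.CommonNbhd.resHom_pm a g u'
    rw [← h1]
    have h2 : IsIso (K624.CommonNbhd.resHom g u') := by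
      have h3 : IsIso (g.left.residueFieldMap u') :=
        (ConcreteCategory.isIso_iff_bijective _).2 hb
      have h4 : IsIso ((Over.forget S).map (K624.CommonNbhd.resHom g u')) :=
        inferInstanceAs (IsIso (Spec.map (g.left.residueFieldMap u')))
      exact isIso_of_reflects_iso _ (Over.forget S)
    have h5 : Mono (K624.CommonNbhd.pm a (g.left u')) :=
      (K624.CommonNbhd.mono_iff_pm _ _).1 h.mono
    have h6 : Mono ((yon S).map (K624.CommonNbhd.resHom g u')) := inferInstance
    exact @mono_comp _ _ _ _ _ _ h6 _ h5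

/-- An étale neighbourhood of `u₀` in `U₀` with trivial residue field extension is an elementary
étale neighbourhood of `x`. -/
theorem isElemEtaleNbhd_of_nbhd {S : Scheme.{u}} {F : Sp S} {x : Points F} {U₀ : Over S}
    {a₀ : (yon S).obj U₀ ⟶ F} {u₀ : ↥U₀.left} (h₀ : IsElemEtaleNbhd a₀ u₀ x)
    {U : Scheme.{u}} (f : U ⟶ U₀.left) (hf : Etale f) (v : U)
    (hv : f v = u₀) (hb : Function.Bijective (f.residueFieldMap v)) :
    ∃ (g : Over.mk (f ≫ U₀.hom) ⟶ U₀), IsElemEtaleNbhd ((yon S).map g ≫ a₀) v x := by
  refine ⟨Over.homMk f rfl, ?_⟩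
  apply isElemEtaleNbhd_comp (U := U₀) (U' := Over.mk (f ≫ U₀.hom)) a₀ (Over.homMk f rfl) v
  · exact hv.symm ▸ h₀
  · exact hf
  · exact hb

variable {S : Scheme.{u}} {F : Sp S} {x : Points F} {U₀ : Over S} {a₀ : (yon S).obj U₀ ⟶ F}
  {u₀ : ↥U₀.left} (h₀ : IsElemEtaleNbhd a₀ u₀ x) (R : Type u) [CommRing R] [IsLocalRing R]
  [Algebra ↥(U₀.left.presheaf.stalk u₀) R] [IsLocalHom (algebraMap ↥(U₀.left.presheaf.stalk u₀) R)]
  [Hensel.IsHenselization ↥(U₀.left.presheaf.stalk u₀) R]

include h₀

/-- `R` is a henselization of the local ring of every elementary étale neighbourhood. -/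
theorem exists_isHenselization {U : Over S} {a : (yon S).obj U ⟶ F} {u : ↥U.left}
    (h : IsElemEtaleNbhd a u x) :
    ∃ (_ : Algebra ↥(U.left.presheaf.stalk u) R)
      (_ : IsLocalHom (algebraMap ↥(U.left.presheaf.stalk u) R)),
      Hensel.IsHenselization ↥(U.left.presheaf.stalk u) R := by
  obtain ⟨W, f, f₀, w, hc, hw, rfl, rfl, he, he₀, hb, hb₀⟩ :=
    K624.CommonNbhd.exists_common a a₀ u u₀ h h₀
  obtain ⟨_, _, _⟩ := exists_isHenselization_source f₀.left w hb₀ R
  exact exists_isHenselization_target f.left w hb R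

/-- The number of minimal primes of the local ring of an elementary étale neighbourhood is at most
that of `R`. -/
theorem encard_le {U : Over S} {a : (yon S).obj U ⟶ F} {u : ↥U.left}
    (h : IsElemEtaleNbhd a u x) :
    (minimalPrimes ↥(U.left.presheaf.stalk u)).encard ≤ (minimalPrimes R).encard := by
  obtain ⟨_, _, _⟩ := exists_isHenselization h₀ R h
  exact K624.HensSep.encard_minimalPrimes_le _ R

/-- If `R` has at least `k` minimal primes, so has the local ring of some elementary étale
neighbourhood. -/
theorem exists_le_encard (k : ℕ) (hk : (k : ℕ∞) ≤ (minimalPrimes R).encard) :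
    ∃ (U : Over S) (a : (yon S).obj U ⟶ F) (u : ↥U.left), IsElemEtaleNbhd a u x ∧
      (k : ℕ∞) ≤ (minimalPrimes ↥(U.left.presheaf.stalk u)).encard := by
  obtain ⟨U, f, hf, v, hv, hb, h⟩ := K624.HensSep.exists_nbhd_minimalPrimes u₀ R k hk
  obtain ⟨g, hg⟩ := isElemEtaleNbhd_of_nbhd h₀ f hf v hv hb
  refine ⟨Over.mk (f ≫ U₀.hom), (yon S).map g ≫ a₀, v, hg, ?_⟩
  exact h

end K624.Branches
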