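import Groth.Prelude.Def_AlgSpDec
import Groth.Prelude.Def_W4stk3decentspacesp2Birat
import Groth.Agent.CycB.SetupLft
import Groth.Agent.CAlg.K68.Cat
import Groth.Agent.AlgSp.K616.DimInv
import Groth.Agent.AlgSp.K621.Base
import Groth.Agent.S10339
import Groth.Agent.S10340
import Groth.Agent.S10343
import Groth.Agent.S10338

/-!
# Catenarity of the space of points of a decent algebraic space
-/

set_option autoImplicit false
universe u
open CategoryTheory CategoryTheory.Limits AlgebraicGeometry Topology TopologicalSpace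

namespace K624.Caten

open AlgSp Groth.Agent.CycB.LocQuot Groth.Agent.CycB.SetupLft

section Sch

variable {U : Scheme.{u}}

theorem primeOf_lt {u w w' : U} (h : w ⤳ u) (h' : w' ⤳ u) (hw : w' ⤳ w) (hne : w' ≠ w) :
    primeOf h' < primeOf h := by
  refine lt_of_le_of_ne ((primeOf_le_iff h' h).2 hw) fun e => hne ?_
  exact (primeOf_inj h' h).1 e

theorem primeOf_covBy {u w w' : U} (h : w ⤳ u) (h' : w' ⤳ u) (hw : w' ⤳ w) (hne : w' ≠ w)
    (him : ∀ z : U, w' ⤳ z → z ⤳ w → z = w' ∨ z = w) : primeOf h' ⋖ primeOf h := by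
  refine ⟨primeOf_lt h h' hw hne, fun Q h1 h2 => ?_⟩
  have e := primeOf_ptOf Q
  rw [← e] at h1 h2
  have h3 := (primeOf_le_iff h' (ptOf_specializes Q)).1 h1.le
  have h4 := (primeOf_le_iff (ptOf_specializes Q) h).1 h2.le
  rcases him _ h3 h4 with h5 | h5
  · exact h1.ne ((primeOf_inj _ _).2 h5.symm)
  · exact h2.ne ((primeOf_inj _ _).2 h5)

theorem ringKrullDim_locQuot_eq {u w : U} (h : w ⤳ u) :
    ringKrullDim (Cyc.LocQuot u w h) =
      ringKrullDim (U.presheaf.stalk u ⧸ (primeOf h).asIdeal) := by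
  rw [primeOf_asIdeal]

theorem locQuot_lt [IsLocallyNoetherian U]
    (hcat : ∀ x : U, CAlg.IsUniversallyCatenary (U.presheaf.stalk x))
    {u w w' : U} (h : w ⤳ u) (h' : w' ⤳ u) (hw : w' ⤳ w) (hne : w' ≠ w) :
    ringKrullDim (Cyc.LocQuot u w h) < ringKrullDim (Cyc.LocQuot u w' h') := by
  rw [ringKrullDim_locQuot_eq, ringKrullDim_locQuot_eq]
  exact ((K68.Cat.isCatenary_iff_ringKrullDim_quotient_dimFun _).1
    (Groth.Agent.CalgA.UnivCat.isCatenary_of_isUniversallyCatenary (hcat u)) _ _
    (primeOf_lt h h' hw hne)).1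

theorem locQuot_eq_add_one [IsLocallyNoetherian U]
    (hcat : ∀ x : U, CAlg.IsUniversallyCatenary (U.presheaf.stalk x))
    {u w w' : U} (h : w ⤳ u) (h' : w' ⤳ u) (hw : w' ⤳ w) (hne : w' ≠ w)
    (him : ∀ z : U, w' ⤳ z → z ⤳ w → z = w' ∨ z = w) :
    ringKrullDim (Cyc.LocQuot u w' h') = ringKrullDim (Cyc.LocQuot u w h) + 1 := by
  rw [ringKrullDim_locQuot_eq, ringKrullDim_locQuot_eq]
  exact ((K68.Cat.isCatenary_iff_ringKrullDim_quotient_dimFun _).1
    (Groth.Agent.CalgA.UnivCat.isCatenary_of_isUniversallyCatenary (hcat u)) _ _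
    (primeOf_lt h h' hw hne)).2 (primeOf_covBy h h' hw hne him)

theorem locQuot_refl (u : U) : ringKrullDim (Cyc.LocQuot u u (specializes_refl u)) = 0 := by
  have h1 : (RingHom.ker (Cyc.specMap u u (specializes_refl u))).IsMaximal := by
    rw [ker_refl]; infer_instance
  let := Ideal.Quotient.field (RingHom.ker (Cyc.specMap u u (specializes_refl u)))
  exact ringKrullDim_eq_zero_of_field (U.presheaf.stalk u ⧸ RingHom.ker (Cyc.specMap u u (specializes_refl u)))

/-- `dim O_{S,s} / 𝔭_{s'}` as a function of `s'`. -/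
noncomputable def codimFn (s s' : U) : WithBot ℕ∞ :=
  open Classical in if h : s' ⤳ s then ringKrullDim (Cyc.LocQuot s s' h) else 0

theorem codimFn_of {s s' : U} (h : s' ⤳ s) : codimFn s s' = ringKrullDim (Cyc.LocQuot s s' h) :=
  dif_pos h

/-- The dimension formula determines `dim O_{U,u}/𝔭_w` in terms of the image of `w` and the transcendence degree. -/
theorem natCast_unique {V : Scheme.{u}} (f : U ⟶ V) [LocallyOfFiniteType f] [IsLocallyNoetherian V]
    (hcat : ∀ y : V, CAlg.IsUniversallyCatenary (V.presheaf.stalk y)) {u w w' : U} (h : w ⤳ u)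
    (h' : w' ⤳ u) (hs : f w = f w') (ht : Dual3.resTrdeg f w = Dual3.resTrdeg f w') {m n : ℕ}
    (hm : ringKrullDim (Cyc.LocQuot u w h) = m) (hn : ringKrullDim (Cyc.LocQuot u w' h') = n) :
    m = n := by
  obtain ⟨a, b, ha, hb, e⟩ := dimension_formula_specializes f hcat h
  obtain ⟨a', b', ha', hb', e'⟩ := dimension_formula_specializes f hcat h'
  have e1 : a = m := by
    rw [hm] at ha
    exact_mod_cast ha
  have e2 : a' = n := by
    rw [hn] at ha'
    exact_mod_cast ha'
  have e3 : b = b' := by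
    have h1 : (b : WithBot ℕ∞) = b' := by
      rw [hb, hb', ← codimFn_of, ← codimFn_of, hs]
    exact_mod_cast h1
  subst e1 e2 e3
  obtain ⟨r, hr⟩ : ∃ r : ℕ, Dual3.resTrdeg f u = r :=
    Cardinal.lt_aleph0.1 (Groth.Agent.CycB.RelDim.rtd_lt_aleph0 f u)
  change _ + Dual3.resTrdeg f u = _ + Dual3.resTrdeg f w at e
  change _ + Dual3.resTrdeg f u = _ + Dual3.resTrdeg f w' at e'
  rw [← ht, ← e, hr] at e'
  have h5 : m + r = n + r := by exact_mod_cast e'.symm
  omega

end Sch

section Sp

variable {S : Scheme.{u}}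

/-- Lifting chains of generizations along an étale chart of a decent space. -/
theorem lift (X : Space S) (hX : IsDecent X.obj) {U : Over S} (a : (yon S).obj U ⟶ X.obj)
    (ha : RepWith @Etale a) [IsLocallyNoetherian U.left]
    (hcat : ∀ x : U.left, CAlg.IsUniversallyCatenary (U.left.presheaf.stalk x))
    (u : ↥U.left) (n : ℕ) (z : Fin (n + 1) → Points X.obj) (h0 : z 0 = Points.ofPt a u)
    (hz : ∀ i : Fin n, z i.succ ⤳ z i.castSucc) (hne : ∀ i : Fin n, z i.succ ≠ z i.castSucc)
    (i : Fin (n + 1)) :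
    ∃ (w : ↥U.left) (h : w ⤳ u), Points.ofPt a w = z i ∧
      ((i : ℕ) : WithBot ℕ∞) ≤ ringKrullDim (Cyc.LocQuot u w h) ∧
      ((∀ j : Fin n, ∀ y : Points X.obj, z j.succ ⤳ y → y ⤳ z j.castSucc →
          y = z j.succ ∨ y = z j.castSucc) →
        ringKrullDim (Cyc.LocQuot u w h) = ((i : ℕ) : WithBot ℕ∞)) := by
  induction i using Fin.induction with
  | zero =>
    refine ⟨u, specializes_refl u, h0.symm, ?_, fun _ => ?_⟩
    · rw [locQuot_refl]; rfl
    · rw [locQuot_refl]; rfl
  | succ j ih =>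
    obtain ⟨w, h, hw, h1, h2⟩ := ih
    obtain ⟨w', hw', hz'⟩ := Groth.Agent.S10343.result X (z j.castSucc) (z j.succ) (hz j)
      (hX _) a ha w hw
    have hww : w' ≠ w := by
      rintro rfl
      exact hne j (hz'.symm.trans hw)
    refine ⟨w', hw'.trans h, hz', ?_, fun him => ?_⟩
    · have h3 := locQuot_lt hcat h (hw'.trans h) hw' hww
      have h4 : (((j.castSucc : Fin (n + 1)) : ℕ) : WithBot ℕ∞) + 1 ≤
          ringKrullDim (Cyc.LocQuot u w' (hw'.trans h)) := by
        rw [ENat.WithBot.add_one_le_iff]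
        exact lt_of_le_of_lt h1 h3
      simpa using h4
    · have h3 : ringKrullDim (Cyc.LocQuot u w' (hw'.trans h)) =
          ringKrullDim (Cyc.LocQuot u w h) + 1 := by
        refine locQuot_eq_add_one hcat h (hw'.trans h) hw' hww fun v hv1 hv2 => ?_
        rcases him j (Points.ofPt a v) (hz' ▸ hv1.map (Points.continuous_ofPt a))
          (hw ▸ hv2.map (Points.continuous_ofPt a)) with h5 | h5
        · left
          exact Groth.Agent.S10340.result X hX a ha v w' (h5.trans hz'.symm) hv1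
        · right
          exact (Groth.Agent.S10340.result X hX a ha w v (hw.trans h5.symm) hv2).symm
      rw [h3, h2 him]
      simp

theorem resTrdeg_eq_of_ofPt {X : Sp S} {U : Over S} (a : (yon S).obj U ⟶ X)
    (ha : RepWith @Etale a) (w w' : ↥U.left) (h : Points.ofPt a w = Points.ofPt a w') :
    U.hom w = U.hom w' ∧ Dual3.resTrdeg U.hom w = Dual3.resTrdeg U.hom w' := by
  obtain ⟨R, p, q, r, -, e1, e2, rfl, rfl⟩ := K616.Inv.exists_chart_refinement a a ha ha w w' h
  constructor
  · rw [← Scheme.Hom.comp_apply, ← Scheme.Hom.comp_apply, Over.w p, Over.w q]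
  · rw [K616.DimInv.resTrdeg_square U.hom R.hom p.left (𝟙 S) (by simp) r,
      K616.DimInv.resTrdeg_square U.hom R.hom q.left (𝟙 S) (by simp) r]

theorem locallyOfFiniteType_chart {X : Sp S} (p : X ⟶ (yon S).obj (Over.mk (𝟙 S)))
    (hp : LocP @LocallyOfFiniteType p) {U : Over S} (a : (yon S).obj U ⟶ X)
    (ha : RepWith @Etale a) : LocallyOfFiniteType U.hom := by
  obtain ⟨k, hk⟩ := (yon S).map_surjective (a ≫ p)
  have h1 := hp a (𝟙 _) k ha ((RepWith (S := S) @Etale).id_mem _) (by rw [hk, Category.comp_id])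
  have h2 : k.left = U.hom := by
    have := Over.w k
    simpa using this
  rwa [h2] at h1

section Chains

variable (X : Space S) (hX : IsDecent X.obj)

/-- the generic point of an irreducible closed set -/
theorem exists_gen [QuasiSober (Points X.obj)] (Z : IrreducibleCloseds (Points X.obj)) :
    ∃ z : Points X.obj, closure {z} = (Z : Set (Points X.obj)) :=
  QuasiSober.sober Z.isIrreducible' Z.isClosed'

theorem le_iff_gen {Z W : IrreducibleCloseds (Points X.obj)} {z w : Points X.obj}
    (hz : closure {z} = (Z : Set (Points X.obj))) (hw : closure {w} = (W : Set (Points X.obj))) :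
    Z ≤ W ↔ w ⤳ z := by
  rw [specializes_iff_mem_closure, hw]
  constructor
  · intro h
    have h1 : z ∈ (Z : Set (Points X.obj)) := by
      rw [← hz]
      exact subset_closure rfl
    exact h h1
  · intro h
    have h1 : closure {z} ⊆ (W : Set (Points X.obj)) :=
      closure_minimal (by rintro _ rfl; exact h) W.isClosed'
    rw [hz] at h1
    exact h1

end Chains

/-- The space of points of a decent space locally of finite type over a universally catenary locally Noetherian scheme
is catenary. -/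
theorem isCatenarySpace [IsLocallyNoetherian S]
    (hS : ∀ s : ↥S, CAlg.IsUniversallyCatenary ↥(S.presheaf.stalk s)) (X : Space S)
    (hX : IsDecent X.obj) (p : X.obj ⟶ (yon S).obj (Over.mk (𝟙 S)))
    (hp : LocP @LocallyOfFiniteType p) :
    W4stk3decentspacesp2.IsCatenarySpace (Points X.obj) := by
  have hq : QuasiSober (Points X.obj) := Groth.Agent.S10339.result X hX
  have hT0 : T0Space (Points X.obj) := Groth.Agent.S10338.result X hX
  choose g hg using exists_gen X
  have hle : ∀ {Z W : IrreducibleCloseds (Points X.obj)}, Z ≤ W ↔ g W ⤳ g Z :=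
    fun {Z W} => le_iff_gen X (hg Z) (hg W)
  have hinj : ∀ {Z W : IrreducibleCloseds (Points X.obj)}, g Z = g W → Z = W := by
    intro Z W h
    refine le_antisymm (hle.2 ?_) (hle.2 ?_)
    · rw [h]
    · rw [h]
  have hsurj : ∀ y : Points X.obj, ∃ Z, g Z = y := by
    intro y
    let Z : IrreducibleCloseds (Points X.obj) :=
      ⟨closure {y}, isIrreducible_singleton.closure, isClosed_closure⟩
    refine ⟨Z, ?_⟩
    have h1 : closure {g Z} = closure {y} := hg Z
    exact ((inseparable_iff_closure_eq.2 h1)).eq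
  intro T T' _
  obtain ⟨U, a, u, ha, hu⟩ := K621.Base.exists_chart X.property (g T)
  have hl : LocallyOfFiniteType U.hom := locallyOfFiniteType_chart p hp a ha
  have hN : IsLocallyNoetherian U.left := LocallyOfFiniteType.isLocallyNoetherian U.hom
  have hcat : ∀ x : U.left, CAlg.IsUniversallyCatenary (U.left.presheaf.stalk x) :=
    isUniversallyCatenary_stalk U.hom hS
  have key : ∀ s : LTSeries (IrreducibleCloseds (Points X.obj)), s.head = T →
      ∃ (w : ↥U.left) (h : w ⤳ u), Points.ofPt a w = g s.last ∧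
      ((s.length : ℕ) : WithBot ℕ∞) ≤ ringKrullDim (Cyc.LocQuot u w h) ∧
      ((∀ i : Fin s.length, s.toFun i.castSucc ⋖ s.toFun i.succ) →
        ringKrullDim (Cyc.LocQuot u w h) = ((s.length : ℕ) : WithBot ℕ∞)) := by
    intro s hs
    have hstep : ∀ i : Fin s.length, s.toFun i.castSucc < s.toFun i.succ := s.step
    obtain ⟨w, h, hw, h1, h2⟩ := lift X hX a ha hcat u s.length (fun i => g (s.toFun i))
      (by rw [hu, ← hs]; rfl)
      (fun i => hle.1 (hstep i).le) (fun i h => (hstep i).ne (hinj h).symm) (Fin.last _)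
    refine ⟨w, h, hw, ?_, fun hcov => ?_⟩
    · simpa using h1
    · have h3 := h2 fun j y hy1 hy2 => ?_
      · simpa using h3
      · obtain ⟨Z, rfl⟩ := hsurj y
        rcases (hcov j).eq_or_eq (hle.2 hy2) (hle.2 hy1) with h4 | h4
        · right; rw [h4]
        · left; rw [h4]
  constructor
  · have hN' : IsNoetherianRing (U.left.presheaf.stalk u) := inferInstance
    obtain ⟨N, hNd⟩ : ∃ N : ℕ, ringKrullDim (U.left.presheaf.stalk u) = N := by
      have h1 : ringKrullDim (U.left.presheaf.stalk u) ≠ ⊤ := ringKrullDim_ne_top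
      have h2 : ringKrullDim (U.left.presheaf.stalk u) ≠ ⊥ := ringKrullDim_ne_bot
      obtain ⟨e, he⟩ := WithBot.ne_bot_iff_exists.1 h2
      rw [← he] at h1 ⊢
      have h3 : e ≠ ⊤ := fun h => h1 (by rw [h]; rfl)
      obtain ⟨N, rfl⟩ := ENat.ne_top_iff_exists.1 h3
      exact ⟨N, rfl⟩
    refine ⟨N, fun s hs _ => ?_⟩
    obtain ⟨w, h, -, h1, -⟩ := key s hs
    have h2 := h1.trans (ringKrullDim_quotient_le _)
    rw [hNd] at h2
    exact_mod_cast h2
  · intro s t hs hs' ht ht' hcs hct
    obtain ⟨w, h, hw, -, h1⟩ := key s hs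
    obtain ⟨w', h', hw', -, h1'⟩ := key t ht
    have hww : Points.ofPt a w = Points.ofPt a w' := by
      rw [hw, hw', hs', ht']
    obtain ⟨e1, e2⟩ := resTrdeg_eq_of_ofPt a ha w w' hww
    exact natCast_unique U.hom hS h h' e1 e2 (h1 hcs) (h1' hct)

end Sp

end K624.Caten
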