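import Groth.Prelude.Def_AlgSpDec
import Mathlib.AlgebraicGeometry.Morphisms.FlatMono
import Mathlib.AlgebraicGeometry.Morphisms.Etale

/-!
# Maps between étale charts and elementary étale neighbourhoods
-/

set_option autoImplicit false
universe u
open CategoryTheory CategoryTheory.Limits AlgebraicGeometry

namespace K624.ChartMap

open AlgSp

variable {S : Scheme.{u}}

/-- A morphism from the spectrum of a field to the spectrum of a field which is a monomorphism is an
isomorphism. -/
theorem isIso_of_mono_field {K L : CommRingCat.{u}} (hK : IsField K) (hL : IsField L)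
    (q : Spec L ⟶ Spec K) [Mono q] : IsIso q := by
  let _ := hK.toField
  let _ := hL.toField
  have : Flat q := by
    obtain ⟨φ, rfl⟩ := Spec.map_surjective q
    rw [Flat.SpecMap_iff]
    algebraize [φ.hom]
    change Module.Flat _ _
    infer_instance
  have hs : Subsingleton ↥(Spec K) := inferInstanceAs (Subsingleton (PrimeSpectrum K))
  have hn : Nonempty ↥(Spec L) := inferInstanceAs (Nonempty (PrimeSpectrum L))
  have : Surjective q := ⟨fun x => ⟨hn.some, Subsingleton.elim _ _⟩⟩
  exact Flat.isIso_of_surjective_of_mono q

/-- A ring map of fields whose `Spec` is a monomorphism is bijective. -/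
theorem bijective_of_mono_spec {K L : CommRingCat.{u}} (hK : IsField K) (hL : IsField L)
    (φ : K ⟶ L) [Mono (Spec.map φ)] : Function.Bijective φ.hom := by
  have := isIso_of_mono_field hK hL (Spec.map φ)
  have : IsIso φ := by
    have h0 : IsIso (Scheme.Spec.map φ.op) := this
    have h := isIso_of_reflects_iso φ.op Scheme.Spec
    exact (isIso_op_iff φ).1 h
  exact ConcreteCategory.bijective_of_isIso φ

/-- A morphism between two étale charts of a sheaf is étale. -/
theorem etale_left_of_charts {F : Sp S} {U U' : Over S} (a : (yon S).obj U ⟶ F)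
    (a' : (yon S).obj U' ⟶ F) (g : U' ⟶ U) (hg : (yon S).map g ≫ a = a') (ha : RepWith @Etale a)
    (ha' : RepWith @Etale a') : Etale g.left := by
  obtain ⟨W, snd, fst, hW⟩ := ha.1 a'
  obtain ⟨fst, rfl⟩ := (yon S).map_surjective fst
  have h1 : Etale snd.left := ha.2 a' ((yon S).map fst) snd hW
  have h2 : Etale fst.left := ha'.2 a ((yon S).map snd) fst hW.flip
  let s : (yon S).obj U' ⟶ (yon S).obj W := hW.lift ((yon S).map g) (𝟙 _) (by simpa using hg)
  obtain ⟨s', hs'⟩ := (yon S).map_surjective s
  have hs1 : s' ≫ fst = g := by
    apply (yon S).map_injective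
    rw [Functor.map_comp, hs']
    exact hW.lift_fst _ _ _
  have hs2 : s' ≫ snd = 𝟙 _ := by
    apply (yon S).map_injective
    rw [Functor.map_comp, hs', CategoryTheory.Functor.map_id]
    exact hW.lift_snd _ _ _
  have h3 : Etale (s'.left ≫ snd.left) := by
    rw [← Over.comp_left, hs2, Over.id_left]
    infer_instance
  have h4 : Etale s'.left := Etale.of_comp s'.left snd.left
  rw [← hs1, Over.comp_left]
  infer_instance

/-- The residue field extension of a morphism between two charts is trivial at points where both
points `Spec κ → F` are monomorphisms. -/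
theorem bijective_residueFieldMap {F : Sp S} {U U' : Over S} (a : (yon S).obj U ⟶ F)
    (a' : (yon S).obj U' ⟶ F) (g : U' ⟶ U) (hg : (yon S).map g ≫ a = a') (u' : ↥U'.left)
    (hm' : Mono (FieldPt.ofPt a' u').toHom) :
    Function.Bijective (g.left.residueFieldMap u') := by
  let c : (FieldPt.ofPt a' u').pt ⟶ (FieldPt.ofPt a (g.left u')).pt :=
    Over.homMk (Spec.map (g.left.residueFieldMap u')) (by
      change Spec.map (g.left.residueFieldMap u') ≫ U.left.fromSpecResidueField _ ≫ U.hom =
        U'.left.fromSpecResidueField u' ≫ U'.hom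
      rw [← Category.assoc, Scheme.Hom.SpecMap_residueFieldMap_fromSpecResidueField,
        Category.assoc, Over.w g])
  have hc : (yon S).map c ≫ (FieldPt.ofPt a (g.left u')).toHom = (FieldPt.ofPt a' u').toHom := by
    rw [FieldPt.toHom_ofPt, FieldPt.toHom_ofPt, ← hg, ← Category.assoc, ← Category.assoc,
      ← Functor.map_comp, ← Functor.map_comp]
    congr 2
    apply Over.OverMorphism.ext
    exact Scheme.Hom.SpecMap_residueFieldMap_fromSpecResidueField g.left u'
  have h1 : Mono ((yon S).map c ≫ (FieldPt.ofPt a (g.left u')).toHom) := by rw [hc]; exact hm'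
  have h2 : Mono ((yon S).map c) := mono_of_mono _ (FieldPt.ofPt a (g.left u')).toHom
  have h3 : Mono c := (yon S).mono_of_mono_map h2
  have h4 : Mono c.left := inferInstance
  have h5 : Mono (Spec.map (g.left.residueFieldMap u')) := h4
  exact bijective_of_mono_spec (Field.toIsField _) (Field.toIsField _) (g.left.residueFieldMap u')

end K624.ChartMap
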