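import Groth.Agent.S0217
import Groth.Agent.S10348
import Groth.Agent.S9951
import Groth.Agent.AlgSp.K626.FinLocus
import Groth.Agent.AlgSp.K608.SepAbs
import Groth.Agent.AlgSp.K597.Proper
import Groth.Agent.AlgSp.K603.Chev
import Groth.Agent.CurvSt.K899.FinalSp
import Groth.Agent.FlatA.FinsetAffine
import Groth.Agent.AlgSp.K610.Factor
import Groth.Agent.AlgSp.K610.OpenImm
import Groth.Agent.AlgSp.K616.LocNoeth
import Groth.Agent.AlgSp.K598.OpenInd
import Groth.Agent.AlgSp.K597.EtLoc

/-!
# Points of codimension at most one of separated locally Noetherian algebraic spaces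

From a finite surjective cover by a scheme and the criterion "finite subsets of the fibres lie in affine
opens" one gets that points of codimension at most one lie in the schematic locus.
-/

set_option autoImplicit false
universe u
open CategoryTheory CategoryTheory.Limits AlgebraicGeometry TopologicalSpace

namespace K624.CodimOne

open AlgSp K610.Base K610.Sub K610.SchLocus

attribute [local instance] MorphismProperty.relative_isStableUnderBaseChange

variable {S : Scheme.{u}}

/-- Interface: an algebraic space with a finite surjective cover by a scheme in which the finite subsets of the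
fibres lie in affine opens is a scheme. -/
def ThmK (S : Scheme.{u}) : Prop :=
  ∀ {X : Sp S}, IsAlgSpace X → IsLocNoethSp X → ∀ {Z : Over S} (z : (yon S).obj Z ⟶ X), RepWith @IsFinite z →
    RepWith @Surjective z → (∀ s : Finset ↥Z.left, (∀ a ∈ s, ∀ b ∈ s, Points.ofPt z a = Points.ofPt z b) →
      ∃ V : Z.left.Opens, IsAffineOpen V ∧ ∀ a ∈ s, a ∈ V) → X.obj.IsRepresentable

/-- Interface: finite surjective covers by schemes. -/
def FinCov (S : Scheme.{u}) : Prop :=
  ∀ {X : Sp S}, IsAlgSpace X → IsQuasiCompactSp X → IsQuasiSeparatedSp X →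
    ∃ (Z : Over S) (z : (yon S).obj Z ⟶ X), RepWith @IsFinite z ∧ RepWith @Surjective z

theorem hasAt_yon {Z : Over S} {Q : ∀ U : Scheme.{u}, ↥U → Prop} (z : ↥Z.left) (h : Q Z.left z) :
    HasAt Q ((yon S).obj Z) (Points.ofScheme Z z) :=
  ⟨Z, 𝟙 _, z, K899.SpPt.repWith_id Z, by
    rw [Points.ofPt_eq_map_ofScheme, Points.map_id], h⟩

/-- Dimension of the local rings of a finite cover. -/
theorem ringKrullDim_le_of_finite {X : Space S} {Z : Over S} (z : (yon S).obj Z ⟶ X.obj) (hz : RepWith @IsFinite z)
    (x : Points X.obj) (hx : HasAt (fun U u => ringKrullDim ↥(U.presheaf.stalk u) ≤ 1) X.obj x) (t : ↥Z.left)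
    (ht : Points.ofPt z t = x) : ringKrullDim ↥(Z.left.presheaf.stalk t) ≤ 1 := by
  obtain ⟨U, a, u, ha, hu, hd⟩ := hx
  let Y : Space S := ⟨(yon S).obj Z, IsAlgSpace.yon_obj Z⟩
  let f : Y ⟶ X := ⟨z⟩
  have h1 := Groth.Agent.S10348.result f ?_ (Points.ofScheme Z t) (ringKrullDim ↥(Z.left.presheaf.stalk t))
    (ringKrullDim ↥(U.left.presheaf.stalk u)) (hasAt_yon t rfl) ?_
  · exact h1.trans hd
  · refine K597.locP_of_repWith ?_ (P := @LocallyQuasiFinite ⊓ @LocallyOfFiniteType)
      (repWith_mono (fun _ _ g (_ : IsFinite g) => ⟨inferInstance, inferInstance⟩) hz)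
    intro A B C e f he hg
    have h1 : LocallyQuasiFinite f := hg.1
    have h2 : LocallyOfFiniteType f := hg.2
    have h3 : LocallyQuasiFinite e := K597.locallyQuasiFinite_of_etale e
    exact ⟨inferInstance, inferInstance⟩
  · refine ⟨U, a, u, ha, ?_, rfl⟩
    rw [hu, ← ht]
    exact Points.ofPt_eq_map_ofScheme z t

/-- Finite subsets of an open subscheme contained in an affine open lie in affine opens. -/
theorem exists_affine_of_factor {V Z : Scheme.{u}} (i : V ⟶ Z) [IsOpenImmersion i] (A : Z.Opens)
    (hA : IsAffineOpen A) (h : ∀ v : V, i v ∈ A) (s : Finset ↥V) : ∃ W : V.Opens, IsAffineOpen W ∧ ∀ a ∈ s, a ∈ W := by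
  have : IsAffine (A : Scheme.{u}) := hA
  have hr : Set.range i ⊆ Set.range A.ι := by
    rintro _ ⟨v, rfl⟩
    rw [Scheme.Opens.range_ι]
    exact h v
  have h1 : IsOpenImmersion (IsOpenImmersion.lift A.ι i hr) := by
    have : IsOpenImmersion (IsOpenImmersion.lift A.ι i hr ≫ A.ι) := by
      rw [IsOpenImmersion.lift_fac]; infer_instance
    exact IsOpenImmersion.of_comp _ A.ι
  exact Groth.Agent.FlatA.FinsetAffine.exists_isAffineOpen_of_isOpenImmersion (IsOpenImmersion.lift A.ι i hr) s

/-- Points of codimension at most one of separated locally Noetherian algebraic spaces lie in the schematic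
locus. -/
theorem main [S.IsSeparated] (hK : ThmK S) (hF : FinCov S) (X : Space S) (hsep : IsSeparatedSp X.obj)
    (hN : IsLocNoethSp X.obj) (x : Points X.obj)
    (hx : HasAt (fun U u => ringKrullDim ↥(U.presheaf.stalk u) ≤ 1) X.obj x) :
    ∃ (X' : Space S) (j : X' ⟶ X), RepWith @IsOpenImmersion j.hom ∧
      X'.obj.obj.IsRepresentable ∧ x ∈ Set.range (Points.map j.hom) := by
  -- quasi-compact open neighbourhood
  obtain ⟨W, hWo, hWc, hxW, -⟩ := K609.QC.exists_isOpen_isCompact_nhd X.property x Set.univ isOpen_univ trivial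
  obtain ⟨Y, j, hj, hran⟩ := exists_open_subspace X W hWo
  have hjm : Mono j.hom := K610.Factor.mono_of_isOpenImmersion hj
  have hYsep : IsSeparatedSp Y.obj := K603.Chev.isSeparatedSp_of_mono hsep j.hom
  have hYN : IsLocNoethSp Y.obj := Groth.Agent.S9951.result j (K597.locP_of_repWith
    (P := @LocallyOfFiniteType) (fun A B C e g he hg => inferInstance)
    (repWith_mono (fun _ _ g (_ : IsOpenImmersion g) => (inferInstance : LocallyOfFiniteType g)) hj)) hN
  have hYc : CompactSpace (Points Y.obj) := by
    rw [← isCompact_univ_iff, (K610.OpenImm.isOpenEmbedding_points X.property hj).isInducing.isCompact_iff,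
      Set.image_univ, hran]
    exact hWc
  have hYqc : IsQuasiCompactSp Y.obj := K609.QC.isQuasiCompactSp_of_compactSpace Y.property
  obtain ⟨y, rfl⟩ : x ∈ Set.range (Points.map j.hom) := by rw [hran]; exact hxW
  have hy : HasAt (fun U u => ringKrullDim ↥(U.presheaf.stalk u) ≤ 1) Y.obj y := by
    obtain ⟨U, a, u, ha, hu⟩ := K616.Inv.exists_chart Y.property y
    rw [K616.Inv.hasAt_iff' (K616.DimInv.etInvAt_stalkDim fun e => e ≤ 1) a ha u hu]
    have hv : Points.ofPt (a ≫ j.hom) u = Points.map j.hom y := by rw [← hu, Points.map_ofPt]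
    exact (K616.Inv.hasAt_iff' (K616.DimInv.etInvAt_stalkDim fun e => e ≤ 1) _
      (K598.OpenInd.isEtaleMor_of_repWith (repWith_mono (fun _ _ g (_ : IsOpenImmersion g) => (inferInstance : Etale g)) hj)
        a ha) u hv).1 hx
  -- finite cover
  obtain ⟨Z, z, hz, hzs⟩ := hF Y.property hYqc (K603.Chev.isQuasiSeparatedSp_of_isSeparatedSp hYsep)
  have hzss : Function.Surjective (Points.ofPt z) := K609.Points.surjective_ofPt_of_repWith_surjective hzs
  have hZN : IsLocallyNoetherian Z.left := by
    have h1 : IsLocNoethSp ((yon S).obj Z) := by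
      let Y' : Space S := ⟨(yon S).obj Z, IsAlgSpace.yon_obj Z⟩
      let f : Y' ⟶ Y := ⟨z⟩
      exact Groth.Agent.S9951.result f (K597.locP_of_repWith
        (P := @LocallyOfFiniteType) (fun A B C e g he hg => inferInstance)
        (repWith_mono (fun _ _ g (_ : IsFinite g) => (inferInstance : LocallyOfFiniteType g)) hz)) hYN
    exact K616.LocNoeth.isLocallyNoetherian_chart h1 _ (K899.SpPt.repWith_id Z)
  have hZS : IsSeparatedSp ((yon S).obj Z) := K608.SepAbs.isSeparatedSp_of_isSeparatedMor z
    (K597.Proper.isSeparatedMor_of_isAffineMor (K597.Affine.isAffineMor_of_repWith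
      (repWith_mono (fun _ _ g (_ : IsFinite g) => (inferInstance : IsAffineHom g)) hz))) hYsep
  have hZsep : Z.left.IsSeparated := by
    have h1 : IsSeparated Z.hom := ⟨(repWith_diag_yon_iff @IsClosedImmersion Z).1 hZS⟩
    have h2 : IsSeparated (Z.hom ≫ terminal.from S) := inferInstance
    exact ⟨by rwa [Subsingleton.elim (terminal.from Z.left) (Z.hom ≫ terminal.from S)]⟩
  -- the fibre
  have hfib : (Points.ofPt z ⁻¹' {y}).Finite := by
    have h1 := K626.FinLocus.finite_fibre hz y
    have h2 : Function.Injective (Points.ofScheme Z) := fun a b hab => by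
      rw [← Points.toScheme_ofScheme Z a, hab, Points.toScheme_ofScheme]
    refine (h1.preimage (f := Points.ofScheme Z) h2.injOn).subset fun t ht => ?_
    exact (Points.ofPt_eq_map_ofScheme z t).symm.trans ht
  obtain ⟨A, hA, hAy⟩ := Groth.Agent.S0217.result Z.left (fun U hU => by
    have h1 : CompactSpace ↥U := isCompact_iff_compactSpace.1 hU
    have h2 : IsNoetherian (U : Scheme.{u}) := { toCompactSpace := h1 }
    exact finite_irreducibleComponents_of_isNoetherian (X := (U : Scheme.{u}))) hfib.toFinset (fun t ht => ⟨by infer_instance, by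
    have ht' : Points.ofPt z t = y := by simpa using ht
    exact ringKrullDim_le_of_finite z hz y hy t ht'⟩)
  -- shrink
  have hcl := K899.FinalSp.isClosedMap_ofPt hz _ A.isOpen.isClosed_compl
  obtain ⟨X', j', hj', hran'⟩ := exists_open_subspace Y _ hcl.isOpen_compl
  have hjm' : Mono j'.hom := K610.Factor.mono_of_isOpenImmersion hj'
  obtain ⟨V, snd, fst, sq⟩ := hj'.1 z
  have hsnd : IsOpenImmersion snd.left := hj'.2 _ _ _ sq
  have hX'N : IsLocNoethSp X'.obj := Groth.Agent.S9951.result j' (K597.locP_of_repWith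
    (P := @LocallyOfFiniteType) (fun A B C e g he hg => inferInstance)
    (repWith_mono (fun _ _ g (_ : IsOpenImmersion g) => (inferInstance : LocallyOfFiniteType g)) hj')) hYN
  refine ⟨X', j' ≫ j, ?_, ?_, ?_⟩
  · exact MorphismProperty.comp_mem (RepWith @IsOpenImmersion) _ _ hj' hj
  · refine hK X'.property hX'N fst (MorphismProperty.of_isPullback (P := RepWith @IsFinite) sq.flip hz)
      (MorphismProperty.of_isPullback (P := RepWith @Surjective) sq.flip hzs) ?_
    intro s _
    refine exists_affine_of_factor snd.left A hA ?_ s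
    intro v
    by_contra hv
    have h2 : Points.ofPt z (snd.left v) ∈ Set.range (Points.map j'.hom) := by
      rw [← ofPt_map_comp, ← sq.w, ofPt_comp]
      exact ⟨_, rfl⟩
    rw [hran'] at h2
    exact h2 ⟨_, hv, rfl⟩
  · have h3 : y ∈ Set.range (Points.map j'.hom) := by
      rw [hran']
      rintro ⟨t, ht, hty⟩
      exact ht (hAy t (by simpa using hty))
    obtain ⟨x', rfl⟩ := h3
    exact ⟨x', Points.map_comp _ _ _⟩

end K624.CodimOne
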