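import Groth.Agent.AlgSp.K624.GECompact
import Groth.Agent.AlgSp.K617.DenseOpen
import Groth.Agent.AlgSp.K610.FinQuot
import Groth.Agent.AlgSp.K610.SchLocus
import Groth.Agent.AlgSp.K621.Generic
import Groth.Agent.FlatA.FinsetAffine

/-!
# Codimension zero points of quasi-separated spaces lie in the schematic locus
-/

set_option autoImplicit false
universe u
open CategoryTheory CategoryTheory.Limits AlgebraicGeometry Topology TopologicalSpace

namespace K624.CodimZeroSch

open AlgSp K617.EtFin K617.Strat K624.GECompact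

variable {S : Scheme.{u}}

/-- A finite étale surjective chart by an open subscheme of an affine scheme: the space is a scheme. -/
theorem exists_iso_of_finite_chart {X : Sp S} {V : Over S} {a : (yon S).obj V ⟶ X}
    (h1 : RepWith @IsFinite a) (h2 : RepWith @Etale a) (h3 : RepWith @Surjective a)
    {Y : Scheme.{u}} [IsAffine Y] (i : V.left ⟶ Y) [IsOpenImmersion i] :
    ∃ (M : Over S) (m : V ⟶ M) (e : (yon S).obj M ≅ X), (yon S).map m ≫ e.hom = a ∧
      IsFinite m.left ∧ Etale m.left ∧ Surjective m.left ∧ (IsAffine V.left → IsAffine M.left) := by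
  have hflat : RepWith @Flat a := K610.Base.repWith_mono (fun _ _ f hf => by
    have : Etale f := hf
    infer_instance) h2
  have hlfp : RepWith @LocallyOfFinitePresentation a := K610.Base.repWith_mono (fun _ _ f hf => by
    have : Etale f := hf
    infer_instance) h2
  obtain ⟨M, m, e, he, hm, hs, hM⟩ := K610.FinQuot.exists_iso h1 hflat hlfp h3 (fun x => by
    obtain ⟨R, fst, snd, sq, hf⟩ := K621.Base.exists_pullback_of_repWith h1 a
    have hfin : (snd.left ⁻¹' {x}).Finite := Scheme.Hom.finite_preimage_singleton snd.left x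
    obtain ⟨W, hW, hWx⟩ := Groth.Agent.FlatA.FinsetAffine.exists_isAffineOpen i
      ((hfin.image fst.left).toFinset)
    refine ⟨W, hW, fun y hy => hWx y ?_⟩
    obtain ⟨r, hr1, hr2⟩ := K621.Base.exists_point_of_isPullback sq y x hy
    rw [Set.Finite.mem_toFinset]
    exact ⟨r, hr2, hr1⟩)
  refine ⟨M, m, e, he, hm.1, ?_, hs, hM⟩
  have h4 : RepWith @Etale ((yon S).map m) := by
    have h5 : (yon S).map m = a ≫ e.inv := by rw [← he, Category.assoc, e.hom_inv_id, Category.comp_id]
    rw [h5]
    exact MorphismProperty.comp_mem (RepWith @Etale) _ _ h2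
      (MorphismProperty.of_isIso (P := RepWith @Etale) e.inv)
  exact (repWith_yon_map_iff _ _).1 h4

/-- Codimension zero points of a quasi-separated algebraic space over a quasi-separated scheme lie in the schematic
locus. -/
theorem mem_locus [QuasiSeparatedSpace S] (X : Space S) (hqs : IsQuasiSeparatedSp X.obj)
    (x : Points X.obj) (hx : K621.Generic.CodimZero X.obj x) : x ∈ K610.SchLocus.locus X := by
  obtain ⟨U₀, p₀, hp₀, hs₀⟩ := X.property.atlas
  obtain ⟨u₀, rfl⟩ := K610.Base.surjective_ofPt hs₀ x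
  obtain ⟨U, i, u, hU, -, rfl, hp, hs, -⟩ := K617.Sober.exists_affine_chart p₀ hp₀ u₀ Set.univ
    isOpen_univ trivial
  set p : (yon S).obj U ⟶ X.obj := (yon S).map i ≫ p₀ with hpdef
  have hpu : Points.ofPt p₀ (i.left u) = Points.ofPt p u := (K621.Base.ofPt_comp i p₀ u).symm
  rw [hpu] at hx ⊢
  obtain ⟨R, fst, snd, sq, -⟩ := K621.Base.exists_pullback_of_repWith hp p
  have hRc : CompactSpace ↥R.left := K609.Sep.compactSpace_pullback hqs sq
  have he : Etale snd.left := hp.2 _ _ _ sq
  have hse : IsSeparated snd.left := hs.2 _ _ _ sq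
  have hqc : QuasiCompact snd.left := inferInstance
  have hmax : ∀ z : U.left, z ⤳ u → z = u := (K621.Generic.codimZero_iff X.property hp).1 hx
  -- the level of `u`
  obtain ⟨N, hN⟩ := exists_notMem_GE snd.left u
  have h1 : u ∈ GE snd.left 1 := by
    rw [← preimage_GEX sq, Set.mem_preimage, GEX_one p hp.1]
    exact ⟨u, rfl⟩
  classical
  obtain ⟨n, hn1, hn2⟩ : ∃ n, u ∈ GE snd.left (n + 1) ∧ u ∉ GE snd.left (n + 2) := by
    by_contra hcon
    push Not at hcon
    have h2 : ∀ n, u ∈ GE snd.left (n + 1) := by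
      intro n
      induction n with
      | zero => exact h1
      | succ n ih => exact hcon n ih
    exact hN (GE_antitone snd.left (Nat.le_succ N) (h2 N))
  obtain ⟨W', hW', huW', hdis⟩ := exists_disjoint_nbhd u hmax (GE snd.left (n + 2))
    (isOpen_GE _ _) (isCompact_GE _ _) hn2
  have hO : IsOpen (GEX p (n + 1) ∩ Points.ofPt p '' W') :=
    (isOpen_GEX _ hp hs _).inter (K610.Base.isOpenMap_ofPt_etale hp _ hW')
  obtain ⟨X', j, V, i', a, hj, hr, hi', hfin, het, hsur⟩ := K617.DenseOpen.exists_finite_chart hp hs n _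
    hO Set.inter_subset_left (by
      refine Set.eq_empty_of_forall_notMem ?_
      rintro _ ⟨⟨-, w, hw, rfl⟩, h3⟩
      refine Set.disjoint_left.1 hdis hw ?_
      rw [← preimage_GEX sq]
      exact h3)
  obtain ⟨M, m, e, -⟩ := exists_iso_of_finite_chart hfin het hsur i'.left
  rw [K610.SchLocus.mem_locus_iff]
  refine ⟨_, (K610.SchLocus.isSch_iff hj).2 ?_, ?_⟩
  · exact (K610.ZarGlue.isRepresentable_iff).2 ⟨M, ⟨e⟩⟩
  · rw [hr]
    refine ⟨?_, u, huW', rfl⟩
    have h4 : u ∈ Points.ofPt p ⁻¹' GEX p (n + 1) := by rw [preimage_GEX sq]; exact hn1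
    exact h4

end K624.CodimZeroSch
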