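import Groth.Agent.AlgSp.K624.CodimZeroSch
import Groth.Agent.AlgSp.K624.DimInt
import Groth.Agent.S9795
import Groth.Agent.S9797

/-!
# Quasi-separated algebraic spaces of dimension zero are separated schemes
-/

set_option autoImplicit false
universe u
open CategoryTheory CategoryTheory.Limits AlgebraicGeometry Topology TopologicalSpace

namespace K624.DimZero

open AlgSp

variable {S : Scheme.{u}}

theorem isPullback_comp_mono {C : Type*} [Category C] {P A B G H : C} {p : P ⟶ A} {q : P ⟶ B}
    {f : A ⟶ G} {g : B ⟶ G} (sq : IsPullback p q f g) (j : G ⟶ H) [Mono j] :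
    IsPullback p q (f ≫ j) (g ≫ j) := by
  refine ⟨⟨by rw [← Category.assoc, sq.w, Category.assoc]⟩, ⟨PullbackCone.IsLimit.mk _
    (fun s => sq.lift s.fst s.snd (by
      rw [← cancel_mono j, Category.assoc, Category.assoc]; exact s.condition)) ?_ ?_ ?_⟩⟩
  · intro s; exact sq.lift_fst _ _ _
  · intro s; exact sq.lift_snd _ _ _
  · intro s m h1 h2
    apply sq.hom_ext
    · rw [sq.lift_fst]; exact h1
    · rw [sq.lift_snd]; exact h2

/-- A scheme with a monomorphism into a quasi-separated space over a quasi-separated base is quasi-separated. -/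
theorem quasiSeparatedSpace_of_mono [QuasiSeparatedSpace S] {X : Sp S} (hqs : IsQuasiSeparatedSp X)
    {U : Over S} (a : (yon S).obj U ⟶ X) [Mono a] : QuasiSeparatedSpace ↥U.left := by
  rw [quasiSeparatedSpace_iff_forall_affineOpens]
  intro V W
  let V' : Over S := Over.mk (V.1.ι ≫ U.hom)
  let W' : Over S := Over.mk (W.1.ι ≫ U.hom)
  let P' : Over S := Over.mk ((V.1 ⊓ W.1).ι ≫ U.hom)
  let v : V' ⟶ U := Over.homMk V.1.ι rfl
  let w : W' ⟶ U := Over.homMk W.1.ι rfl
  let p : P' ⟶ V' := Over.homMk (U.left.homOfLE inf_le_left) (by simp [P', V'])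
  let q : P' ⟶ W' := Over.homMk (U.left.homOfLE inf_le_right) (by simp [P', W'])
  have sq : IsPullback ((yon S).map p) ((yon S).map q) ((yon S).map v) ((yon S).map w) :=
    K610.Coeq.isPullback_yon (isPullback_opens_inf V.1 W.1)
  have hV : CompactSpace ↥V'.left := isCompact_iff_compactSpace.1 V.2.isCompact
  have hW : CompactSpace ↥W'.left := isCompact_iff_compactSpace.1 W.2.isCompact
  have hP : CompactSpace ↥P'.left := K609.Sep.compactSpace_pullback hqs (isPullback_comp_mono sq a)
  exact isCompact_iff_compactSpace.2 hP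

/-- If `X` has dimension zero, all its points have codimension zero. -/
theorem codimZero_of_dim_zero {X : Space S} (hd : dim X.obj = 0) (x : Points X.obj) :
    K621.Generic.CodimZero X.obj x := by
  obtain ⟨U, a, u, ha, hu⟩ := K621.Base.exists_chart X.property x
  refine ⟨U, a, u, ha, hu, ?_⟩
  refine le_antisymm ?_ ?_
  · exact (K624.DimInt.stalkDim_le_dim a ha u).trans hd.le
  · exact ringKrullDim_nonneg_of_nontrivial

/-- A space of dimension zero all of whose points are in the schematic locus, and which is quasi-separated, is a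
separated scheme whose quasi-compact opens are affine. -/
theorem exists_scheme {X : Space S} (hd : dim X.obj = 0) (h : ∀ x, x ∈ K610.SchLocus.locus X)
    (hq : ∀ (U : Over S) (a : (yon S).obj U ⟶ X.obj), Mono a → QuasiSeparatedSpace ↥U.left) :
    ∃ (U : Over S) (_ : (yon S).obj U ≅ X.obj), U.left.IsSeparated ∧
      ∀ V : U.left.Opens, IsCompact (V : Set ↥U.left) → IsAffineOpen V := by
  have hrep := K610.SchLocus.isRepresentable_iff_forall.2 fun x =>
    K610.SchLocus.mem_locus_iff.1 (h x)
  obtain ⟨U, ⟨e⟩⟩ := K610.ZarGlue.isRepresentable_iff.1 hrep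
  have h1 : QuasiSeparatedSpace ↥U.left := hq U e.hom inferInstance
  have h2 : topologicalKrullDim ↥U.left ≤ 0 := by
    rw [← hd]
    exact K624.DimInt.topologicalKrullDim_le_dim e.hom
      (MorphismProperty.of_isIso (P := RepWith @Etale) e.hom)
  have h3 : U.left.IsSeparated := Groth.Agent.S9795.result U.left h2
  exact ⟨U, e, h3, fun V hV => Groth.Agent.S9797.result U.left h2 V hV⟩

end K624.DimZero
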