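import Groth.Agent.AlgSp.K624.CodimOne
import Groth.Agent.AlgSp.K650.ThmK

/-!
# A locally Noetherian algebraic space finite-covered by a scheme whose fibres lie in affine opens
is a scheme (reformulation of theorem K)
-/

set_option autoImplicit false
universe u
open CategoryTheory CategoryTheory.Limits AlgebraicGeometry TopologicalSpace

namespace K624.FinQuotSch

open AlgSp K610.Base K610.Sub K610.SchLocus K624.CodimOne

variable {S : Scheme.{u}}

theorem thmK (S : Scheme.{u}) : ThmK S := by
  intro X hX hN Z z hfin hsurj hs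
  refine (isRepresentable_iff_forall (X := ⟨X, hX⟩)).2 fun x => ?_
  have hfib := K650.ThmK.finite_preimage hX hfin (Set.finite_singleton x)
  obtain ⟨V, hV, hV2⟩ := hs hfib.toFinset (by
    intro a ha b hb
    simp only [Set.Finite.mem_toFinset, Set.mem_preimage, Set.mem_singleton_iff] at ha hb
    rw [ha, hb])
  obtain ⟨W, hW, hW2⟩ := (K650.ThmK.good hX hN Z z hfin hsurj {x} (Set.finite_singleton x) V hV
    (fun y hy => hV2 y (by simpa using hy))).isSch
  exact ⟨W, hW, hW2 rfl⟩

theorem main [S.IsSeparated] (hF : FinCov S) (X : Space S) (hsep : IsSeparatedSp X.obj)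
    (hN : IsLocNoethSp X.obj) (x : Points X.obj)
    (hx : HasAt (fun U u => ringKrullDim ↥(U.presheaf.stalk u) ≤ 1) X.obj x) :
    ∃ (X' : Space S) (j : X' ⟶ X), RepWith @IsOpenImmersion j.hom ∧
      X'.obj.obj.IsRepresentable ∧ x ∈ Set.range (Points.map j.hom) :=
  K624.CodimOne.main (thmK S) hF X hsep hN x hx

end K624.FinQuotSch
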