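import Groth.Agent.Ega43.MaxPoints
import Groth.Agent.Ega1.GenPts
import Groth.Agent.Flat2D.RelDimClosure
import Groth.Agent.Dual.H375.SmoothDim
import Groth.Agent.AlgSp.K616.NearDim
import Groth.Agent.S1608

/-!
# Quasi-finiteness over points of codimension at most one

* `exists_open_through`: in a locally Noetherian scheme every point `u` has an open neighbourhood all of whose maximal
  points specialize to `u`;
* `mem_of_dense`: maximal points of a locally Noetherian scheme lie in every dense open;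
* `quasiFiniteAt_of_codim_le_one`: the local form of `Groth.Agent.S1608`.
-/

set_option autoImplicit false
universe u
open CategoryTheory CategoryTheory.Limits AlgebraicGeometry Topology TopologicalSpace

namespace K624.QFCodim1

/-- a point without nontrivial generizations -/
abbrev IsMaxP {T : Type*} [TopologicalSpace T] (η : T) : Prop := ∀ z : T, z ⤳ η → z = η

theorem closure_mem {T : Type*} [TopologicalSpace T] [QuasiSober T] {η : T} (h : IsMaxP η) :
    closure {η} ∈ irreducibleComponents T :=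
  Groth.Agent.Ega43.MaxPoints.IsMaxPt.closure_mem_irreducibleComponents h

theorem exists_noetherian_nbhd (U : Scheme.{u}) [IsLocallyNoetherian U] (u : U) :
    ∃ V : Set U, IsOpen V ∧ u ∈ V ∧ NoetherianSpace V := by
  obtain ⟨_, ⟨W, hW, rfl⟩, huW, -⟩ := U.isBasis_affineOpens.exists_subset_of_mem_open
    (Set.mem_univ u) isOpen_univ
  have hN : IsNoetherianRing Γ(U, W) := IsLocallyNoetherian.component_noetherian ⟨W, hW⟩
  exact ⟨W, W.2, huW, noetherianSpace_of_isAffineOpen W hW⟩

theorem exists_open_through (U : Scheme.{u}) [IsLocallyNoetherian U] (u : U) :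
    ∃ W : U.Opens, u ∈ W ∧ ∀ η ∈ W, IsMaxP η → η ⤳ u := by
  have hlf : LocallyFinite (fun Z : irreducibleComponents U => (Z : Set U)) := by
    refine Groth.Agent.Ega1.GenPts.locallyFinite_irreducibleComponents fun x => ?_
    obtain ⟨V, hV, hx, hN⟩ := exists_noetherian_nbhd U x
    exact ⟨V, hV.mem_nhds hx, hN⟩
  have hlf' : LocallyFinite (fun Z : {Z : irreducibleComponents U // u ∉ (Z : Set U)} =>
      (Z.1 : Set U)) := hlf.comp_injective Subtype.val_injective
  have hcl : IsClosed (⋃ Z : {Z : irreducibleComponents U // u ∉ (Z : Set U)}, (Z.1 : Set U)) :=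
    hlf'.isClosed_iUnion fun Z => isClosed_of_mem_irreducibleComponents _ Z.1.2
  refine ⟨⟨_, hcl.isOpen_compl⟩, ?_, ?_⟩
  · rintro ⟨_, ⟨Z, rfl⟩, hZ⟩
    exact Z.2 hZ
  · intro η hη hmax
    by_contra hcon
    refine hη (Set.mem_iUnion.2 ⟨⟨⟨closure {η}, closure_mem hmax⟩, ?_⟩, subset_closure rfl⟩)
    intro h
    exact hcon (specializes_iff_mem_closure.2 h)

theorem mem_of_dense (U : Scheme.{u}) [IsLocallyNoetherian U] {D : Set U} (hD : Dense D)
    (hDo : ∀ x y : U, x ⤳ y → y ∈ D → x ∈ D) {η : U} (hη : IsMaxP η) : η ∈ D := by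
  obtain ⟨V, hV, hx, hN⟩ := exists_noetherian_nbhd U η
  obtain ⟨O, hO, hle⟩ := Groth.Agent.Flat2D.RelDimClosure.exists_open_subset_closure η
    (closure_mem hη) V hV hx
  obtain ⟨z, hzO, hzD⟩ := hD.inter_open_nonempty O O.2 ⟨η, hO⟩
  exact hDo η z (specializes_iff_mem_closure.2 (hle hzO)) hzD

theorem quasiFiniteAt_restrict {U V : Scheme.{u}} (h : U ⟶ V) (W : U.Opens) (w : W.toScheme) :
    (W.ι ≫ h).QuasiFiniteAt w ↔ h.QuasiFiniteAt (W.ι w) :=
  Scheme.Hom.quasiFiniteAt_comp_iff_of_isOpenImmersion (f := W.ι) (g := h) (x := w)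

/-- The local form of `Groth.Agent.S1608`: only the maximal points specializing to `u` matter. -/
theorem quasiFiniteAt_of_codim_le_one {U V : Scheme.{u}} (h : U ⟶ V) [LocallyOfFiniteType h]
    [IsLocallyNoetherian V] (u : U) (hd : ringKrullDim (V.presheaf.stalk (h u)) ≤ 1)
    (H : ∀ η : U, IsMaxP η → η ⤳ u → h.QuasiFiniteAt η) : h.QuasiFiniteAt u := by
  have hU : IsLocallyNoetherian U := LocallyOfFiniteType.isLocallyNoetherian h
  obtain ⟨W, hu, hW⟩ := exists_open_through U u
  have key := Groth.Agent.S1608.result (W.ι ≫ h) (h u) hd ?_ ⟨u, hu⟩ rfl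
  · exact (quasiFiniteAt_restrict h W ⟨u, hu⟩).1 key
  · intro Z hZ η hη
    refine (quasiFiniteAt_restrict h W η).2 ?_
    have hmax : IsMaxP (W.ι η) := by
      intro z hz
      have hzW : z ∈ W := hz.mem_open W.2 η.2
      have h1 : (⟨z, hzW⟩ : W) ⤳ η := (IsInducing.subtypeVal.specializes_iff).1 hz
      have h2 : Z ⊆ closure {(⟨z, hzW⟩ : W)} := by
        rw [← hη.def]
        exact h1.closure_subset
      have h3 := hZ.2 (isIrreducible_singleton (x := (⟨z, hzW⟩ : W))).closure h2
      have h4 : η ⤳ (⟨z, hzW⟩ : W) := by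
        rw [specializes_iff_mem_closure, hη.def]
        exact h3 (subset_closure rfl)
      exact congrArg W.ι (h1.antisymm h4).eq
    exact H _ hmax (hW _ η.2 hmax)

theorem quasiFiniteAt_iff_fibreDimAt {U V : Scheme.{u}} (h : U ⟶ V) [LocallyOfFiniteType h]
    (u : U) : h.QuasiFiniteAt u ↔ FlatMor.fibreDimAt h u = 0 := by
  rw [← K616.NearDim.near_lqf_iff]
  constructor
  · intro H
    rw [K616.NearDim.near_lqf_iff, K616.NearDim.fibreDimAt_eq_zero_iff]
    exact Groth.Agent.Flat2C.LqfDense.fibreDimAt_le_zero_of_quasiFiniteAt h u H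
  · rintro ⟨W, hW, h1, -⟩
    exact (quasiFiniteAt_restrict h W ⟨u, hW⟩).1 ((W.ι ≫ h).quasiFiniteAt ⟨u, hW⟩)

theorem quasiFiniteAt_of_resTrdeg {U V : Scheme.{u}} (h : U ⟶ V) [LocallyOfFiniteType h]
    {η : U} (hη : IsMaxP η) (h0 : Dual3.resTrdeg h η = 0) : h.QuasiFiniteAt η := by
  rw [quasiFiniteAt_iff_fibreDimAt]
  exact Groth.Agent.Dual.H375.SmoothDim.fibreDimAt_of_generic h hη 0 (by exact_mod_cast h0)

end K624.QFCodim1
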