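import Groth.Agent.AlgSp.K624.DimInt
import Groth.Agent.AlgSp.K624.QFCodim1
import Groth.Agent.AlgSp.K618.FieldFib
import Groth.Agent.AlgSp.K621.Generic
import Groth.Agent.TopDim.K284.Basic
import Groth.Agent.S9798
import Groth.Agent.S10338
import Groth.Agent.S10340

/-!
# Isolated points of algebraic spaces locally of finite type over a field

`LftField F`: every étale chart of `F` is locally of finite type over some field.
-/

set_option autoImplicit false
universe u
open CategoryTheory CategoryTheory.Limits AlgebraicGeometry Topology TopologicalSpace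

namespace K624.FldFib

open AlgSp K624.QFCodim1

/-! ## Scheme level -/

section Sch

variable {U : Scheme.{u}}

/-- A scheme which is locally of finite type over some field. -/
def OverField (U : Scheme.{u}) : Prop :=
  ∃ (K : Type u) (_ : Field K) (g : U ⟶ Spec (CommRingCat.of K)), LocallyOfFiniteType g

theorem OverField.isLocallyNoetherian (h : OverField U) : IsLocallyNoetherian U := by
  obtain ⟨K, _, g, hg⟩ := h
  exact LocallyOfFiniteType.isLocallyNoetherian g

theorem OverField.jacobsonSpace (h : OverField U) : JacobsonSpace U := by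
  obtain ⟨K, _, g, hg⟩ := h
  exact LocallyOfFiniteType.jacobsonSpace g

theorem OverField.comp {V : Scheme.{u}} (h : OverField U) (f : V ⟶ U) [LocallyOfFiniteType f] :
    OverField V := by
  obtain ⟨K, _, g, hg⟩ := h
  exact ⟨K, inferInstance, f ≫ g, inferInstance⟩

/-- closed maximal points of a locally Noetherian scheme are open -/
theorem isOpen_of_closed_maximal [IsLocallyNoetherian U] {u : U} (hc : IsClosed ({u} : Set U))
    (hm : IsMaxP u) : IsOpen ({u} : Set U) := by
  obtain ⟨V, hV, hx, hN⟩ := exists_noetherian_nbhd U u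
  obtain ⟨O, hO, hle⟩ := Groth.Agent.Flat2D.RelDimClosure.exists_open_subset_closure u
    (closure_mem hm) V hV hx
  rw [hc.closure_eq] at hle
  have : ({u} : Set U) = O := Set.Subset.antisymm (by rintro _ rfl; exact hO) hle
  rw [this]
  exact O.2

theorem maximal_iff (u : U) : IsMaxP u ↔ ringKrullDim (U.presheaf.stalk u) = 0 :=
  (K621.Generic.ringKrullDim_stalk_eq_zero_iff u).symm

theorem exists_maximal_specializes (u : U) : ∃ η : U, η ⤳ u ∧ IsMaxP η := by
  obtain ⟨z, hz, hm, -⟩ := Groth.Agent.Ega43.MaxPoints.exists_isMaxPt_specializes u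
  exact ⟨z, hz, hm⟩

/-- A nonempty open or closed subset of a scheme over a field contains a closed point. -/
theorem OverField.exists_closed (h : OverField U) {Z : Set U} (hZ : IsLocallyClosed Z)
    (hne : Z.Nonempty) : ∃ c ∈ Z, IsClosed ({c} : Set U) := by
  have := h.jacobsonSpace
  obtain ⟨c, hc, hcl⟩ := nonempty_inter_closedPoints hne hZ
  exact ⟨c, hc, hcl⟩

theorem OverField.isClosed_of_isOpen (h : OverField U) {u : U} (hu : IsOpen ({u} : Set U)) :
    IsClosed ({u} : Set U) := by
  obtain ⟨c, hc, hcl⟩ := h.exists_closed hu.isLocallyClosed ⟨u, rfl⟩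
  rwa [← Set.mem_singleton_iff.1 hc]

/-- A scheme over a field without nontrivial specializations is discrete. -/
theorem OverField.discrete (h : OverField U) (hs : ∀ u v : U, u ⤳ v → u = v) :
    DiscreteTopology U := by
  have := h.isLocallyNoetherian
  refine discreteTopology_iff_isOpen_singleton.2 fun u => ?_
  refine isOpen_of_closed_maximal ?_ fun z hz => hs z u hz
  refine isClosed_singleton_of_forall h hs u
where
  isClosed_singleton_of_forall {U : Scheme.{u}} (h : OverField U) (hs : ∀ u v : U, u ⤳ v → u = v)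
      (u : U) : IsClosed ({u} : Set U) := by
    obtain ⟨c, hc, hcl⟩ := h.exists_closed (Z := closure {u}) isClosed_closure.isLocallyClosed
      ⟨u, subset_closure rfl⟩
    rwa [hs u c (specializes_iff_mem_closure.2 hc)]

end Sch

/-! ## Spaces -/

variable {S : Scheme.{u}}

/-- Every étale chart of `F` is locally of finite type over some field. -/
def LftField (F : Sp S) : Prop :=
  ∀ (U : Over S) (a : (yon S).obj U ⟶ F), RepWith @Etale a → OverField U.left

theorem lftField_of_mor {F : Sp S} {K : Type u} [Field K] {str : Spec (CommRingCat.of K) ⟶ S}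
    (p : F ⟶ (yon S).obj (Over.mk str)) (hp : LocP @LocallyOfFiniteType p) : LftField F := by
  intro U a ha
  obtain ⟨k, hk⟩ := (yon S).map_surjective (a ≫ p)
  have h1 := hp a (𝟙 _) k ha ((RepWith (S := S) @Etale).id_mem _) (by rw [hk, Category.comp_id])
  exact ⟨K, inferInstance, k.left, h1⟩

/-- The point `x` is isolated in the étale local sense: the local dimension is zero. -/
abbrev IsoAt (F : Sp S) (x : Points F) : Prop := HasAt (fun U u => FlatMor.localDim ↥U u = 0) F x

variable {F : Sp S}

theorem isoAt_iff (hF : LftField F) {U : Over S} (a : (yon S).obj U ⟶ F) (ha : RepWith @Etale a)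
    (u : ↥U.left) : IsoAt F (Points.ofPt a u) ↔ IsOpen ({u} : Set ↥U.left) := by
  have hN := (hF U a ha).isLocallyNoetherian
  rw [← Groth.Agent.S9798.result U.left u]
  exact K616.Inv.hasAt_iff (K616.DimInv.etInvAt_localDim (· = 0)) a ha u

theorem stalkDim_eq {U V : Over S} (a : (yon S).obj U ⟶ F) (ha : RepWith @Etale a)
    (b : (yon S).obj V ⟶ F) (hb : RepWith @Etale b) {u : ↥U.left} {v : ↥V.left}
    (h : Points.ofPt a u = Points.ofPt b v) :
    ringKrullDim (U.left.presheaf.stalk u) = ringKrullDim (V.left.presheaf.stalk v) := by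
  obtain ⟨W, p, q, w, -, e1, e2, rfl, rfl⟩ := K616.Inv.exists_chart_refinement a b ha hb u v h
  rw [← K616.DimInv.ringKrullDim_stalk_eq_of_etale p.left w,
    ← K616.DimInv.ringKrullDim_stalk_eq_of_etale q.left w]

theorem maximal_of_ofPt_eq {U : Over S} (a : (yon S).obj U ⟶ F) (ha : RepWith @Etale a)
    {u v : ↥U.left} (h : Points.ofPt a u = Points.ofPt a v) (hv : IsMaxP v) : IsMaxP u := by
  rw [maximal_iff] at hv ⊢
  rw [stalkDim_eq a ha a ha h, hv]

/-- If the fibre over `x` in a chart is nonempty, locally closed and stable under generization then `x` is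
isolated. -/
theorem isoAt_of_fibre (hF : LftField F) {U : Over S} (a : (yon S).obj U ⟶ F)
    (ha : RepWith @Etale a) (x : Points F) (hne : (Points.ofPt a ⁻¹' {x}).Nonempty)
    (hlc : IsLocallyClosed (Points.ofPt a ⁻¹' {x})) (hg : ∀ x', x' ⤳ x → x' = x) : IsoAt F x := by
  have hUf := hF U a ha
  have hN := hUf.isLocallyNoetherian
  obtain ⟨c, hc, hcl⟩ := hUf.exists_closed hlc hne
  obtain ⟨η, hη, hm⟩ := exists_maximal_specializes c
  have hc' : Points.ofPt a c = x := hc
  have h1 : Points.ofPt a η = x := hg _ (by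
    rw [← hc']
    exact hη.map (Points.continuous_ofPt a))
  have h2 : IsMaxP c := maximal_of_ofPt_eq a ha (hc'.trans h1.symm) hm
  rw [← hc', isoAt_iff hF a ha]
  exact isOpen_of_closed_maximal hcl h2

theorem isOpen_iff_isoAt (hF : LftField F) (hAlg : IsAlgSpace F) (x : Points F) :
    IsOpen ({x} : Set (Points F)) ↔ IsoAt F x := by
  constructor
  · intro h
    obtain ⟨U, a, u, ha, hu⟩ := K621.Base.exists_chart hAlg x
    refine isoAt_of_fibre hF a ha x ⟨u, hu⟩
      (h.preimage (Points.continuous_ofPt a)).isLocallyClosed fun x' hx' => ?_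
    exact hx'.mem_open h rfl
  · intro h
    obtain ⟨U, a, u, ha, rfl⟩ := K621.Base.exists_chart hAlg x
    have h1 := K621.Base.isOpenMap_ofPt ha _ ((isoAt_iff hF a ha u).1 h)
    rwa [Set.image_singleton] at h1

/-- A set of isolated closed points of a locally Noetherian scheme is closed. -/
theorem isClosed_of_isolated {U : Scheme.{u}} [IsLocallyNoetherian U] (Z : Set U)
    (ho : ∀ z ∈ Z, IsOpen ({z} : Set U)) (hc : ∀ z ∈ Z, IsClosed ({z} : Set U)) : IsClosed Z := by
  rw [← isOpen_compl_iff, isOpen_iff_forall_mem_open]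
  intro w hw
  obtain ⟨V, hV, hwV, hN⟩ := exists_noetherian_nbhd U w
  have hfin : (Z ∩ V).Finite := by
    have h1 : IsOpen (Z ∩ V) := by
      have : Z = ⋃ z ∈ Z, {z} := by simp
      rw [this]
      exact (isOpen_biUnion ho).inter hV
    have h2 : IsCompact (Z ∩ V) := by
      have h3 : IsCompact ((Subtype.val : V → U) ⁻¹' (Z ∩ V)) := NoetherianSpace.isCompact _
      have h4 := h3.image continuous_subtype_val
      rwa [Subtype.image_preimage_coe, Set.inter_comm, Set.inter_assoc, Set.inter_self] at h4
    have hdisc : DiscreteTopology ↥(Z ∩ V) := by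
      refine discreteTopology_iff_isOpen_singleton.2 fun z => ?_
      have h5 : ({z} : Set ↥(Z ∩ V)) = Subtype.val ⁻¹' {z.1} := by
        ext y; simp [Subtype.ext_iff]
      rw [h5]
      exact (ho z.1 z.2.1).preimage continuous_subtype_val
    have := isCompact_iff_compactSpace.1 h2
    exact Set.finite_coe_iff.1 finite_of_compact_of_discrete
  refine ⟨V \ (Z ∩ V), ?_, ?_, hwV, fun h => hw h.1⟩
  · rintro y ⟨hy, hy'⟩ hyZ
    exact hy' ⟨hyZ, hy⟩
  · have h7 : IsClosed (Z ∩ V) := by
      have h6 : Z ∩ V = ⋃ z ∈ Z ∩ V, {z} := (Set.biUnion_of_singleton _).symm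
      rw [h6]
      exact hfin.isClosed_biUnion fun z hz => hc z hz.1
    exact hV.sdiff h7

theorem isOpen_iff_closed_and (hF : LftField F) (hAlg : IsAlgSpace F) (x : Points F) :
    IsOpen ({x} : Set (Points F)) ↔
      IsClosed ({x} : Set (Points F)) ∧ ∀ x' : Points F, x' ⤳ x → x' = x := by
  constructor
  · intro h
    refine ⟨?_, fun x' hx' => hx'.mem_open h rfl⟩
    obtain ⟨V, b, hb, hs⟩ := hAlg.atlas
    have hq := (K621.Base.isOpenQuotientMap_ofPt hb hs).isQuotientMap
    rw [← hq.isClosed_preimage]
    have hV := hF V b hb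
    have hN := hV.isLocallyNoetherian
    have h1 : ∀ v ∈ Points.ofPt b ⁻¹' {x}, IsOpen ({v} : Set ↥V.left) := by
      intro v hv
      rw [← isoAt_iff hF b hb, show Points.ofPt b v = x from hv]
      exact (isOpen_iff_isoAt hF hAlg x).1 h
    exact isClosed_of_isolated _ h1 fun v hv => hV.isClosed_of_isOpen (h1 v hv)
  · rintro ⟨h1, h2⟩
    obtain ⟨U, a, u, ha, hu⟩ := K621.Base.exists_chart hAlg x
    rw [isOpen_iff_isoAt hF hAlg]
    exact isoAt_of_fibre hF a ha x ⟨u, hu⟩
      (h1.preimage (Points.continuous_ofPt a)).isLocallyClosed h2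

/-! ### dimension of the space of points -/

theorem eq_of_specializes_of_dim_le_zero {T : Type*} [TopologicalSpace T] [T0Space T]
    (h : topologicalKrullDim T ≤ 0) {x y : T} (hxy : x ⤳ y) : x = y := by
  by_contra hne
  let A : IrreducibleCloseds T := ⟨closure {y}, isIrreducible_singleton.closure, isClosed_closure⟩
  let B : IrreducibleCloseds T := ⟨closure {x}, isIrreducible_singleton.closure, isClosed_closure⟩
  have hAB : A < B := by
    refine lt_of_le_of_ne ?_ fun e => hne ?_
    · change closure {y} ⊆ closure {x}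
      exact hxy.closure_subset
    · have e' : closure {y} = closure {x} := congrArg (fun Z : IrreducibleCloseds T => (Z : Set T)) e
      exact (inseparable_iff_closure_eq.2 e'.symm).eq
  have h1 := Order.krullDim_nonpos_iff_forall_isMax.1 h A
  exact hAB.not_ge (h1 hAB.le)

theorem localDim_eq_zero_of_isOpen {T : Type*} [TopologicalSpace T] {x : T}
    (h : IsOpen ({x} : Set T)) : FlatMor.localDim T x = 0 := by
  refine le_antisymm ?_ (K284.TopDim.localDim_nonneg x)
  refine (K284.TopDim.localDim_le x ⟨{x}, h⟩ rfl).trans ?_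
  have : Subsingleton ↥({x} : Set T) := inferInstance
  exact topologicalKrullDim_zero_of_discreteTopology _

section Decent

variable (X : Space S) (hX : IsDecent X.obj) (hF : LftField X.obj)
include hX hF

theorem isOpen_of_localDim (x : Points X.obj) (h : FlatMor.localDim (Points X.obj) x = 0) :
    IsOpen ({x} : Set (Points X.obj)) := by
  obtain ⟨N, hxN, hN⟩ := K284.TopDim.exists_localDim_eq x
  rw [h] at hN
  have hT0 : T0Space (Points X.obj) := Groth.Agent.S10338.result X hX
  obtain ⟨U, a, u, ha, rfl⟩ := K621.Base.exists_chart X.property x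
  let W : U.left.Opens := ⟨Points.ofPt a ⁻¹' N, N.2.preimage (Points.continuous_ofPt a)⟩
  have ha' := K621.Base.repWith_openChart ha W
  have hW := hF _ _ ha'
  have hs : ∀ v w : (K621.Base.openChart U W).left, v ⤳ w → v = w := by
    intro v w hvw
    have e : ∀ v : (K621.Base.openChart U W).left,
        Points.ofPt ((yon S).map (K621.Base.openChartι U W) ≫ a) v ∈ N := by
      intro v
      rw [K621.Base.ofPt_comp]
      exact v.2
    have h1 : Points.ofPt ((yon S).map (K621.Base.openChartι U W) ≫ a) v ⤳
        Points.ofPt ((yon S).map (K621.Base.openChartι U W) ≫ a) w :=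
      hvw.map (Points.continuous_ofPt _)
    have h2 : (⟨_, e v⟩ : N) ⤳ ⟨_, e w⟩ := IsInducing.subtypeVal.specializes_iff.1 h1
    have h3 := congrArg Subtype.val (eq_of_specializes_of_dim_le_zero hN.le h2)
    exact (Groth.Agent.S10340.result X hX _ ha' w v h3.symm hvw).symm
  have hd := hW.discrete hs
  have h4 := (isoAt_iff hF _ ha' (show ↥(K621.Base.openChart U W).left from (⟨u, hxN⟩ : W))).2
    (isOpen_discrete _)
  rw [K621.Base.ofPt_openChart] at h4
  exact (isOpen_iff_isoAt hF X.property _).2 h4

theorem localDim_eq_zero_iff (x : Points X.obj) :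
    FlatMor.localDim (Points X.obj) x = 0 ↔ IsOpen ({x} : Set (Points X.obj)) :=
  ⟨isOpen_of_localDim X hX hF x, localDim_eq_zero_of_isOpen⟩

theorem discrete_of_dim (h : topologicalKrullDim (Points X.obj) = 0) :
    DiscreteTopology (Points X.obj) := by
  refine discreteTopology_iff_isOpen_singleton.2 fun x => isOpen_of_localDim X hX hF x ?_
  exact le_antisymm ((K284.TopDim.localDim_le_dim x).trans h.le) (K284.TopDim.localDim_nonneg x)

theorem discrete_of_finite (h : Finite (Points X.obj)) : DiscreteTopology (Points X.obj) := by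
  refine discreteTopology_iff_isOpen_singleton.2 fun x => ?_
  obtain ⟨U, a, u, hU, ha, rfl⟩ := K624.DimInt.exists_affine_chart X.property x
  have hfib : ∀ y : Points X.obj, (Points.ofPt a ⁻¹' {y}).Finite := by
    intro y
    obtain ⟨q, rfl, -, hq⟩ := hX y
    exact K618.FieldFib.finite_fibre q hq a ha
  have hfin : Finite ↥U.left := by
    have h1 : (Set.univ : Set ↥U.left) = ⋃ y : Points X.obj, Points.ofPt a ⁻¹' {y} := by
      ext v; simp
    rw [← Set.finite_univ_iff, h1]
    exact Set.finite_iUnion hfib
  have hjac := (hF U a ha).jacobsonSpace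
  have hdisc : DiscreteTopology ↥U.left := inferInstance
  exact (isOpen_iff_isoAt hF X.property _).2 ((isoAt_iff hF a ha u).2 (isOpen_discrete _))

end Decent

theorem discrete_of_dim_eq_zero (hF : LftField F) (hAlg : IsAlgSpace F) (h : dim F = 0) :
    DiscreteTopology (Points F) := by
  refine discreteTopology_iff_isOpen_singleton.2 fun x => ?_
  obtain ⟨U, a, u, ha, rfl⟩ := K621.Base.exists_chart hAlg x
  have hN := (hF U a ha).isLocallyNoetherian
  have hart : IsLocallyArtinian U.left := IsLocallyArtinian.of_topologicalKrullDim_le_zero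
    ((K624.DimInt.topologicalKrullDim_le_dim a ha).trans h.le)
  exact (isOpen_iff_isoAt hF hAlg _).2 ((isoAt_iff hF a ha u).2 (isOpen_discrete _))

theorem dim_eq_zero_of_discrete (hF : LftField F) (hAlg : IsAlgSpace F) [Nonempty (Points F)]
    (h : DiscreteTopology (Points F)) : dim F = 0 := by
  apply le_antisymm
  · refine iSup_le fun U => iSup_le fun a => iSup_le fun ha => ?_
    have : DiscreteTopology ↥U.left := discreteTopology_iff_isOpen_singleton.2 fun u => by
      rw [← isoAt_iff hF a ha]
      exact (isOpen_iff_isoAt hF hAlg _).1 (isOpen_discrete _)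
    exact topologicalKrullDim_zero_of_discreteTopology _
  · obtain ⟨x⟩ := (inferInstance : Nonempty (Points F))
    obtain ⟨U, a, u, ha, -⟩ := K621.Base.exists_chart hAlg x
    refine le_trans ?_ (K624.DimInt.stalkDim_le_dim a ha u)
    exact ringKrullDim_nonneg_of_nontrivial

theorem discrete_iff_dim (hF : LftField F) (hAlg : IsAlgSpace F) [Nonempty (Points F)] :
    DiscreteTopology (Points F) ↔ dim F = 0 :=
  ⟨dim_eq_zero_of_discrete hF hAlg, discrete_of_dim_eq_zero hF hAlg⟩

theorem topologicalKrullDim_eq_zero_of_discrete {T : Type*} [TopologicalSpace T] [Nonempty T]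
    [DiscreteTopology T] : topologicalKrullDim T = 0 := by
  refine le_antisymm (topologicalKrullDim_zero_of_discreteTopology T) ?_
  obtain ⟨t⟩ := (inferInstance : Nonempty T)
  exact (K284.TopDim.localDim_nonneg t).trans (K284.TopDim.localDim_le_dim t)

end K624.FldFib
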