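import Groth.Agent.AlgSp.K624.FldFib
import Groth.Agent.AlgSp.K624.QFCodim1Sp
import Groth.Agent.AlgSp.K616.BaseChange
import Groth.Agent.AlgSp.K597.EtLoc
import Groth.Agent.AlgSp.K597.LocP
import Groth.Agent.AlgSp.K618.FieldFib
import Groth.Agent.Sga3C.QuotQFAt
import Groth.Agent.AlgSp.K608.Pts2
import Groth.Agent.AlgSp.K613.Chart
import Groth.Agent.VarietyB.DimTop
import Groth.Agent.S10390
import Groth.Agent.S10383
import Groth.Agent.AlgSp.K620.Dec

/-!
# Fibres over field-valued points: isolated points and quasi-finiteness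
-/

set_option autoImplicit false
set_option backward.isDefEq.respectTransparency false
set_option backward.isDefEq.respectTransparency.types false
universe u
open CategoryTheory CategoryTheory.Limits AlgebraicGeometry Topology TopologicalSpace

namespace K624.FldFib2

open AlgSp K624.QFCodim1 K624.QFCodim1Sp K624.FldFib

/-! ## Scheme level -/

theorem quasiFiniteAt_iff_of_discrete {U V : Scheme.{u}} [DiscreteTopology ↥V] (f : U ⟶ V)
    [LocallyOfFiniteType f] (u : U) : f.QuasiFiniteAt u ↔ IsOpen ({u} : Set U) := by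
  rw [Scheme.Hom.quasiFiniteAt_iff_isOpen_singleton_asFiber]
  have ho : IsOpen (f ⁻¹' {f u}) := (isOpen_discrete _).preimage f.continuous
  have he : IsOpenEmbedding (fun y : f.fiber (f u) => (f.fiberHomeo (f u) y : U)) :=
    ho.isOpenEmbedding_subtypeVal.comp (f.fiberHomeo (f u)).isOpenEmbedding
  rw [he.isOpen_iff_image_isOpen]
  have : (fun y : f.fiber (f u) => (f.fiberHomeo (f u) y : U)) '' {f.asFiber u} = {u} := by
    simp [Scheme.Hom.asFiber]
  rw [this]

theorem quasiFiniteAt_iff_of_isPullback {P X Y Z : Scheme.{u}} {fst : P ⟶ X} {snd : P ⟶ Y}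
    {f : X ⟶ Z} {g : Y ⟶ Z} (h : IsPullback fst snd f g) [LocallyOfFiniteType f] (p : P) :
    snd.QuasiFiniteAt p ↔ f.QuasiFiniteAt (fst p) :=
  ⟨Groth.Agent.Sga3C.QuotQFAt.quasiFiniteAt_of_isPullback_descent h p,
    Groth.Agent.Sga3C.QuotQFAt.quasiFiniteAt_of_isPullback h p⟩

variable {S : Scheme.{u}}

theorem lftField_pullback {X Y Xk : Sp S} (hX : IsAlgSpace X) (hY : IsAlgSpace Y) (r : FieldPt Y) {f : X ⟶ Y}
    (hf : LocP @LocallyOfFiniteType f) {fst : Xk ⟶ X} {snd : Xk ⟶ (yon S).obj r.pt}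
    (hsq : IsPullback fst snd f r.toHom) : LftField Xk := by
  have hP : IsAlgSpace ((yon S).obj r.pt) := IsAlgSpace.yon_obj _
  exact lftField_of_mor snd (K597.locP_bc K597.etLoc_lft hsq hX.hasAtlas hY.hasAtlas hP.hasAtlas hf)

/-- A point of the fibre `X_k` is isolated iff `f` is quasi-finite at its image. -/
theorem isoAt_iff_qfAt {X Y Xk : Sp S} (hX : IsAlgSpace X) (hY : IsAlgSpace Y) (hXk : IsAlgSpace Xk)
    (r : FieldPt Y) {f : X ⟶ Y}
    (hf : LocP @LocallyOfFiniteType f) {fst : Xk ⟶ X} {snd : Xk ⟶ (yon S).obj r.pt}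
    (hsq : IsPullback fst snd f r.toHom) (xt : Points Xk) :
    IsoAt Xk xt ↔ QFAt f (Points.map fst xt) := by
  have hP : IsAlgSpace ((yon S).obj r.pt) := IsAlgSpace.yon_obj _
  obtain ⟨U, V, U', V', h, k, p, q, a, b, a', b', u', sq, ha, hb, ha', hb', w, w', w1, w2, rfl, hu⟩ :=
    K616.BaseChange.exists_cartesian_diagram hX hY hP hXk hsq xt
  have hl : LocallyOfFiniteType h.left := hf a b h ha hb w
  have sq' : IsPullback p.left q.left h.left k.left := sq.map (Over.forget S)
  have hd : DiscreteTopology ↥V'.left := by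
    obtain ⟨e, he⟩ := (yon S).map_surjective b'
    have : Etale e.left := by
      rw [← he] at hb'
      exact (repWith_yon_map_iff _ _).1 hb'
    exact K618.Sch.discreteTopology_of_etale_field (k := r.K) e.left
  have hq : LocallyOfFiniteType q.left := MorphismProperty.of_isPullback sq' hl
  rw [isoAt_iff (lftField_pullback hX hY r hf hsq) a' ha', ← hu, qfAt_iff hf a b h ha hb w,
    ← quasiFiniteAt_iff_of_isPullback sq', quasiFiniteAt_iff_of_discrete]

/-! ## The fibre over a quasi-compact monomorphic representative -/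

/-- Closed, without proper generization. -/
def ClosedMax (T : Type*) [TopologicalSpace T] (x : T) : Prop :=
  IsClosed ({x} : Set T) ∧ ∀ x' : T, x' ⤳ x → x' = x

theorem closedMax_of_homeo {T T' : Type*} [TopologicalSpace T] [TopologicalSpace T'] (e : T ≃ₜ T') (x : T) :
    ClosedMax T x ↔ ClosedMax T' (e x) := by
  refine and_congr ?_ ⟨fun h x' hx' => ?_, fun h x' hx' => ?_⟩
  · rw [← e.isClosed_image, Set.image_singleton]
  · have := h (e.symm x') (by
      have := hx'.map e.symm.continuous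
      rwa [e.symm_apply_apply] at this)
    rw [← this, e.apply_symm_apply]
  · exact e.injective (h _ (hx'.map e.continuous))

/-- Over a decent base the fibre (as a subspace) is the space of points of an algebraic space locally of finite
type over a field. -/
theorem exists_fibre {X Y : Space S} (f : X ⟶ Y) (hf : LocP @LocallyOfFiniteType f.hom) (hY : IsDecent Y.obj)
    (y : Points Y.obj) : ∃ (X0 : Space S) (e : Points X0.obj ≃ₜ ↥(Points.map f.hom ⁻¹' {y})),
      LftField X0.obj ∧ (∀ x0, IsoAt X0.obj x0 ↔ QFAt f.hom (e x0).1) ∧ (IsDecent X.obj → IsDecent X0.obj) := by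
  obtain ⟨r, hr, hm, hq⟩ := hY y
  subst hr
  let Z : Space S := ⟨(yon S).obj r.pt, IsAlgSpace.yon_obj _⟩
  let g : Z ⟶ Y := ObjectProperty.homMk r.toHom
  have sq := IsPullback.of_hasPullback f.hom r.toHom
  let X0 : Space S := ⟨pullback f.hom r.toHom, K613.Chart.isAlgSpace_of_isPullback Y.property.diag X.property
    (IsAlgSpace.yon_obj _) sq⟩
  let fst : X0 ⟶ X := ObjectProperty.homMk (pullback.fst f.hom r.toHom)
  let snd : X0 ⟶ Z := ObjectProperty.homMk (pullback.snd f.hom r.toHom)
  obtain ⟨he, hr⟩ := Groth.Agent.S10390.result f r hm hq X0 fst snd.hom sq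
  refine ⟨X0, he.toHomeomorph.trans (Homeomorph.setCongr hr), lftField_pullback X.property Y.property r hf sq,
    fun x0 => isoAt_iff_qfAt X.property Y.property X0.property r hf sq x0, fun hX => ?_⟩
  exact Groth.Agent.S10383.result f g fst snd sq hX (K620.Dec.isDecent_yon _)

section Main

variable {X Y : Space S} (f : X ⟶ Y) (hf : LocP @LocallyOfFiniteType f.hom) {y : Points Y.obj}

theorem isOpen_fibre_iff (hY : IsDecent Y.obj) (hf : LocP @LocallyOfFiniteType f.hom)
    (x : ↥(Points.map f.hom ⁻¹' {y})) :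
    IsOpen ({x} : Set ↥(Points.map f.hom ⁻¹' {y})) ↔ QFAt f.hom x.1 := by
  obtain ⟨X0, e, hL, hQ, -⟩ := exists_fibre f hf hY y
  obtain ⟨x0, rfl⟩ := e.surjective x
  rw [← hQ, ← isOpen_iff_isoAt hL X0.property, ← e.isOpen_image, Set.image_singleton]

theorem closedMax_fibre_iff (hY : IsDecent Y.obj) (hf : LocP @LocallyOfFiniteType f.hom)
    (x : ↥(Points.map f.hom ⁻¹' {y})) :
    ClosedMax ↥(Points.map f.hom ⁻¹' {y}) x ↔ QFAt f.hom x.1 := by
  obtain ⟨X0, e, hL, hQ, -⟩ := exists_fibre f hf hY y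
  obtain ⟨x0, rfl⟩ := e.surjective x
  rw [← hQ, ← isOpen_iff_isoAt hL X0.property, isOpen_iff_closed_and hL X0.property]
  exact (closedMax_of_homeo e x0).symm

theorem localDim_fibre_iff (hY : IsDecent Y.obj) (hX : IsDecent X.obj) (hf : LocP @LocallyOfFiniteType f.hom)
    (x : ↥(Points.map f.hom ⁻¹' {y})) :
    FlatMor.localDim ↥(Points.map f.hom ⁻¹' {y}) x = 0 ↔ QFAt f.hom x.1 := by
  obtain ⟨X0, e, hL, hQ, hD⟩ := exists_fibre f hf hY y
  obtain ⟨x0, rfl⟩ := e.surjective x
  rw [← hQ, ← isOpen_iff_isoAt hL X0.property, ← localDim_eq_zero_iff X0 (hD hX) hL,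
    Groth.Agent.VarietyB.DimTop.localDim_eq_of_homeomorph e]

theorem discrete_fibre_iff (hY : IsDecent Y.obj) (hf : LocP @LocallyOfFiniteType f.hom) :
    DiscreteTopology ↥(Points.map f.hom ⁻¹' {y}) ↔ ∀ x : Points X.obj, Points.map f.hom x = y → QFAt f.hom x := by
  rw [discreteTopology_iff_isOpen_singleton]
  exact ⟨fun h x hx => (isOpen_fibre_iff f hY hf ⟨x, hx⟩).1 (h _),
    fun h x => (isOpen_fibre_iff f hY hf x).2 (h _ x.2)⟩

theorem discrete_fibre_of_dim (hY : IsDecent Y.obj) (hX : IsDecent X.obj) (hf : LocP @LocallyOfFiniteType f.hom)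
    (h : topologicalKrullDim ↥(Points.map f.hom ⁻¹' {y}) = 0) :
    DiscreteTopology ↥(Points.map f.hom ⁻¹' {y}) := by
  refine discreteTopology_iff_isOpen_singleton.2 fun x => ?_
  rw [isOpen_fibre_iff f hY hf, ← localDim_fibre_iff f hY hX hf]
  exact le_antisymm ((K284.TopDim.localDim_le_dim x).trans h.le) (K284.TopDim.localDim_nonneg x)

theorem discrete_fibre_of_finite (hY : IsDecent Y.obj) (hX : IsDecent X.obj)
    (hf : LocP @LocallyOfFiniteType f.hom) (h : (Points.map f.hom ⁻¹' {y}).Finite) :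
    DiscreteTopology ↥(Points.map f.hom ⁻¹' {y}) := by
  obtain ⟨X0, e, hL, hQ, hD⟩ := exists_fibre f hf hY y
  have h1 : Finite ↥(Points.map f.hom ⁻¹' {y}) := h
  have h2 : Finite (Points X0.obj) := Finite.of_equiv _ e.symm.toEquiv
  have := discrete_of_finite X0 (hD hX) hL h2
  exact e.symm.isEmbedding.discreteTopology

end Main

end K624.FldFib2
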