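import Groth.Agent.AlgSp.K624.FldFib2
import Groth.Agent.AlgSp.K596.QC2
import Groth.Agent.AlgSp.K605.ImmMain
import Groth.Agent.AlgSp.K609.QC
import Groth.Agent.AlgSp.K610.Sub
import Groth.Agent.AlgSp.K610.OpenImm
import Groth.Agent.AlgSp.K598.RepKit
import Groth.Agent.AlgSp.K613.Diag
import Groth.Agent.AlgSp.K617.FinLoc
import Groth.Agent.AlgSp.K629.Basic
import Groth.Agent.S10398
import Groth.Agent.S10350

/-!
# Finite fibres over codimension zero points
-/

set_option autoImplicit false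
universe u
open CategoryTheory CategoryTheory.Limits AlgebraicGeometry Topology TopologicalSpace

namespace K624.GenFin

open AlgSp K624.QFCodim1Sp

variable {S : Scheme.{u}}

theorem finite_fibre_of_isFiniteMor {X Y : Space S} (f : X ⟶ Y) (h : IsFiniteMor f.hom) (y : Points Y.obj) :
    (Points.map f.hom ⁻¹' {y}).Finite := by
  have h' := K617.FinLoc.isFiniteMor_iff.1 h
  obtain ⟨V, b, v, hb, rfl⟩ := K621.Base.exists_chart Y.property y
  obtain ⟨T, q, fst, sq⟩ := h'.rep b
  have hq : IsFinite q.left := h'.property _ _ _ sq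
  refine ((q.left.finite_preimage_singleton v).image (Points.ofPt fst)).subset fun x hx => ?_
  obtain ⟨t, ht, htv⟩ := K629.Basic.exists_pt sq x v hx
  exact ⟨t, htv, ht⟩

/-- Finitely many points lie in a quasi-compact open subspace. -/
theorem exists_qc_open (X : Space S) (F : Set (Points X.obj)) (hF : F.Finite) :
    ∃ (X' : Space S) (j : X' ⟶ X), RepWith @IsOpenImmersion j.hom ∧ IsQuasiCompactSp X'.obj ∧
      F ⊆ Set.range (Points.map j.hom) := by
  choose V a v hV ha hv using fun x : Points X.obj => K624.DimInt.exists_affine_chart X.property x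
  have hW : IsOpen (⋃ x ∈ F, Set.range (Points.ofPt (a x))) :=
    isOpen_biUnion fun x _ => (K621.Base.isOpenMap_ofPt (ha x)).isOpen_range
  obtain ⟨X', j, hj, hr⟩ := K610.Sub.exists_open_subspace X _ hW
  have hc : IsCompact (⋃ x ∈ F, Set.range (Points.ofPt (a x))) := by
    refine hF.isCompact_biUnion fun x _ => ?_
    have := hV x
    exact isCompact_range (Points.continuous_ofPt (a x))
  have he : IsOpenEmbedding (Points.map j.hom) :=
    K610.OpenImm.isOpenEmbedding_points X.property hj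
  have : CompactSpace (Points X'.obj) := by
    rw [← hr] at hc
    exact ⟨(he.isInducing.isCompact_iff).2 (by rwa [Set.image_univ])⟩
  refine ⟨X', j, hj, K609.QC.isQuasiCompactSp_of_compactSpace X'.property, ?_⟩
  rw [hr]
  intro x hx
  exact Set.mem_biUnion hx ⟨v x, hv x⟩

theorem mono_of_open {F G : Sp S} {i : F ⟶ G} (hi : RepWith @IsOpenImmersion i) : Mono i :=
  K598.RepKit.mono_of_repWith_isOpenImmersion hi

theorem isQuasiSeparatedMor_of_open {F G : Sp S} {i : F ⟶ G} (hi : RepWith @IsOpenImmersion i) :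
    IsQuasiSeparatedMor i := by
  have := mono_of_open hi
  exact K598.RepKit.repWith_of_isIso _

theorem etale_of_open {F G : Sp S} {i : F ⟶ G} (hi : RepWith @IsOpenImmersion i) : RepWith @Etale i :=
  K610.Base.repWith_mono (fun _ _ g hg => by
    have : IsOpenImmersion g := hg
    infer_instance) hi

theorem qfAt_open_iff {X X₁ Y : Sp S} (hX₁ : IsAlgSpace X₁) (hY : IsAlgSpace Y) {i : X₁ ⟶ X} {f : X ⟶ Y}
    (hi : RepWith @Etale i) (hf : LocP @LocallyOfFiniteType f) (hf₁ : LocP @LocallyOfFiniteType (i ≫ f))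
    (x : Points X₁) : QFAt (i ≫ f) x ↔ QFAt f (Points.map i x) := by
  obtain ⟨U, V, a, b, h, u, ha, hb, w, rfl⟩ := K616.Inv.exists_diagram hX₁ hY (i ≫ f) x
  rw [Points.map_ofPt, qfAt_iff hf₁ a b h ha hb w,
    qfAt_iff hf (a ≫ i) b h (MorphismProperty.comp_mem _ _ _ ha hi) hb (by rw [Category.assoc, w])]

theorem exists_finite_open [QuasiSeparatedSpace ↥S] {X Y : Space S}
    (f : X ⟶ Y) (hqs : IsQuasiSeparatedMor f.hom) (hft : LocP @LocallyOfFiniteType f.hom)
    (hY : IsQuasiSeparatedSp Y.obj) (y : Points Y.obj)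
    (hy : HasAt (fun U u => ringKrullDim ↥(U.presheaf.stalk u) = 0) Y.obj y)
    (hfin : (Points.map f.hom ⁻¹' {y}).Finite) :
    ∃ (X' Y' : Space S) (i : X' ⟶ X) (j : Y' ⟶ Y) (f' : X' ⟶ Y'), RepWith @IsOpenImmersion i.hom ∧
      RepWith @IsOpenImmersion j.hom ∧ f' ≫ j = i ≫ f ∧ y ∈ Set.range (Points.map j.hom) ∧
      Points.map f.hom ⁻¹' {y} ⊆ Set.range (Points.map i.hom) ∧ IsFiniteMor f'.hom := by
  have hYd := Groth.Agent.S10350.result Y hY
  have hXd := Groth.Agent.S10350.result X (K605.ImmMain.isQuasiSeparatedSp_of_mor hqs hY)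
  have hqf := (K624.FldFib2.discrete_fibre_iff f hYd hft).1
    (K624.FldFib2.discrete_fibre_of_finite f hYd hXd hft hfin)
  obtain ⟨X₁, i, hi, hqc, hF⟩ := exists_qc_open X _ hfin
  have hi' := etale_of_open hi
  have hft₁ : LocP @LocallyOfFiniteType (i.hom ≫ f.hom) := fun U V a b h ha hb w =>
    hft (a ≫ i.hom) b h (MorphismProperty.comp_mem _ _ _ ha hi') hb (by rw [Category.assoc, w])
  obtain ⟨Y', X', j, fst, snd, hj, hyj, sq, hfin'⟩ := Groth.Agent.S10398.result (i ≫ f)
    (K613.Diag.repWith_diagonal_comp (isQuasiSeparatedMor_of_open hi) hqs)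
    ⟨hft₁, K596.QC2.isQuasiCompactMor_of_qc_of_qs X₁.property Y.property _ hqc hY⟩ y hy
    (fun x hx => (qfAt_open_iff X₁.property Y.property hi' hft hft₁ x).2 (hqf _ (by
      rw [← Points.map_comp]
      exact hx)))
  refine ⟨X', Y', snd ≫ i, j, fst, ?_, hj, ?_, hyj, ?_, hfin'⟩
  · exact MorphismProperty.comp_mem _ _ _ (MorphismProperty.of_isPullback sq hj) hi
  · apply ObjectProperty.hom_ext
    rw [Category.assoc]
    exact sq.w
  · intro x hx
    obtain ⟨x₁, rfl⟩ := hF hx
    obtain ⟨y', hy'⟩ := hyj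
    have h1 : Points.map j.hom y' = Points.map (i ≫ f).hom x₁ := by
      rw [hy']
      change y = Points.map (i.hom ≫ f.hom) x₁
      rw [Points.map_comp]
      exact hx.symm
    obtain ⟨x', -, h2⟩ := K629.Basic.exists_point sq y' x₁ h1
    refine ⟨x', ?_⟩
    rw [← h2]
    exact Points.map_comp snd.hom i.hom x'

end K624.GenFin
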