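import Groth.Agent.S9964
import Groth.Agent.S9965
import Groth.Agent.AlgSp.K597.ProperSub
import Groth.Agent.AlgSp.K594.Atlas
import Groth.Agent.AlgSp.K610.Factor
import Groth.Agent.AlgSp.K610.OpenImm

/-!
# The coequalizer of `X' ⨿ Z` over `X` for a proper modification `X' ⟶ X` with centre `Z`

* `locP_of_family` : a property local on the source can be checked on an étale cover by algebraic spaces.
* `exists_cop` : coproducts in `Space S`.
* `isProperMor_of_cop` : a map out of a coproduct is proper if its restrictions are.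
* `isSchImage_id_of_coeq` : functions on a coequalizer inject.
* `main` : S10717 from S10703.
-/

set_option autoImplicit false
universe u
open CategoryTheory CategoryTheory.Limits AlgebraicGeometry

namespace K624.GlueMod

open AlgSp K610.Base K610.Factor K597

variable {S : Scheme.{u}}

theorem locP_of_family {P : MorphismProperty Scheme.{u}} (hP : EtLoc P) {F G : Sp S} {ι : Type*} {W : ι → Sp S}
    (e : ∀ i, W i ⟶ F) (f : F ⟶ G) (hW : ∀ i, HasAtlas (W i)) (hG : HasAtlas G)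
    (he : ∀ i, RepWith @Etale (e i)) (hs : ∀ x : Points F, ∃ i, x ∈ Set.range (Points.map (e i)))
    (h : ∀ i, LocP P (e i ≫ f)) : LocP P f := by
  refine locP_of_local hP f fun U' a' ha' x => ?_
  obtain ⟨i, w, hw⟩ := hs (Points.ofPt a' x)
  obtain ⟨U₀, a₀, ha₀, has₀⟩ := hW i
  obtain ⟨V, b, hb, hbs⟩ := hG
  obtain ⟨U, a, k, ha, has, hk⟩ := exists_chart_over (e i ≫ f) a₀ ha₀ has₀ b hb hbs
  obtain ⟨W₁, p, q, sq, hq⟩ := exists_sq2 (etale_comp ha (he i)) a'
  obtain ⟨v, hv⟩ := surjective_ofPt has w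
  have hp : Etale p.left := repWith_prop' ha' sq
  obtain ⟨w₁, -, hw₁⟩ := exists_of_isPullback_charts sq v x (by
    rw [ofPt_comp, hv, hw])
  exact ⟨U, V, W₁, a ≫ e i, b, k, p, q, hb, by rw [Category.assoc]; exact hk, h i a b k ha hb hk,
    sq.w, hp, hq, w₁, hw₁⟩

/-- Coproducts in `Space S`: the injections are open and closed immersions. -/
theorem cop_clopen {A B Y : Space S} (inl : A ⟶ Y) (inr : B ⟶ Y) (hY : IsColimit (BinaryCofan.mk inl inr)) :
    RepWith (@IsOpenImmersion ⊓ @IsClosedImmersion) inl.hom ∧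
      RepWith (@IsOpenImmersion ⊓ @IsClosedImmersion) inr.hom := by
  have hc := coprodIsCoprod A.obj B.obj
  have hY0 : IsAlgSpace (A.obj ⨿ B.obj) := by
    have h1 := K594.Atlas.isAlgSpace_coprod (F := K594.Atlas.pairF A.obj B.obj) (by
      rintro ⟨b⟩
      cases b
      · exact B.property
      · exact A.property) (K594.Atlas.isColimitCofanOf hc)
    exact h1
  let Y0 : Space S := ⟨A.obj ⨿ B.obj, hY0⟩
  let l : A ⟶ Y0 := ⟨coprod.inl⟩
  let r : B ⟶ Y0 := ⟨coprod.inr⟩
  obtain ⟨u, hu1, hu2⟩ := BinaryCofan.IsColimit.desc' hY l r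
  let v : Y0 ⟶ Y := ⟨coprod.desc inl.hom inr.hom⟩
  have hv1 : l ≫ v = inl := ObjectProperty.hom_ext _ (coprod.inl_desc _ _)
  have hv2 : r ≫ v = inr := ObjectProperty.hom_ext _ (coprod.inr_desc _ _)
  have huv : u ≫ v = 𝟙 Y := by
    apply BinaryCofan.IsColimit.hom_ext hY
    · exact (Category.assoc _ _ _).symm.trans ((congrArg (· ≫ v) hu1).trans (hv1.trans (Category.comp_id _).symm))
    · exact (Category.assoc _ _ _).symm.trans ((congrArg (· ≫ v) hu2).trans (hv2.trans (Category.comp_id _).symm))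
  have hvu : v ≫ u = 𝟙 Y0 := by
    apply ObjectProperty.hom_ext
    apply coprod.hom_ext
    · exact congrArg (fun k => k.hom) (show l ≫ v ≫ u = l ≫ 𝟙 _ by
        rw [← Category.assoc, hv1, Category.comp_id]; exact hu1)
    · exact congrArg (fun k => k.hom) (show r ≫ v ≫ u = r ≫ 𝟙 _ by
        rw [← Category.assoc, hv2, Category.comp_id]; exact hu2)
  have hiso : IsIso v.hom := ⟨u.hom, congrArg (fun k => k.hom) hvu, congrArg (fun k => k.hom) huv⟩
  constructor
  · have h1 : inl.hom = coprod.inl ≫ v.hom := congrArg (fun k => k.hom) hv1.symm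
    rw [h1]
    exact (MorphismProperty.cancel_right_of_respectsIso (RepWith (@IsOpenImmersion ⊓ @IsClosedImmersion)) _ _).2
      (K594.Atlas.repWith_inl (c := BinaryCofan.mk coprod.inl coprod.inr) hc)
  · have h1 : inr.hom = coprod.inr ≫ v.hom := congrArg (fun k => k.hom) hv2.symm
    rw [h1]
    exact (MorphismProperty.cancel_right_of_respectsIso (RepWith (@IsOpenImmersion ⊓ @IsClosedImmersion)) _ _).2
      (K594.Atlas.repWith_inr (c := BinaryCofan.mk coprod.inl coprod.inr) hc)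

theorem cop_open {A B Y : Space S} {inl : A ⟶ Y} {inr : B ⟶ Y} (hY : IsColimit (BinaryCofan.mk inl inr)) :
    RepWith @IsOpenImmersion inl.hom ∧ RepWith @IsOpenImmersion inr.hom :=
  ⟨K597.repWith_mono (fun _ _ _ h => h.1) (cop_clopen _ _ hY).1, K597.repWith_mono (fun _ _ _ h => h.1) (cop_clopen _ _ hY).2⟩

theorem cop_closed {A B Y : Space S} {inl : A ⟶ Y} {inr : B ⟶ Y} (hY : IsColimit (BinaryCofan.mk inl inr)) :
    RepWith @IsClosedImmersion inl.hom ∧ RepWith @IsClosedImmersion inr.hom :=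
  ⟨K597.repWith_mono (fun _ _ _ h => h.2) (cop_clopen _ _ hY).1, K597.repWith_mono (fun _ _ _ h => h.2) (cop_clopen _ _ hY).2⟩

/-- The injections of a coproduct are jointly surjective. -/
theorem cop_surj {A B Y : Space S} {inl : A ⟶ Y} {inr : B ⟶ Y} (hY : IsColimit (BinaryCofan.mk inl inr))
    (y : Points Y.obj) : y ∈ Set.range (Points.map inl.hom) ∨ y ∈ Set.range (Points.map inr.hom) := by
  obtain ⟨h1, h2⟩ := cop_open hY
  let O : Set (Points Y.obj) := Set.range (Points.map inl.hom) ∪ Set.range (Points.map inr.hom)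
  have hO : IsOpen O := (K610.OpenImm.isOpenEmbedding_points Y.property h1).isOpen_range.union
    (K610.OpenImm.isOpenEmbedding_points Y.property h2).isOpen_range
  obtain ⟨E, j, hj, hjr⟩ := K610.Sub.exists_open_subspace Y O hO
  obtain ⟨l, hl⟩ := (factors_open_iff hj inl.hom).2 (by rw [hjr]; exact Set.subset_union_left)
  obtain ⟨r, hr⟩ := (factors_open_iff hj inr.hom).2 (by rw [hjr]; exact Set.subset_union_right)
  obtain ⟨u, hu1, hu2⟩ := BinaryCofan.IsColimit.desc' hY (⟨l⟩ : A ⟶ E) (⟨r⟩ : B ⟶ E)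
  have huj : u ≫ j = 𝟙 Y := by
    apply BinaryCofan.IsColimit.hom_ext hY
    · exact (Category.assoc _ _ _).symm.trans ((congrArg (· ≫ j) hu1).trans
        ((ObjectProperty.hom_ext _ hl).trans (Category.comp_id _).symm))
    · exact (Category.assoc _ _ _).symm.trans ((congrArg (· ≫ j) hu2).trans
        ((ObjectProperty.hom_ext _ hr).trans (Category.comp_id _).symm))
  let u' : Y ⟶ E := u
  have h4 : u'.hom ≫ j.hom = 𝟙 Y.obj := congrArg (fun k : Y ⟶ Y => k.hom) huj
  have h3 : y ∈ Set.range (Points.map j.hom) :=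
    ⟨Points.map u'.hom y, by rw [← Points.map_comp, h4, Points.map_id]⟩
  rw [hjr] at h3
  exact h3

/-- A map out of a coproduct is proper if its restrictions are. -/
theorem isProperMor_of_cop {A B Y X : Space S} {inl : A ⟶ Y} {inr : B ⟶ Y} (hY : IsColimit (BinaryCofan.mk inl inr))
    (g : Y ⟶ X) (h1 : IsProperMor (inl ≫ g).hom) (h2 : IsProperMor (inr ≫ g).hom) : IsProperMor g.hom := by
  let W : Fin 2 → Space S := fun k => if k = 0 then A else B
  let i : ∀ k, W k ⟶ Y := fun k =>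
    match k with
    | 0 => inl
    | 1 => inr
  have hsurj : ∀ y : Points Y.obj, ∃ k, y ∈ Set.range (Points.map (i k).hom) := by
    intro y
    rcases cop_surj hY y with h | h
    · exact ⟨0, h⟩
    · exact ⟨1, h⟩
  have hlft : LocP @LocallyOfFiniteType g.hom := by
    refine locP_of_family etLoc_lft (fun k => (i k).hom) g.hom (fun k => (W k).property.hasAtlas)
      X.property.hasAtlas ?_ hsurj ?_
    · intro k
      match k with
      | 0 => exact K610.OpenImm.repWith_etale_of_open (cop_open hY).1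
      | 1 => exact K610.OpenImm.repWith_etale_of_open (cop_open hY).2
    · intro k
      match k with
      | 0 => exact h1.2.1.1
      | 1 => exact h2.2.1.1
  have h3 := K597.ProperSub.isProperMor_of_range_subset g hlft W i ?_ ?_ (𝟙 Y)
    (MorphismProperty.id_mem (RepWith @IsClosedImmersion) _) ?_
  · exact (congrArg (fun k : Y ⟶ X => IsProperMor k.hom) (Category.id_comp g)).mp h3
  · intro k
    match k with
    | 0 => exact (cop_closed hY).1
    | 1 => exact (cop_closed hY).2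
  · intro k
    match k with
    | 0 => exact h1
    | 1 => exact h2
  · intro y _
    obtain ⟨k, hk⟩ := hsurj y
    exact Set.mem_iUnion.2 ⟨k, hk⟩

/-- The scheme theoretic image of the map to a coequalizer is everything. -/
theorem isSchImage_id_of_coeq {R Y X₁ : Space S} {t s : R ⟶ Y} {π : Y ⟶ X₁} (w : t ≫ π = s ≫ π)
    (hc : IsColimit (Cofork.ofπ π w)) : IsSchImage π.hom (𝟙 X₁ : X₁ ⟶ X₁).hom := by
  obtain ⟨Z₁, i, hi⟩ := Groth.Agent.S9964.result π
  have hm : Mono i.hom := mono_of_isClosedImmersion hi.1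
  obtain ⟨π', hπ'⟩ := hi.2.1
  let p : Y ⟶ Z₁ := ⟨π'⟩
  have hp : p ≫ i = π := ObjectProperty.hom_ext _ hπ'
  have hmi : Mono i := ⟨fun a b h => ObjectProperty.hom_ext _ ((cancel_mono i.hom).1 (congrArg (fun k => k.hom) h))⟩
  obtain ⟨r, hr⟩ := Cofork.IsColimit.desc' hc p (by
    rw [← cancel_mono i, Category.assoc, Category.assoc, hp, w])
  have hri : r ≫ i = 𝟙 X₁ := by
    apply Cofork.IsColimit.hom_ext hc
    exact (Category.assoc _ _ _).symm.trans ((congrArg (· ≫ i) hr).trans (hp.trans (Category.comp_id _).symm))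
  have hir : i ≫ r = 𝟙 Z₁ := by
    rw [← cancel_mono i, Category.assoc, hri, Category.comp_id, Category.id_comp]
  refine ⟨MorphismProperty.id_mem (RepWith @IsClosedImmersion) _, ⟨π.hom, Category.comp_id _⟩, ?_⟩
  rintro Z' i' hZ' hi' hf
  obtain ⟨k, hk⟩ := hi.2.2 i' hZ' hi' hf
  refine ⟨r.hom ≫ k, ?_⟩
  rw [Category.assoc, hk]
  exact congrArg (fun k => k.hom) hri

/-- The locus where two morphisms to a separated space over `Y` agree is a closed subspace. -/
theorem exists_agree {U P Y : Sp S} {π : P ⟶ Y} (hπ : IsSeparatedMor π) (a b : U ⟶ P) (h : a ≫ π = b ≫ π) :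
    ∃ (E : Sp S) (m : E ⟶ U), RepWith @IsClosedImmersion m ∧ m ≫ a = m ≫ b ∧
      ∀ {V : Sp S} (c : V ⟶ U), c ≫ a = c ≫ b → ∃ c' : V ⟶ E, c' ≫ m = c := by
  have sq : IsPullback (pullback.fst (pullback.diagonal π) (pullback.lift a b h))
    (pullback.snd (pullback.diagonal π) (pullback.lift a b h)) (pullback.diagonal π) (pullback.lift a b h) :=
    IsPullback.of_hasPullback _ _
  refine ⟨_, _, MorphismProperty.of_isPullback (P := RepWith _) sq hπ, ?_, fun {V} c hc => ?_⟩
  · have h1 := congrArg (· ≫ pullback.fst π π) sq.w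
    have h2 := congrArg (· ≫ pullback.snd π π) sq.w
    simp only [Category.assoc, pullback.diagonal_fst, pullback.diagonal_snd, Category.comp_id,
      pullback.lift_fst, pullback.lift_snd] at h1 h2
    rw [← h1, ← h2]
  · refine ⟨sq.lift (c ≫ a) c ?_, sq.lift_snd _ _ _⟩
    apply pullback.hom_ext
    · rw [Category.assoc, pullback.diagonal_fst, Category.comp_id, Category.assoc, pullback.lift_fst]
    · rw [Category.assoc, pullback.diagonal_snd, Category.comp_id, Category.assoc, pullback.lift_snd, hc]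

/-- If `O ⟶ π_* O` is injective and `π ≫ c` is an isomorphism over the open `U`, so is `c`. -/
theorem isIso_over {X Y X₁ U YU P : Space S} (π : Y ⟶ X₁) (c : X₁ ⟶ X) (jU : U ⟶ X)
    (hπ : IsSchImage π.hom (𝟙 X₁ : X₁ ⟶ X₁).hom) (hqc : IsQuasiCompactMor π.hom)
    (hjU : RepWith @IsOpenImmersion jU.hom) (hsep : IsSeparatedMor c.hom)
    (m : YU ⟶ Y) (n : YU ⟶ U) (sqY : IsPullback m.hom n.hom (π.hom ≫ c.hom) jU.hom) [IsIso n.hom]
    (p : P ⟶ X₁) (q : P ⟶ U) (sq : IsPullback p.hom q.hom c.hom jU.hom) : IsIso q.hom := by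
  have hw : (m.hom ≫ π.hom) ≫ c.hom = n.hom ≫ jU.hom := by rw [Category.assoc]; exact sqY.w
  let πU : YU ⟶ P := ⟨sq.lift (m.hom ≫ π.hom) n.hom hw⟩
  have e1 : πU.hom ≫ p.hom = m.hom ≫ π.hom := sq.lift_fst _ _ _
  have e2 : πU.hom ≫ q.hom = n.hom := sq.lift_snd _ _ _
  have sqπ : IsPullback m.hom πU.hom π.hom p.hom :=
    (IsPullback.of_right (by rw [e2]; exact sqY.flip) e1 sq.flip).flip
  have hp : RepWith @IsOpenImmersion p.hom := MorphismProperty.of_isPullback (P := RepWith _) sq.flip hjU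
  have hpe : IsEtaleMor p.hom := fun U φ hφ => etale_comp hφ (K610.OpenImm.repWith_etale_of_open hp)
  have h1 : IsSchImage πU.hom (𝟙 P : P ⟶ P).hom :=
    (Groth.Agent.S9965.result π (𝟙 X₁) hqc hπ).1 P YU P p hpe m πU p (𝟙 P) sqπ (IsPullback.of_vert_isIso ⟨by simp⟩)
  let s : U.obj ⟶ P.obj := inv n.hom ≫ πU.hom
  have hs : s ≫ q.hom = 𝟙 _ := by
    change (inv n.hom ≫ πU.hom) ≫ q.hom = 𝟙 _
    rw [Category.assoc, e2, IsIso.inv_hom_id]
  have hq : IsSeparatedMor q.hom := MorphismProperty.of_isPullback (P := IsSeparatedMor (S := S)) sq hsep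
  obtain ⟨E, e, he, he1, he2⟩ := exists_agree hq (𝟙 P.obj) (q.hom ≫ s) (by
    rw [Category.id_comp, Category.assoc, hs, Category.comp_id])
  have hem : Mono e := mono_of_isClosedImmersion he
  obtain ⟨s', hs'⟩ := he2 s (by rw [Category.comp_id, ← Category.assoc, hs, Category.id_comp])
  obtain ⟨k, hk⟩ := h1.2.2 e (K610.Sub.isAlgSpace_of_mono he.1 P.property) he ⟨n.hom ≫ s', by
    rw [Category.assoc, hs']
    change n.hom ≫ inv n.hom ≫ πU.hom = _
    rw [IsIso.hom_inv_id_assoc]⟩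
  refine ⟨s, ?_, hs⟩
  have h3 : (k ≫ e) ≫ 𝟙 P.obj = (k ≫ e) ≫ q.hom ≫ s := by rw [Category.assoc, Category.assoc, he1]
  have h4 : k ≫ e = 𝟙 P.obj := hk
  rw [h4, Category.id_comp, Category.id_comp] at h3
  exact h3.symm

/-- The restriction of `X' ⨿ Z ⟶ X` to the open complement `U` of `Z` is an isomorphism. -/
theorem isIso_restrict {X X' Z U XU Y YU : Space S} (i : Z ⟶ X) (jU : U ⟶ X) (hjU : RepWith @IsOpenImmersion jU.hom)
    (hU : Set.range (Points.map jU.hom) = (Set.range (Points.map i.hom))ᶜ) (f : X' ⟶ X)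
    (a : XU ⟶ X') (b : XU ⟶ U) (hXU : IsPullback a.hom b.hom f.hom jU.hom) [IsIso b]
    (inl : X' ⟶ Y) (inr : Z ⟶ Y) (hY : IsColimit (BinaryCofan.mk inl inr)) (g : Y ⟶ X) (hg₁ : inl ≫ g = f)
    (hg₂ : inr ≫ g = i) (m : YU ⟶ Y) (n : YU ⟶ U) (sqY : IsPullback m.hom n.hom g.hom jU.hom) : IsIso n.hom := by
  have hg1 : inl.hom ≫ g.hom = f.hom := congrArg (fun k => k.hom) hg₁
  have hg2 : inr.hom ≫ g.hom = i.hom := congrArg (fun k => k.hom) hg₂
  have hw : (a.hom ≫ inl.hom) ≫ g.hom = b.hom ≫ jU.hom := by rw [Category.assoc, hg1, hXU.w]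
  let e : XU ⟶ YU := ⟨sqY.lift (a.hom ≫ inl.hom) b.hom hw⟩
  have e1 : e.hom ≫ m.hom = a.hom ≫ inl.hom := sqY.lift_fst _ _ _
  have e2 : e.hom ≫ n.hom = b.hom := sqY.lift_snd _ _ _
  have hm : RepWith @IsOpenImmersion m.hom := MorphismProperty.of_isPullback (P := RepWith _) sqY.flip hjU
  have ha : RepWith @IsOpenImmersion a.hom := MorphismProperty.of_isPullback (P := RepWith _) hXU.flip hjU
  have hmm : Mono m.hom := mono_of_isOpenImmersion hm
  have heo : RepWith @IsOpenImmersion e.hom := by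
    have h1 : RepWith @IsOpenImmersion (e.hom ≫ m.hom) := by
      rw [e1]
      exact MorphismProperty.comp_mem (RepWith @IsOpenImmersion) _ _ ha (cop_open hY).1
    exact K610.OpenImm.repWith_of_comp_mono h1
  have hes : Function.Surjective (Points.map e.hom) := by
    intro y
    rcases cop_surj hY (Points.map m.hom y) with ⟨x, hx⟩ | ⟨z, hz⟩
    · obtain ⟨w, hw1, -⟩ := exists_of_isPullback hXU x (Points.map n.hom y) (by
        rw [← hg1, Points.map_comp, hx, ← Points.map_comp, sqY.w, Points.map_comp])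
      refine ⟨w, (K610.OpenImm.isOpenEmbedding_points Y.property hm).injective ?_⟩
      rw [← Points.map_comp, e1, Points.map_comp, hw1, hx]
    · exfalso
      have h1 : Points.map jU.hom (Points.map n.hom y) ∈ (Set.range (Points.map i.hom))ᶜ := by
        rw [← hU]; exact ⟨_, rfl⟩
      apply h1
      refine ⟨z, ?_⟩
      rw [← hg2, Points.map_comp, hz, ← Points.map_comp, sqY.w, Points.map_comp]
  have hei : IsIso e.hom := by
    have := mono_of_isOpenImmersion heo
    obtain ⟨k, hk⟩ := (factors_open_iff heo (𝟙 YU.obj)).2 (by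
      intro y _
      exact hes y)
    refine ⟨k, ?_, hk⟩
    rw [← cancel_mono e.hom, Category.assoc, hk, Category.comp_id, Category.id_comp]
  have hbi : IsIso b.hom := (inferInstance : IsIso ((ObjectProperty.ι _).map b))
  have : IsIso (e.hom ≫ n.hom) := by rw [e2]; exact hbi
  exact IsIso.of_isIso_comp_left e.hom n.hom

/-- The statement of S10703 over `S`. -/
def Coeq (S : Scheme.{u}) : Prop :=
  ∀ {X Y R : AlgSp.Space S} (g : Y ⟶ X),
    AlgSp.IsLocNoethSp X.obj → AlgSp.IsProperMor g.hom → ∀ (t s : R ⟶ Y),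
    IsPullback t.hom s.hom g.hom g.hom →
    ∃ (X' : AlgSp.Space S) (π : Y ⟶ X') (w : t ≫ π = s ≫ π) (c : X' ⟶ X),
      Nonempty (IsColimit (Cofork.ofπ π w)) ∧ π ≫ c = g ∧ AlgSp.IsFiniteMor c.hom ∧ AlgSp.IsProperMor π.hom ∧
        AlgSp.IsSurjectiveMor π.hom ∧ AlgSp.IsUnivInjectiveMor c.hom ∧
        (AlgSp.IsSurjectiveMor g.hom → AlgSp.IsUnivHomeoMor c.hom)

theorem main (H : Coeq S) {X X' Z U XU Y R : AlgSp.Space S} (hX : AlgSp.IsLocNoethSp X.obj)
    (i : Z ⟶ X) (hi : AlgSp.RepWith @IsClosedImmersion i.hom) (jU : U ⟶ X) (hjU : AlgSp.RepWith @IsOpenImmersion jU.hom)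
    (hU : Set.range (AlgSp.Points.map jU.hom) = (Set.range (AlgSp.Points.map i.hom))ᶜ) (f : X' ⟶ X)
    (hf : AlgSp.IsProperMor f.hom) (a : XU ⟶ X') (b : XU ⟶ U) (hXU : IsPullback a.hom b.hom f.hom jU.hom) [IsIso b]
    (inl : X' ⟶ Y) (inr : Z ⟶ Y) (hY : IsColimit (BinaryCofan.mk inl inr)) (g : Y ⟶ X) (hg₁ : inl ≫ g = f)
    (hg₂ : inr ≫ g = i) (t s : R ⟶ Y) (hR : IsPullback t.hom s.hom g.hom g.hom) :
    ∃ (X₁ : AlgSp.Space S) (π : Y ⟶ X₁) (w : t ≫ π = s ≫ π) (c : X₁ ⟶ X), Nonempty (IsColimit (Cofork.ofπ π w)) ∧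
      π ≫ c = g ∧ AlgSp.IsFiniteMor c.hom ∧ AlgSp.IsUnivHomeoMor c.hom ∧
      (∃ (P : AlgSp.Space S) (p : P ⟶ X₁) (q : P ⟶ U), IsPullback p.hom q.hom c.hom jU.hom ∧ IsIso q) ∧
      ∃ k : Z ⟶ X₁, k ≫ c = i := by
  have hg : IsProperMor g.hom := isProperMor_of_cop hY g (by rw [hg₁]; exact hf)
    (by rw [hg₂]; exact K597.ProperSub.isProperMor_of_closed X.property hi)
  have hgs : IsSurjectiveMor g.hom := by
    intro x
    by_cases hx : x ∈ Set.range (Points.map i.hom)
    · obtain ⟨z, hz⟩ := hx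
      refine ⟨Points.map inr.hom z, ?_⟩
      rw [← Points.map_comp]
      have : inr.hom ≫ g.hom = i.hom := congrArg (fun k => k.hom) hg₂
      rw [this, hz]
    · have hx' : x ∈ Set.range (Points.map jU.hom) := by rw [hU]; exact hx
      obtain ⟨u, hu⟩ := hx'
      have h1 : inl.hom ≫ g.hom = f.hom := congrArg (fun k => k.hom) hg₁
      have h2 : inv b ≫ a ≫ f = jU := by
        rw [IsIso.inv_comp_eq]
        exact ObjectProperty.hom_ext _ hXU.w
      have h3 : (inv b).hom ≫ a.hom ≫ f.hom = jU.hom := congrArg (fun k => k.hom) h2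
      refine ⟨Points.map ((inv b).hom ≫ a.hom ≫ inl.hom) u, ?_⟩
      rw [← Points.map_comp, Category.assoc, Category.assoc, h1, h3, hu]
  obtain ⟨X₁, π, w, c, ⟨hc⟩, hπc, hfin, hπ, -, -, hh⟩ := H g hX hg t s hR
  refine ⟨X₁, π, w, c, ⟨hc⟩, hπc, hfin, hh hgs, ?_, inr ≫ π, by rw [Category.assoc, hπc, hg₂]⟩
  have sq := IsPullback.of_hasPullback c.hom jU.hom
  have sqY := IsPullback.of_hasPullback g.hom jU.hom
  let P : Space S := ⟨pullback c.hom jU.hom, K613.Chart.isAlgSpace_pullback X₁.property U.property X.property _ _⟩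
  let YU : Space S := ⟨pullback g.hom jU.hom, K613.Chart.isAlgSpace_pullback Y.property U.property X.property _ _⟩
  let p : P ⟶ X₁ := ⟨pullback.fst _ _⟩
  let q : P ⟶ U := ⟨pullback.snd _ _⟩
  let m : YU ⟶ Y := ⟨pullback.fst _ _⟩
  let n : YU ⟶ U := ⟨pullback.snd _ _⟩
  have hn : IsIso n.hom := isIso_restrict i jU hjU hU f a b hXU inl inr hY g hg₁ hg₂ m n sqY
  have hπc' : π.hom ≫ c.hom = g.hom := congrArg (fun k => k.hom) hπc
  have hq : IsIso q.hom := isIso_over π c jU (isSchImage_id_of_coeq w hc) hπ.2.1.2 hjU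
    (((K597.Proper.isFiniteMor_iff_affine_proper X.property).1 hfin).2.1) m n (by rw [hπc']; exact sqY) p q sq
  refine ⟨P, p, q, sq, ?_⟩
  exact ⟨⟨inv q.hom⟩, ObjectProperty.hom_ext _ (IsIso.hom_inv_id q.hom), ObjectProperty.hom_ext _ (IsIso.inv_hom_id q.hom)⟩

end K624.GlueMod
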