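import Groth.Agent.EtpbcB.OshHens
import Groth.Agent.Etbase.EtaleStalk
import Groth.Prelude.Def_Hensel
import Mathlib.AlgebraicGeometry.Morphisms.Etale

/-!
# Elementary étale neighbourhoods do not change the henselization

For an étale morphism of schemes `f : X ⟶ Y` and a point `x` with trivial residue field extension, a
henselization of `O_{X,x}` is a henselization of `O_{Y,f x}`.
-/

set_option autoImplicit false
universe u
open CategoryTheory CategoryTheory.Limits AlgebraicGeometry IsLocalRing

namespace K624.HensNbhd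

open Groth.Agent.Etrest.StrictLoc Groth.Agent.EtpbcB.OshHens

variable {X Y : Scheme.{u}} (f : X ⟶ Y) [Etale f] (x : X)

theorem map_maximalIdeal_le :
    maximalIdeal (X.presheaf.stalk x) ≤
      (maximalIdeal (Y.presheaf.stalk (f x))).map (f.stalkMap x).hom := by
  obtain ⟨h1, h2, h3, h4⟩ := Groth.Agent.Etbase.EtaleStalk.stalkMap_facts f x
  algebraize [(f.stalkMap x).hom]
  exact (Algebra.FormallyUnramified.map_maximalIdeal
    (R := Y.presheaf.stalk (f x)) (S := X.presheaf.stalk x)).ge

/-- Two local homomorphisms `O_{X,x} → T` with the same restriction to `O_{Y, f x}` agree when the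
residue field extension is trivial. -/
theorem eq_of_comp_stalkMap (hk : Function.Bijective (f.residueFieldMap x)) {T : Type u}
    [CommRing T] [IsLocalRing T] (φ ψ : X.presheaf.stalk x →+* T)
    (hφ : IsLocalHom (φ.comp (f.stalkMap x).hom))
    (h : φ.comp (f.stalkMap x).hom = ψ.comp (f.stalkMap x).hom) : φ = ψ := by
  have loc : ∀ (χ : X.presheaf.stalk x →+* T), IsLocalHom (χ.comp (f.stalkMap x).hom) →
      IsLocalHom χ := by
    intro χ hχ
    refine ((local_hom_TFAE χ).out 0 2).2 ?_
    refine (Ideal.map_mono (map_maximalIdeal_le f x)).trans ?_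
    rw [Ideal.map_map]
    exact ((local_hom_TFAE (χ.comp (f.stalkMap x).hom)).out 0 2).1 hχ
  have h1 := loc φ hφ
  have h2 := loc ψ (h ▸ hφ)
  let a : Spec (CommRingCat.of T) ⟶ X := spm φ ≫ X.fromSpecStalk x
  let b : Spec (CommRingCat.of T) ⟶ X := spm ψ ≫ X.fromSpecStalk x
  have key : ∀ χ : X.presheaf.stalk x →+* T, (spm χ ≫ X.fromSpecStalk x) ≫ f =
      spm (χ.comp (f.stalkMap x).hom) ≫ Y.fromSpecStalk (f x) := by
    intro χ
    rw [spm_comp, Category.assoc, Category.assoc]
    congr 1
    exact (Scheme.SpecMap_stalkMap_fromSpecStalk f).symm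
  have hab : a ≫ f = b ≫ f := by
    rw [key, key, h]
  have hres : ∀ (χ : X.presheaf.stalk x →+* T) [IsLocalHom χ], 
      resPt T ≫ spm χ ≫ X.fromSpecStalk x = spm (ResidueField.map χ) ≫ 
        X.fromSpecResidueField x := by
    intro χ _
    rw [← Category.assoc, resPt_spm, Category.assoc]
    rfl
  have hr : resPt T ≫ a = resPt T ≫ b := by
    rw [hres φ, hres ψ]
    congr 1
    rw [spm_inj]
    have h3 : (ResidueField.map φ).comp (f.residueFieldMap x).hom =
        (ResidueField.map ψ).comp (f.residueFieldMap x).hom := by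
      ext z
      obtain ⟨z, rfl⟩ := IsLocalRing.residue_surjective (R := Y.presheaf.stalk (f x)) z
      have := RingHom.congr_fun h z
      exact congrArg (residue T) this
    ext z
    obtain ⟨w, rfl⟩ := hk.2 z
    exact RingHom.congr_fun h3 w
  have := eq_of_resPt f a b hab hr
  have h4 : spm φ = spm ψ := by
    rw [← cancel_mono (X.fromSpecStalk x)]
    exact this
  exact spm_inj.1 h4

/-- Existence of lifts. -/
theorem exists_lift (hk : Function.Bijective (f.residueFieldMap x)) {T : Type u}
    [CommRing T] [HenselianLocalRing T] (φ : Y.presheaf.stalk (f x) →+* T) [IsLocalHom φ] :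
    ∃ ψ : X.presheaf.stalk x →+* T, IsLocalHom ψ ∧ ψ.comp (f.stalkMap x).hom = φ := by
  let e := RingEquiv.ofBijective (f.residueFieldMap x).hom hk
  let t : Spec (CommRingCat.of T) ⟶ Y := spm φ ≫ Y.fromSpecStalk (f x)
  let x' : Spec (CommRingCat.of (ResidueField T)) ⟶ X :=
    spm ((ResidueField.map φ).comp e.symm.toRingHom) ≫ X.fromSpecResidueField x
  have hx' : x' ≫ f = resPt T ≫ t := by
    have h1 : resPt T ≫ t = spm (ResidueField.map φ) ≫ Y.fromSpecResidueField (f x) := by
      change resPt T ≫ spm φ ≫ Y.fromSpecStalk (f x) = _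
      rw [← Category.assoc, resPt_spm, Category.assoc]
      rfl
    rw [h1]
    change (spm ((ResidueField.map φ).comp e.symm.toRingHom) ≫ X.fromSpecResidueField x) ≫ f = _
    rw [Category.assoc, ← Scheme.Hom.SpecMap_residueFieldMap_fromSpecResidueField, ← Category.assoc]
    congr 1
    have h2 : (ResidueField.map φ) = 
        ((ResidueField.map φ).comp e.symm.toRingHom).comp (f.residueFieldMap x).hom := by
      ext z
      exact congrArg (ResidueField.map φ) (e.symm_apply_apply z).symm
    conv_rhs => rw [h2]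
    exact (spm_comp _ _).symm
  obtain ⟨a, ha, ha'⟩ := exists_lift_of_resPt f t x' hx'
  have hax : a (closedPoint T) = x := by
    have h1 : (resPt T ≫ a) (closedPoint (ResidueField T)) = a (closedPoint T) :=
      (Scheme.Hom.comp_apply _ _ _).trans (congrArg a (resPt_closedPoint T _))
    rw [← h1, ha']
    exact Scheme.fromSpecResidueField_apply x _
  obtain ⟨ψ, hψ, hψ'⟩ := exists_stalk_hom a x hax
  refine ⟨ψ, hψ, ?_⟩
  rw [← spm_inj, ← cancel_mono (Y.fromSpecStalk (f x))]
  have h5 : spm φ ≫ Y.fromSpecStalk (f x) = a ≫ f := ha.symm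
  rw [h5, spm_comp, Category.assoc]
  have h6 : spm (f.stalkMap x).hom ≫ Y.fromSpecStalk (f x) = X.fromSpecStalk x ≫ f :=
    Scheme.SpecMap_stalkMap_fromSpecStalk f
  rw [h6, ← Category.assoc]
  congr 1

/-- A henselization of `O_{X,x}` is a henselization of `O_{Y,f x}`, for `f` étale with trivial
residue field extension at `x`. -/
theorem isHenselization_of_etale (hk : Function.Bijective (f.residueFieldMap x))
    (R : Type u) [CommRing R] [IsLocalRing R] [Algebra (X.presheaf.stalk x) R]
    [IsLocalHom (algebraMap (X.presheaf.stalk x) R)]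
    [hR : Hensel.IsHenselization (X.presheaf.stalk x) R] :
    letI : Algebra (Y.presheaf.stalk (f x)) R :=
      ((algebraMap (X.presheaf.stalk x) R).comp (f.stalkMap x).hom).toAlgebra
    ∃ (_ : IsLocalHom (algebraMap (Y.presheaf.stalk (f x)) R)),
      Hensel.IsHenselization (Y.presheaf.stalk (f x)) R := by
  let _ : Algebra (Y.presheaf.stalk (f x)) R :=
      ((algebraMap (X.presheaf.stalk x) R).comp (f.stalkMap x).hom).toAlgebra
  have hl : IsLocalHom (algebraMap (Y.presheaf.stalk (f x)) R) :=
    inferInstanceAs (IsLocalHom ((algebraMap (X.presheaf.stalk x) R).comp (f.stalkMap x).hom))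
  refine ⟨hl, ⟨hR.henselian, ?_⟩⟩
  intro T _ _ φ hφ
  obtain ⟨ψ, hψ, hψ'⟩ := exists_lift f x hk φ
  obtain ⟨g, hg, hg'⟩ := hR.universal T ψ hψ
  refine ⟨g, ?_, ?_⟩
  · change g.comp ((algebraMap (X.presheaf.stalk x) R).comp (f.stalkMap x).hom) = φ
    rw [← RingHom.comp_assoc]
    exact (congrArg (fun z => z.comp (f.stalkMap x).hom) hg).trans hψ'
  · intro g' hg''
    apply hg'
    have h1 : (g'.comp (algebraMap (X.presheaf.stalk x) R)).comp (f.stalkMap x).hom = φ := by
      rw [RingHom.comp_assoc]
      exact hg''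
    refine eq_of_comp_stalkMap f x hk _ _ ?_ ?_
    · rw [h1]; exact hφ
    · rw [h1, hψ']

end K624.HensNbhd
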