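import Mathlib.AlgebraicGeometry.Stalk
import Mathlib.AlgebraicGeometry.Properties
import Mathlib.AlgebraicGeometry.Morphisms.Preimmersion
import Mathlib.RingTheory.Spectrum.Prime.Topology
import Mathlib.Data.Set.Card
import Groth.Prelude.Def_CAlgX

/-!
# Minimal primes of a local ring of a scheme and irreducible components through the point
-/

set_option autoImplicit false
universe u
open CategoryTheory AlgebraicGeometry Topology TopologicalSpace

namespace K624.StalkComp

variable {X : Scheme.{u}} (x : X)

/-- The point of `X` defined by a prime of the local ring at `x`. -/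
noncomputable abbrev pt (w : PrimeSpectrum (X.presheaf.stalk x)) : X := X.fromSpecStalk x w

theorem pt_specializes (w : PrimeSpectrum (X.presheaf.stalk x)) : pt x w ⤳ x := by
  have : X.fromSpecStalk x w ∈ Set.range (X.fromSpecStalk x) := ⟨w, rfl⟩
  rwa [Scheme.range_fromSpecStalk] at this

theorem exists_pt_eq {y : X} (h : y ⤳ x) : ∃ w, pt x w = y := by
  have : y ∈ Set.range (X.fromSpecStalk x) := by
    rw [Scheme.range_fromSpecStalk]
    exact h
  exact this

theorem pt_specializes_iff (w w' : PrimeSpectrum (X.presheaf.stalk x)) :
    pt x w' ⤳ pt x w ↔ w'.asIdeal ≤ w.asIdeal := by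
  have h := (X.fromSpecStalk x).isEmbedding.isInducing.specializes_iff (x := w') (y := w)
  exact h.trans (PrimeSpectrum.le_iff_specializes w' w).symm

theorem pt_injective : Function.Injective (pt x) := fun w w' h =>
  (X.fromSpecStalk x).isEmbedding.injective h

/-- A generic point of an irreducible component has no proper generization. -/
theorem eq_of_specializes_of_mem_irreducibleComponents {y z : X}
    (hy : closure {y} ∈ irreducibleComponents X) (h : z ⤳ y) : z = y := by
  have h1 : closure ({y} : Set X) ⊆ closure {z} := by
    rw [isClosed_closure.closure_subset_iff, Set.singleton_subset_iff]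
    exact specializes_iff_mem_closure.1 h
  have h2 : closure ({z} : Set X) ⊆ closure {y} :=
    hy.2 isIrreducible_singleton.closure h1
  exact (h.antisymm (specializes_iff_mem_closure.2 (h2 (subset_closure rfl)))).eq

/-- For a minimal prime of `O_{X,x}`, the corresponding point of `X` is the generic point of an
irreducible component, and conversely. -/
theorem mem_minimalPrimes_iff (w : PrimeSpectrum (X.presheaf.stalk x)) :
    w.asIdeal ∈ minimalPrimes (X.presheaf.stalk x) ↔
      closure {pt x w} ∈ irreducibleComponents X := by
  constructor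
  · intro hw
    refine ⟨isIrreducible_singleton.closure, fun Z hZ hle => ?_⟩
    have hZ' : IsIrreducible Z := hZ
    let y := hZ'.genericPoint
    have hy : closure {y} = closure Z := hZ'.genericPoint_closure_eq
    have h1 : y ⤳ pt x w := by
      rw [specializes_iff_mem_closure, hy]
      exact subset_closure (hle (subset_closure rfl))
    obtain ⟨w', hw'⟩ := exists_pt_eq x (h1.trans (pt_specializes x w))
    rw [← hw', pt_specializes_iff] at h1
    have h3 : w' = w := by
      apply PrimeSpectrum.ext
      exact le_antisymm h1 (hw.2 ⟨w'.isPrime, bot_le⟩ h1)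
    rw [← h3, hw', hy]
    exact subset_closure
  · intro h
    refine ⟨⟨w.isPrime, bot_le⟩, fun q hq hle => ?_⟩
    have h1 := (pt_specializes_iff x w ⟨q, hq.1⟩).2 hle
    have h2 := pt_injective x (eq_of_specializes_of_mem_irreducibleComponents h h1)
    exact (congrArg PrimeSpectrum.asIdeal h2).ge

/-- The number of minimal primes of `O_{X,x}` is the number of irreducible components of `X`
through `x`. -/
theorem encard_minimalPrimes :
    (minimalPrimes (X.presheaf.stalk x)).encard =
      {Z : Set X | Z ∈ irreducibleComponents X ∧ x ∈ Z}.encard := by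
  have h1 : minimalPrimes (X.presheaf.stalk x) = PrimeSpectrum.asIdeal ''
      {w | w.asIdeal ∈ minimalPrimes (X.presheaf.stalk x)} := by
    ext p
    constructor
    · intro hp
      exact ⟨⟨p, hp.1.1⟩, hp, rfl⟩
    · rintro ⟨w, hw, rfl⟩
      exact hw
  have h2 : {Z : Set X | Z ∈ irreducibleComponents X ∧ x ∈ Z} = (fun w => closure {pt x w}) ''
      {w | w.asIdeal ∈ minimalPrimes (X.presheaf.stalk x)} := by
    ext Z
    constructor
    · rintro ⟨hZ, hx⟩
      let y := hZ.1.genericPoint
      have hy : closure {y} = Z := by
        rw [hZ.1.genericPoint_closure_eq]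
        exact (isClosed_of_mem_irreducibleComponents Z hZ).closure_eq
      have hyx : y ⤳ x := by
        rw [specializes_iff_mem_closure, hy]
        exact hx
      obtain ⟨w, hw⟩ := exists_pt_eq x hyx
      refine ⟨w, ?_, ?_⟩
      · change w.asIdeal ∈ minimalPrimes _
        rw [mem_minimalPrimes_iff, hw, hy]
        exact hZ
      · change closure {pt x w} = Z
        rw [hw, hy]
    · rintro ⟨w, hw, rfl⟩
      exact ⟨(mem_minimalPrimes_iff x w).1 hw, specializes_iff_mem_closure.1 (pt_specializes x w)⟩
  rw [h1, h2, Set.InjOn.encard_image, Set.InjOn.encard_image]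
  · intro w _ w' _ h
    apply pt_injective x
    have h' : closure {pt x w} = closure {pt x w'} := h
    have h3 : pt x w ⤳ pt x w' := by
      rw [specializes_iff_mem_closure, h']
      exact subset_closure rfl
    have h4 : pt x w' ⤳ pt x w := by
      rw [specializes_iff_mem_closure, ← h']
      exact subset_closure rfl
    exact (h3.antisymm h4).eq
  · intro w _ w' _ h
    exact PrimeSpectrum.ext h

theorem hasUniqueMinimalPrime_iff (A : Type u) [CommRing A] :
    CAlgX.HasUniqueMinimalPrime A ↔ (minimalPrimes A).encard = 1 := by
  rw [Set.encard_eq_one]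
  constructor
  · rintro ⟨p, hp, h⟩
    exact ⟨p, Set.eq_singleton_iff_unique_mem.2 ⟨hp, h⟩⟩
  · rintro ⟨p, hp⟩
    exact ⟨p, (Set.eq_singleton_iff_unique_mem.1 hp).1, (Set.eq_singleton_iff_unique_mem.1 hp).2⟩

end K624.StalkComp
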