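import Groth.Agent.AlgSp.K624.HensNbhd
import Groth.Agent.AlgSp.K624.ChartMap
import Groth.Agent.AlgSp.K624.StalkComp
import Groth.Agent.Pi1.H272.LazPerm
import Groth.Agent.S0508
import Mathlib.RingTheory.Ideal.GoingDown

/-!
# Elements of the henselization come from elementary étale neighbourhoods

and so do finite sets of minimal primes.
-/

set_option autoImplicit false
universe u
open CategoryTheory CategoryTheory.Limits AlgebraicGeometry IsLocalRing

namespace K624.HensSep

open Groth.Agent.Etrest.StrictLoc Groth.Agent.Hensel.Lazard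

/-- If `f ≫ g` is flat and `g` is a monomorphism, then `f` is flat. -/
theorem flat_of_comp_mono {X Y Z : Scheme.{u}} (f : X ⟶ Y) (g : Y ⟶ Z) [Mono g] [Flat (f ≫ g)] :
    Flat f := by
  have h : IsPullback (𝟙 X) f (f ≫ g) g := by
    refine ⟨⟨by simp⟩, ⟨PullbackCone.IsLimit.mk _ (fun s => s.fst) (fun s => by simp) ?_ ?_⟩⟩
    · intro s
      rw [← cancel_mono g, Category.assoc]
      exact s.condition
    · intro s m h1 h2
      rw [← h1, Category.comp_id]
  exact MorphismProperty.of_isPullback h inferInstance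

theorem mono_fromSpecResidueField (X : Scheme.{u}) (x : X) : Mono (X.fromSpecResidueField x) := by
  have : IsPreimmersion (X.fromSpecResidueField x) := inferInstance
  infer_instance

/-- Triviality of a residue field extension from a monomorphism. -/
theorem bijective_residueFieldMap_of_mono {X Y : Scheme.{u}} (f : X ⟶ Y) (x : X) (K : Type u)
    [Field K] (j : X.residueField x →+* K)
    (h : Mono (spm j ≫ X.fromSpecResidueField x ≫ f)) :
    Function.Bijective (f.residueFieldMap x) := by
  rw [← Scheme.Hom.SpecMap_residueFieldMap_fromSpecResidueField, ← Category.assoc] at h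
  have h3 : Mono (spm j ≫ Spec.map (f.residueFieldMap x)) :=
    mono_of_mono _ (Y.fromSpecResidueField (f x))
  have h4 : Mono (spm j) := mono_of_mono _ (Spec.map (f.residueFieldMap x))
  have h5 : IsIso (spm j) :=
    K624.ChartMap.isIso_of_mono_field (Field.toIsField _) (Field.toIsField _) _
  have h6 : Mono (Spec.map (f.residueFieldMap x)) := by
    have : Spec.map (f.residueFieldMap x) =
        inv (spm j) ≫ (spm j ≫ Spec.map (f.residueFieldMap x)) := by simp
    rw [this]
    exact mono_comp _ _
  exact K624.ChartMap.bijective_of_mono_spec (Field.toIsField _) (Field.toIsField _) _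

theorem comap_mem_minimalPrimes {A B : Type u} [CommRing A] [CommRing B] (φ : A →+* B)
    (hφ : φ.Flat) (P : Ideal B) (hP : P ∈ minimalPrimes B) : P.comap φ ∈ minimalPrimes A := by
  algebraize [φ]
  have := hP.1.1
  refine ⟨⟨Ideal.IsPrime.comap _, bot_le⟩, fun q hq hle => ?_⟩
  have := hq.1
  have hl : P.LiesOver (P.comap φ) := ⟨rfl⟩
  have : (P.comap φ).IsPrime := Ideal.IsPrime.comap _
  obtain ⟨Q, hQ, hQp, hQl⟩ := Ideal.exists_ideal_le_liesOver_of_le (p := q) (q := P.comap φ) P hle
  have h1 : P ≤ Q := hP.2 ⟨hQp, bot_le⟩ hQ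
  have h2 : q = Q.comap φ := hQl.over
  rw [h2]
  exact Ideal.comap_mono h1

variable {Y : Scheme.{u}} (y : Y) (R : Type u) [CommRing R] [IsLocalRing R]
  [Algebra (Y.presheaf.stalk y) R] [IsLocalHom (algebraMap (Y.presheaf.stalk y) R)]
  [Hensel.IsHenselization (Y.presheaf.stalk y) R]

/-- Finitely many elements of a henselization `R` of `O_{Y,y}` come from a local ring of an
elementary étale neighbourhood, over which `R` is flat. -/
theorem exists_nbhd {ι : Type*} [Finite ι] (s : ι → R) :
    ∃ (U : Scheme.{u}) (f : U ⟶ Y) (_ : Etale f) (u : U) (φ : U.presheaf.stalk u →+* R),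
      f u = y ∧ Function.Bijective (f.residueFieldMap u) ∧ φ.Flat ∧ IsLocalHom φ ∧
        ∀ i, s i ∈ Set.range φ := by
  obtain ⟨V, hV, hyV, -⟩ := exists_isAffineOpen_mem_and_subset (X := Y) (x := y) (U := ⊤) trivial
  let B := Γ(Y, V)
  let _ : Algebra B (Y.presheaf.stalk y) := (Y.presheaf.germ V y hyV).hom.toAlgebra
  have hloc : IsLocalization.AtPrime (Y.presheaf.stalk y) (hV.primeIdealOf ⟨y, hyV⟩).asIdeal :=
    hV.isLocalization_stalk ⟨y, hyV⟩
  let _ : Algebra B R := ((algebraMap (Y.presheaf.stalk y) R).comp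
    (algebraMap B (Y.presheaf.stalk y))).toAlgebra
  have : IsScalarTower B (Y.presheaf.stalk y) R := IsScalarTower.of_algebraMap_eq fun _ => rfl
  have hL : Laz B R := Groth.Agent.Pi1.H272.LazPerm.comp
    (Groth.Agent.Pi1.H272.LazPerm.of_isLocalization (A := B) (B := Y.presheaf.stalk y)
      (hV.primeIdealOf ⟨y, hyV⟩).asIdeal.primeCompl)
    (laz_of_isHenselization (Y.presheaf.stalk y) R)
  obtain ⟨E, _, _, _, χ, e, he⟩ := hL.exists_family s
  let f : Spec (CommRingCat.of E) ⟶ Y := spm (algebraMap B E) ≫ hV.fromSpec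
  have hE : Etale (spm (algebraMap B E)) := by
    rw [HasRingHomProperty.Spec_iff (P := @Etale)]
    exact RingHom.etale_algebraMap.2 inferInstance
  have hf : Etale f := inferInstance
  let t : Spec (CommRingCat.of R) ⟶ Spec (CommRingCat.of E) := spm χ.toRingHom
  obtain ⟨w, hw⟩ : ∃ w, t (closedPoint R) = w := ⟨_, rfl⟩
  obtain ⟨φ, hφ, hφ'⟩ := exists_stalk_hom t w hw
  have htf : t ≫ f = spm (algebraMap (Y.presheaf.stalk y) R) ≫ Y.fromSpecStalk y := by
    change spm χ.toRingHom ≫ spm (algebraMap B E) ≫ hV.fromSpec = _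
    have h0 : χ.toRingHom.comp (algebraMap B E) =
        (algebraMap (Y.presheaf.stalk y) R).comp (algebraMap B (Y.presheaf.stalk y)) :=
      χ.comp_algebraMap
    rw [← Category.assoc, ← spm_comp, h0, ← hV.fromSpecStalk_eq_fromSpecStalk hyV, spm_comp,
      Category.assoc]
    rfl
  have hfy : f w = y := by
    rw [← hw]
    have h1 : (t ≫ f) (closedPoint R) = f (t (closedPoint R)) := Scheme.Hom.comp_apply _ _ _
    rw [← h1, htf]
    have h2 : (spm (algebraMap (Y.presheaf.stalk y) R) ≫ Y.fromSpecStalk y) (closedPoint R) =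
        Y.fromSpecStalk y (spm (algebraMap (Y.presheaf.stalk y) R) (closedPoint R)) :=
      Scheme.Hom.comp_apply _ _ _
    rw [h2]
    have h3 : spm (algebraMap (Y.presheaf.stalk y) R) (closedPoint R) =
        closedPoint (Y.presheaf.stalk y) := by
      have : IsLocalHom (CommRingCat.ofHom (algebraMap (Y.presheaf.stalk y) R)).hom :=
        inferInstanceAs (IsLocalHom (algebraMap (Y.presheaf.stalk y) R))
      exact Spec_closedPoint (f := CommRingCat.ofHom (algebraMap (Y.presheaf.stalk y) R))
    rw [h3]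
    exact Scheme.fromSpecStalk_closedPoint
  have hflat : φ.Flat := by
    have h1 : Flat (spm φ ≫ (Spec (CommRingCat.of E)).fromSpecStalk w) := by
      rw [hφ']
      exact Flat.SpecMap_iff.2 (hL.flat_of_etale χ)
    have h2 := flat_of_comp_mono (spm φ) ((Spec (CommRingCat.of E)).fromSpecStalk w)
    exact Flat.SpecMap_iff.1 h2
  refine ⟨Spec (CommRingCat.of E), f, hf, w, φ, hfy, ?_, hflat, hφ, ?_⟩
  · -- the residue field extension is trivial
    refine bijective_residueFieldMap_of_mono f w (ResidueField R) (ResidueField.map φ) ?_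
    have hb := Groth.Agent.S0508.result (Y.presheaf.stalk y) R
    have hq1 : resPt R ≫ t ≫ f = spm (ResidueField.map (algebraMap (Y.presheaf.stalk y) R)) ≫
        Y.fromSpecResidueField y := by
      rw [htf, ← Category.assoc, resPt_spm, Category.assoc]
      rfl
    have hq2 : resPt R ≫ t ≫ f = spm (ResidueField.map φ) ≫
        (Spec (CommRingCat.of E)).fromSpecResidueField w ≫ f := by
      have h7 : resPt R ≫ t = spm (ResidueField.map φ) ≫
          (Spec (CommRingCat.of E)).fromSpecResidueField w := by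
        rw [← hφ', ← Category.assoc, resPt_spm, Category.assoc]
        rfl
      rw [← Category.assoc, h7, Category.assoc]
    have hq3 := hq2.symm.trans hq1
    have hiso : IsIso (CommRingCat.ofHom
        (ResidueField.map (algebraMap (Y.presheaf.stalk y) R))) :=
      (ConcreteCategory.isIso_iff_bijective _).2 hb
    have hi : IsIso (spm (ResidueField.map (algebraMap (Y.presheaf.stalk y) R))) := by
      change IsIso (Spec.map _)
      infer_instance
    have hm : Mono (spm (ResidueField.map (algebraMap (Y.presheaf.stalk y) R)) ≫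
        Y.fromSpecResidueField y) :=
      @mono_comp _ _ _ _ _ _ (IsSplitMono.mono _) _ (mono_fromSpecResidueField Y y)
    exact hq3 ▸ hm
  · intro i
    obtain ⟨ψ, hψ⟩ : ∃ ψ : CommRingCat.of E ⟶ (Spec (CommRingCat.of E)).presheaf.stalk w,
        Spec.map ψ = (Spec (CommRingCat.of E)).fromSpecStalk w :=
      ⟨Spec.preimage _, Spec.map_preimage _⟩
    have h1 : φ.comp ψ.hom = χ.toRingHom := by
      rw [← spm_inj, spm_comp]
      exact (congrArg (spm φ ≫ ·) hψ).trans hφ'
    refine ⟨ψ.hom (e i), ?_⟩
    have := RingHom.congr_fun h1 (e i)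
    exact this.trans (he i)

/-- If `R` has at least `k` minimal primes, so has the local ring of some elementary étale
neighbourhood. -/
theorem exists_nbhd_minimalPrimes (k : ℕ) (hk : (k : ℕ∞) ≤ (minimalPrimes R).encard) :
    ∃ (U : Scheme.{u}) (f : U ⟶ Y) (_ : Etale f) (u : U),
      f u = y ∧ Function.Bijective (f.residueFieldMap u) ∧
        (k : ℕ∞) ≤ (minimalPrimes (U.presheaf.stalk u)).encard := by
  obtain ⟨t, ht, htk⟩ := Set.exists_subset_encard_eq hk
  have htf : t.Finite := Set.finite_of_encard_eq_coe htk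
  have := htf.to_subtype
  have hex : ∀ i : t × t, ∃ a : R, i.1 ≠ i.2 → a ∈ i.1.1 ∧ a ∉ i.2.1 := by
    rintro ⟨p, q⟩
    by_cases h : p = q
    · exact ⟨0, fun h' => (h' h).elim⟩
    · have h1 : ¬ p.1 ≤ q.1 := by
        intro hle
        apply h
        apply Subtype.ext
        exact le_antisymm hle ((ht q.2).2 ⟨(ht p.2).1.1, bot_le⟩ hle)
      obtain ⟨a, ha, ha'⟩ := Set.not_subset.1 h1
      exact ⟨a, fun _ => ⟨ha, ha'⟩⟩
  choose s hs using hex
  obtain ⟨U, f, hf, u, φ, hfu, hb, hfl, hloc, hφ⟩ := exists_nbhd y R s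
  refine ⟨U, f, hf, u, hfu, hb, ?_⟩
  have hinj : Set.InjOn (Ideal.comap φ) t := by
    intro p hp q hq hpq
    by_contra hne
    obtain ⟨h1, h2⟩ := hs (⟨p, hp⟩, ⟨q, hq⟩) (fun h => hne (congrArg Subtype.val h))
    obtain ⟨b, hb⟩ := hφ (⟨p, hp⟩, ⟨q, hq⟩)
    apply h2
    rw [← hb] at h1 ⊢
    have h3 : b ∈ Ideal.comap φ p := h1
    rw [hpq] at h3
    exact h3
  rw [← htk, ← hinj.encard_image]
  apply Set.encard_le_encard
  rintro _ ⟨p, hp, rfl⟩
  exact comap_mem_minimalPrimes φ hfl p (ht hp)

/-- The local ring has at most as many minimal primes as its henselization. -/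
theorem encard_minimalPrimes_le (A R : Type u) [CommRing A] [IsLocalRing A] [CommRing R]
    [IsLocalRing R] [Algebra A R] [IsLocalHom (algebraMap A R)] [Hensel.IsHenselization A R] :
    (minimalPrimes A).encard ≤ (minimalPrimes R).encard := by
  have := faithfullyFlat_of_isHenselization A R
  have hinj : Function.Injective (algebraMap A R) := FaithfulSMul.algebraMap_injective A R
  have h : minimalPrimes A ⊆ Ideal.comap (algebraMap A R) '' minimalPrimes R := by
    intro p hp
    obtain ⟨p', hp', h⟩ := Ideal.exists_minimalPrimes_comap_eq (I := (⊥ : Ideal R))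
      (algebraMap A R) p (by
        rw [← RingHom.ker_eq_comap_bot, (RingHom.injective_iff_ker_eq_bot _).1 hinj]
        exact hp)
    exact ⟨p', hp', h⟩
  exact (Set.encard_le_encard h).trans (Set.encard_image_le _ _)

end K624.HensSep
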