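import Mathlib.RingTheory.Localization.AtPrime.Basic
import Mathlib.RingTheory.Localization.Integral
import Mathlib.RingTheory.Ideal.MinimalPrime.Localization
import Mathlib.RingTheory.IntegralClosure.IntegrallyClosed
import Mathlib.RingTheory.Spectrum.Prime.Basic

/-!
# Integral birational ring maps from a normal ring to a reduced ring are isomorphisms
-/

set_option autoImplicit false
universe u

namespace K624.IntBirat

section

variable {A B : Type u} [CommRing A] [CommRing B] [Algebra A B]

/-- If the localization at `m` is a domain there is exactly one minimal prime contained in `m`. -/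
theorem exists_minimal (m : Ideal A) [m.IsPrime] (h : IsDomain (Localization.AtPrime m)) :
    ∃ p₀ ∈ minimalPrimes A, p₀ = RingHom.ker (algebraMap A (Localization.AtPrime m)) ∧
      ∀ p ∈ minimalPrimes A, p ≤ m → p = p₀ := by
  have hp₀ : (RingHom.ker (algebraMap A (Localization.AtPrime m))).IsPrime := RingHom.ker_isPrime _
  have key : ∀ p : Ideal A, p.IsPrime → p ≤ m → RingHom.ker (algebraMap A (Localization.AtPrime m)) ≤ p := by
    intro p hp hpm x hx
    rw [RingHom.mem_ker, IsLocalization.map_eq_zero_iff m.primeCompl] at hx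
    obtain ⟨⟨u, hu⟩, hux⟩ := hx
    have h0 : u * x ∈ p := by
      have : u * x = 0 := hux
      rw [this]
      exact zero_mem _
    exact (hp.mem_or_mem h0).resolve_left fun h => hu (hpm h)
  have hle : RingHom.ker (algebraMap A (Localization.AtPrime m)) ≤ m := by
    intro x hx
    by_contra hxm
    rw [RingHom.mem_ker, IsLocalization.map_eq_zero_iff m.primeCompl] at hx
    obtain ⟨⟨u, hu⟩, hux⟩ := hx
    have : u * x = 0 := hux
    have h2 : u * x ∈ m := by
      rw [this]
      exact zero_mem _
    rcases (inferInstance : m.IsPrime).mem_or_mem h2 with h | h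
    · exact hu h
    · exact hxm h
  refine ⟨_, ?_, rfl, ?_⟩
  · exact ⟨⟨hp₀, bot_le⟩, fun q hq hqle => key q hq.1 (hqle.trans hle)⟩
  · intro p hp hpm
    have hpp : p.IsPrime := hp.1.1
    exact le_antisymm (hp.2 ⟨hp₀, bot_le⟩ (key p hpp hpm)) (key p hpp hpm)

/-- An element of the unique minimal prime over `m` is killed by an element outside `m`. -/
theorem exists_mul_eq_zero [IsReduced B] (m : Ideal A) [m.IsPrime] (q₀ : Ideal B)
    (H : ∀ q ∈ minimalPrimes B, q.comap (algebraMap A B) ≤ m → q = q₀) (c : B) (hc : c ∈ q₀) :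
    ∃ u : A, u ∉ m ∧ algebraMap A B u * c = 0 := by
  by_contra hne
  push Not at hne
  let M : Submonoid B :=
    { carrier := {x | ∃ (u : A) (n : ℕ), u ∉ m ∧ x = algebraMap A B u * c ^ n}
      one_mem' := ⟨1, 0, fun h => (inferInstance : m.IsPrime).ne_top ((Ideal.eq_top_iff_one _).2 h), by simp⟩
      mul_mem' := by
        rintro _ _ ⟨u, n, hu, rfl⟩ ⟨v, k, hv, rfl⟩
        refine ⟨u * v, n + k, fun h => ?_, ?_⟩
        · rcases (inferInstance : m.IsPrime).mem_or_mem h with h | h
          · exact hu h
          · exact hv h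
        · rw [map_mul, pow_add]
          ring }
  have hdisj : Disjoint ((⊥ : Ideal B) : Set B) (M : Set B) := by
    rw [Set.disjoint_left]
    rintro x hx ⟨u, n, hu, hx2⟩
    have hx0 : x = 0 := hx
    have h1 : algebraMap A B u * c ^ n = 0 := by rw [← hx2, hx0]
    have h2 : (algebraMap A B u * c) ^ (n + 1) = 0 := by
      rw [mul_pow, pow_succ c, ← mul_assoc, pow_succ, mul_assoc (algebraMap A B u ^ n), h1, mul_zero, zero_mul]
    exact hne u hu (pow_eq_zero_iff (Nat.succ_ne_zero n) |>.1 h2)
  obtain ⟨Q, hQ, -, hQM⟩ := Ideal.exists_le_prime_disjoint _ M hdisj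
  obtain ⟨q, hq, hqQ⟩ := Ideal.exists_minimalPrimes_le (I := (⊥ : Ideal B)) (J := Q) bot_le
  have hq' : q ∈ minimalPrimes B := hq
  have h3 : q.comap (algebraMap A B) ≤ m := by
    intro x hx
    by_contra hxm
    exact Set.disjoint_left.1 hQM (hqQ hx) ⟨x, 0, hxm, by simp⟩
  have h4 := H q hq' h3
  rw [← h4] at hc
  exact Set.disjoint_left.1 hQM (hqQ hc) ⟨1, 1,
    fun h => (inferInstance : m.IsPrime).ne_top ((Ideal.eq_top_iff_one _).2 h), by simp⟩

/-- A fraction of elements of `A` in a domain `C` over `A` which is integral over `A` is a fraction with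
denominator outside `m`, if the localization of `A` at `m` is integrally closed. -/
theorem exists_frac {C : Type u} [CommRing C] [IsDomain C] [Algebra A C] (m : Ideal A) [m.IsPrime]
    (hd : IsDomain (Localization.AtPrime m)) (hi : IsIntegrallyClosed (Localization.AtPrime m))
    (hker : RingHom.ker (algebraMap A C) = RingHom.ker (algebraMap A (Localization.AtPrime m)))
    (hm : RingHom.ker (algebraMap A C) ≤ m)
    (x : C) (hx : IsIntegral A x) (a s : A) (hs : algebraMap A C s ≠ 0)
    (hxs : algebraMap A C s * x = algebraMap A C a) :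
    ∃ a' u : A, u ∉ m ∧ algebraMap A C u * x = algebraMap A C a' := by
  let L := FractionRing C
  let R := Localization.AtPrime m
  let K := FractionRing R
  have hunit : ∀ y : m.primeCompl, IsUnit (((algebraMap C L).comp (algebraMap A C)) y) := by
    intro y
    rw [isUnit_iff_ne_zero, RingHom.comp_apply, Ne, IsFractionRing.to_map_eq_zero_iff]
    exact fun h => y.2 (hm h)
  let ρ : R →+* L := IsLocalization.lift hunit
  have hρ : ∀ y : A, ρ (algebraMap A R y) = algebraMap C L (algebraMap A C y) := fun y =>
    IsLocalization.lift_eq hunit y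
  have hinj : Function.Injective ρ := by
    rw [injective_iff_map_eq_zero]
    intro y hy
    obtain ⟨b, t, rfl⟩ := IsLocalization.exists_mk'_eq m.primeCompl y
    rw [IsLocalization.lift_mk', Units.mul_left_eq_zero, RingHom.comp_apply,
      IsFractionRing.to_map_eq_zero_iff] at hy
    have h1 : b ∈ RingHom.ker (algebraMap A R) := by
      rw [← hker]
      exact hy
    rw [IsLocalization.mk'_eq_zero_iff]
    rw [RingHom.mem_ker, IsLocalization.map_eq_zero_iff m.primeCompl] at h1
    exact h1
  let ι : K →+* L := IsFractionRing.lift hinj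
  have hι : ∀ y : R, ι (algebraMap R K y) = ρ y := fun y => IsFractionRing.lift_algebraMap hinj y
  have hsR : algebraMap A R s ≠ 0 := by
    intro h
    apply hs
    have : s ∈ RingHom.ker (algebraMap A R) := h
    rw [← hker] at this
    exact this
  have hsK : algebraMap R K (algebraMap A R s) ≠ 0 := by
    rwa [Ne, IsFractionRing.to_map_eq_zero_iff]
  let z : K := algebraMap R K (algebraMap A R a) / algebraMap R K (algebraMap A R s)
  have hz : ι z = algebraMap C L x := by
    have h1 : ι (algebraMap R K (algebraMap A R s)) ≠ 0 := by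
      rw [hι, hρ, Ne, IsFractionRing.to_map_eq_zero_iff]
      exact hs
    rw [map_div₀, div_eq_iff h1, hι, hι, hρ, hρ, ← map_mul, mul_comm x, hxs]
  have hzi : IsIntegral R z := by
    obtain ⟨P, hP, hPx⟩ := hx
    refine ⟨P.map (algebraMap A R), hP.map _, ?_⟩
    apply ι.injective
    rw [map_zero, Polynomial.hom_eval₂, hz, Polynomial.eval₂_map]
    have h2 : (ι.comp (algebraMap R K)).comp (algebraMap A R) = (algebraMap C L).comp (algebraMap A C) := by
      ext y
      rw [RingHom.comp_apply, RingHom.comp_apply, hι, hρ]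
      rfl
    rw [h2, ← Polynomial.hom_eval₂, hPx, map_zero]
  obtain ⟨w, hw⟩ := IsIntegrallyClosed.algebraMap_eq_of_integral hzi
  obtain ⟨a', ⟨u, hu⟩, rfl⟩ := IsLocalization.exists_mk'_eq m.primeCompl w
  refine ⟨a', u, hu, ?_⟩
  apply IsFractionRing.injective C L
  rw [map_mul, ← hz, ← hw, hι, ← hρ, ← map_mul, ← hρ]
  congr 1
  exact IsLocalization.mk'_spec' R a' ⟨u, hu⟩

theorem bijective [IsReduced B] (hint : (algebraMap A B).IsIntegral)
    (hA : ∀ (m : Ideal A) [m.IsPrime], IsDomain (Localization.AtPrime m) ∧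
      IsIntegrallyClosed (Localization.AtPrime m))
    (h1 : ∀ q ∈ minimalPrimes B, q.comap (algebraMap A B) ∈ minimalPrimes A)
    (h2 : ∀ p ∈ minimalPrimes A, ∃ q ∈ minimalPrimes B, q.comap (algebraMap A B) = p)
    (h2' : ∀ q ∈ minimalPrimes B, ∀ q' ∈ minimalPrimes B,
      q.comap (algebraMap A B) = q'.comap (algebraMap A B) → q = q')
    (h3 : ∀ q ∈ minimalPrimes B, ∀ b : B, ∃ a s : A, algebraMap A B s ∉ q ∧
      algebraMap A B s * b - algebraMap A B a ∈ q) :
    Function.Bijective (algebraMap A B) := by
  constructor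
  · -- injectivity
    rw [injective_iff_map_eq_zero]
    intro x hx
    by_contra hne
    let I : Ideal A := Ideal.span {x} |>.annihilator
    have hI : I ≠ ⊤ := by
      intro h
      have : (1 : A) ∈ I := by rw [h]; trivial
      rw [Submodule.mem_annihilator_span_singleton] at this
      exact hne (by simpa using this)
    obtain ⟨m, hm, hIm⟩ := Ideal.exists_le_maximal I hI
    obtain ⟨p₀, hp₀, hk, -⟩ := exists_minimal m (hA m).1
    obtain ⟨q, hq, hqp⟩ := h2 p₀ hp₀
    have hxp : x ∈ p₀ := by
      rw [← hqp]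
      change algebraMap A B x ∈ q
      rw [hx]
      exact zero_mem _
    rw [hk, RingHom.mem_ker, IsLocalization.map_eq_zero_iff m.primeCompl] at hxp
    obtain ⟨⟨u, hu⟩, hux⟩ := hxp
    refine hu (hIm ?_)
    rw [Submodule.mem_annihilator_span_singleton]
    exact hux
  · intro b
    let I : Ideal A := (LinearMap.range (Algebra.linearMap A B)).colon {b}
    have hI : ∀ a : A, a ∈ I ↔ ∃ a' : A, algebraMap A B a' = algebraMap A B a * b := by
      intro a
      rw [Submodule.mem_colon_singleton, Algebra.smul_def]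
      exact Iff.rfl
    by_contra hb
    have hIt : I ≠ ⊤ := by
      intro h
      have : (1 : A) ∈ I := by rw [h]; trivial
      rw [hI, map_one, one_mul] at this
      exact hb this
    obtain ⟨m, hm, hIm⟩ := Ideal.exists_le_maximal I hIt
    obtain ⟨p₀, hp₀, hk, huniq⟩ := exists_minimal m (hA m).1
    obtain ⟨q, hq, hqp⟩ := h2 p₀ hp₀
    have hqprime : q.IsPrime := hq.1.1
    have hkerq : RingHom.ker (algebraMap A (B ⧸ q)) = p₀ := by
      rw [← hqp, IsScalarTower.algebraMap_eq A B (B ⧸ q), ← RingHom.comap_ker]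
      congr 1
      exact Ideal.mk_ker
    have hp₀m : p₀ ≤ m := by
      obtain ⟨p', hp', hp'm⟩ := Ideal.exists_minimalPrimes_le (I := (⊥ : Ideal A)) (J := m) bot_le
      rw [← huniq p' hp' hp'm]
      exact hp'm
    obtain ⟨a, s, hs, hsb⟩ := h3 q hq b
    obtain ⟨a', u, hu, hub⟩ := exists_frac (A := A) (C := B ⧸ q) m (hA m).1 (hA m).2 (hkerq.trans hk)
      (hkerq.le.trans hp₀m) (Ideal.Quotient.mk q b)
      (IsIntegral.map (Ideal.Quotient.mkₐ A q) (show IsIntegral A b from hint b)) a s
      (fun h => hs (Ideal.Quotient.eq_zero_iff_mem.1 h))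
      (by
        change Ideal.Quotient.mk q (algebraMap A B s) * Ideal.Quotient.mk q b =
          Ideal.Quotient.mk q (algebraMap A B a)
        rw [← map_mul, ← sub_eq_zero, ← map_sub]
        exact Ideal.Quotient.eq_zero_iff_mem.2 hsb)
    have hc : algebraMap A B u * b - algebraMap A B a' ∈ q := by
      apply Ideal.Quotient.eq_zero_iff_mem.1
      rw [map_sub, map_mul, sub_eq_zero]
      exact hub
    obtain ⟨u', hu', hu0⟩ := exists_mul_eq_zero m q (fun q' hq' hle => h2' q' hq' q hq (by
      rw [hqp]
      exact huniq _ (h1 q' hq') hle)) _ hc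
    have h5 : u' * u ∈ I := by
      rw [hI]
      refine ⟨u' * a', ?_⟩
      rw [map_mul, map_mul]
      rw [mul_sub, sub_eq_zero] at hu0
      rw [← hu0]
      ring
    rcases hm.isPrime.mem_or_mem (hIm h5) with h | h
    · exact hu' h
    · exact hu h

end

end K624.IntBirat
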