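import Groth.Agent.AlgSp.K624.IntBirat
import Groth.Agent.AlgSp.K624.StalkBC
import Mathlib.AlgebraicGeometry.Morphisms.Integral
import Mathlib.AlgebraicGeometry.Stalk
import Mathlib.AlgebraicGeometry.Morphisms.Etale

/-!
# Integral birational morphisms from a reduced scheme to a normal scheme are isomorphisms
-/

set_option autoImplicit false
set_option backward.isDefEq.respectTransparency false
set_option backward.isDefEq.respectTransparency.types false
universe u
open CategoryTheory CategoryTheory.Limits AlgebraicGeometry Topology TopologicalSpace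

namespace K624.IntBiratSch

/-- `x` is a generic point of an irreducible component. -/
def Gen {X : Scheme.{u}} (x : X) : Prop := ∀ x' : X, x' ⤳ x → x' = x

section Spec

variable {A B : CommRingCat.{u}} (φ : A ⟶ B)

theorem gen_iff (x : Spec A) : Gen x ↔ x.asIdeal ∈ minimalPrimes A := by
  constructor
  · intro h
    obtain ⟨p, hp, hle⟩ := Ideal.exists_minimalPrimes_le (I := (⊥ : Ideal A)) (J := x.asIdeal) bot_le
    have h1 := h (⟨p, hp.1.1⟩ : PrimeSpectrum A) ((PrimeSpectrum.le_iff_specializes _ _).1 hle)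
    rw [← h1]
    exact hp
  · intro h x' hx'
    have h1 := (PrimeSpectrum.le_iff_specializes _ _).2 hx'
    exact PrimeSpectrum.ext (le_antisymm h1 (h.2 ⟨x'.2, bot_le⟩ h1))

/-- The canonical map from the ring to the stalk. -/
noncomputable def ts (x : Spec A) : A ⟶ (Spec A).presheaf.stalk x :=
  (Scheme.ΓSpecIso A).inv ≫ (Spec A).presheaf.germ ⊤ x trivial

theorem toStalk_stalkMap (x : Spec B) :
    ts (Spec.map φ x) ≫ (Spec.map φ).stalkMap x = φ ≫ ts x := by
  apply Spec.map_injective
  rw [Spec.map_comp, Spec.map_comp]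
  have h1 := Scheme.SpecMap_stalkMap_fromSpecStalk (f := Spec.map φ) (x := x)
  rw [Spec.fromSpecStalk_eq, Spec.fromSpecStalk_eq] at h1
  exact h1

theorem isLocalization (x : Spec A) :
    @IsLocalization.AtPrime A _ ((Spec A).presheaf.stalk x) _ (ts x).hom.toAlgebra x.asIdeal x.2 :=
  StructureSheaf.IsLocalization.to_stalk A x

theorem isIso_spec [IsReduced (Spec B)] (hint : φ.hom.IsIntegral)
    (hA : ∀ x : Spec A, IsDomain ((Spec A).presheaf.stalk x) ∧ IsIntegrallyClosed ((Spec A).presheaf.stalk x))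
    (h1 : ∀ x : Spec B, Gen x → Gen (Spec.map φ x))
    (h2 : ∀ y : Spec A, Gen y → ∃ x : Spec B, Gen x ∧ Spec.map φ x = y)
    (h2' : ∀ x x' : Spec B, Gen x → Gen x' → Spec.map φ x = Spec.map φ x' → x = x')
    (h3 : ∀ x : Spec B, Gen x → IsIso ((Spec.map φ).stalkMap x)) : IsIso (Spec.map φ) := by
  have : _root_.IsReduced B := by
    have : _root_.IsReduced Γ(Spec B, ⊤) := inferInstance
    exact isReduced_of_injective (Scheme.ΓSpecIso B).inv.hom
      (ConcreteCategory.bijective_of_isIso (Scheme.ΓSpecIso B).inv).1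
  rw [isIso_SpecMap_iff]
  algebraize [φ.hom]
  refine K624.IntBirat.bijective (A := A) (B := B) hint ?_ ?_ ?_ ?_ ?_
  · intro m hm
    obtain ⟨h4, h5⟩ := hA (⟨m, hm⟩ : PrimeSpectrum A)
    algebraize [(ts (⟨m, hm⟩ : PrimeSpectrum A) : A ⟶ _).hom]
    have : IsLocalization.AtPrime ((Spec A).presheaf.stalk (⟨m, hm⟩ : PrimeSpectrum A)) m :=
      isLocalization (⟨m, hm⟩ : PrimeSpectrum A)
    let e := IsLocalization.algEquiv m.primeCompl
      ((Spec A).presheaf.stalk (⟨m, hm⟩ : PrimeSpectrum A)) (Localization.AtPrime m)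
    exact ⟨e.symm.toMulEquiv.isDomain, IsIntegrallyClosed.of_equiv e.toRingEquiv⟩
  · intro q hq
    exact (gen_iff _).1 (h1 (⟨q, hq.1.1⟩ : PrimeSpectrum B) ((gen_iff _).2 hq))
  · intro p hp
    obtain ⟨x, hx, hxp⟩ := h2 (⟨p, hp.1.1⟩ : PrimeSpectrum A) ((gen_iff _).2 hp)
    exact ⟨x.asIdeal, (gen_iff _).1 hx, congrArg PrimeSpectrum.asIdeal hxp⟩
  · intro q hq q' hq' h
    exact congrArg PrimeSpectrum.asIdeal (h2' (⟨q, hq.1.1⟩ : PrimeSpectrum B) (⟨q', hq'.1.1⟩ : PrimeSpectrum B)
      ((gen_iff _).2 hq) ((gen_iff _).2 hq') (PrimeSpectrum.ext h))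
  · intro q hq b
    let x : Spec B := (⟨q, hq.1.1⟩ : PrimeSpectrum B)
    have := h3 x ((gen_iff _).2 hq)
    obtain ⟨z, hz⟩ := (ConcreteCategory.bijective_of_isIso ((Spec.map φ).stalkMap x)).2 ((ts x).hom b)
    let y : Spec A := Spec.map φ x
    algebraize [(ts y).hom]
    have := isLocalization y
    have hyp : y.asIdeal.IsPrime := y.2
    obtain ⟨a, ⟨s, hs⟩, hzs⟩ := IsLocalization.exists_mk'_eq y.asIdeal.primeCompl z
    refine ⟨a, s, hs, ?_⟩
    have h4 : (ts y).hom s * z = (ts y).hom a := by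
      rw [← hzs]
      exact IsLocalization.mk'_spec' _ a ⟨s, hs⟩
    have h5 := congrArg ((Spec.map φ).stalkMap x).hom h4
    have h6 : ∀ c : A, ((Spec.map φ).stalkMap x).hom ((ts y).hom c) = (ts x).hom (φ.hom c) := fun c =>
      congrArg (fun g : A ⟶ (Spec B).presheaf.stalk x => g.hom c) (toStalk_stalkMap φ x)
    rw [map_mul, h6, h6] at h5
    have h7 : ((Spec.map φ).stalkMap x).hom z = (ts x).hom b := hz
    rw [h7, ← map_mul, ← sub_eq_zero, ← map_sub] at h5
    algebraize [(ts x).hom]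
    have := isLocalization x
    have hqp : x.asIdeal.IsPrime := x.2
    obtain ⟨⟨t, ht⟩, htx⟩ := (IsLocalization.map_eq_zero_iff x.asIdeal.primeCompl
      ((Spec B).presheaf.stalk x) _).1 h5
    have h8 : t * (φ.hom s * b - φ.hom a) ∈ x.asIdeal := by
      have : t * (φ.hom s * b - φ.hom a) = 0 := htx
      rw [this]
      exact zero_mem _
    exact (hqp.mem_or_mem h8).resolve_left ht

end Spec

theorem gen_open_iff {U X : Scheme.{u}} (i : U ⟶ X) [IsOpenImmersion i] (x : U) : Gen x ↔ Gen (i x) := by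
  constructor
  · intro h y hy
    obtain ⟨y', rfl⟩ : y ∈ Set.range i := hy.mem_open i.isOpenEmbedding.isOpen_range ⟨x, rfl⟩
    rw [h y' ((i.isOpenEmbedding.toIsInducing.specializes_iff).1 hy)]
  · intro h y hy
    exact i.isOpenEmbedding.injective (h _ (hy.map i.continuous))

section Glob

variable {T V : Scheme.{u}} (q : T ⟶ V) [IsIntegralHom q] [IsReduced T]
    (hA : ∀ x : V, IsDomain (V.presheaf.stalk x) ∧ IsIntegrallyClosed (V.presheaf.stalk x))
    (h1 : ∀ x : T, Gen x → Gen (q x))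
    (h2 : ∀ y : V, Gen y → ∃ x : T, Gen x ∧ q x = y)
    (h2' : ∀ x x' : T, Gen x → Gen x' → q x = q x' → x = x')
    (h3 : ∀ x : T, Gen x → IsIso (q.stalkMap x))

include hA h1 h2 h2' h3

theorem isIso_aux {A B : CommRingCat.{u}} (j : Spec A ⟶ V) [IsOpenImmersion j] (φ : A ⟶ B) (i : Spec B ⟶ T)
    (sq : IsPullback i (Spec.map φ) q j) : IsIso (Spec.map φ) := by
  have hi : IsOpenImmersion i := MorphismProperty.of_isPullback sq.flip ‹_›
  have hint : IsIntegralHom (Spec.map φ) := MorphismProperty.of_isPullback sq ‹_›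
  have hred : IsReduced (Spec B) := isReduced_of_isOpenImmersion i
  have hw : ∀ x : Spec B, j (Spec.map φ x) = q (i x) := fun x => by
    rw [← Scheme.Hom.comp_apply, ← sq.w, Scheme.Hom.comp_apply]
  refine isIso_spec φ (IsIntegralHom.SpecMap_iff.1 hint) ?_ ?_ ?_ ?_ ?_
  · intro x
    obtain ⟨h4, h5⟩ := hA (j x)
    let e := (asIso (j.stalkMap x)).commRingCatIsoToRingEquiv
    exact ⟨e.symm.toMulEquiv.isDomain, IsIntegrallyClosed.of_equiv e⟩
  · intro x hx
    rw [gen_open_iff j, hw]
    exact h1 _ ((gen_open_iff i x).1 hx)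
  · intro y hy
    obtain ⟨x, hx, hxy⟩ := h2 _ ((gen_open_iff j y).1 hy)
    obtain ⟨z, rfl, hz⟩ := Scheme.exists_preimage_of_isPullback sq x y hxy
    exact ⟨z, (gen_open_iff i z).2 hx, hz⟩
  · intro x x' hx hx' h
    apply i.isOpenEmbedding.injective
    apply h2' _ _ ((gen_open_iff i x).1 hx) ((gen_open_iff i x').1 hx')
    rw [← hw, ← hw, h]
  · intro x hx
    have := h3 _ ((gen_open_iff i x).1 hx)
    exact K624.StalkBC.isIso_stalkMap sq x

/-- Integral morphisms from a reduced scheme to a normal scheme, bijective on generic points and inducing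
isomorphisms of the local rings there, are isomorphisms. -/
theorem isIso : IsIso q := by
  change MorphismProperty.isomorphisms Scheme.{u} q
  rw [IsZariskiLocalAtTarget.iff_of_openCover (P := MorphismProperty.isomorphisms Scheme.{u}) V.affineCover]
  intro j
  change IsIso (pullback.snd q (V.affineCover.f j))
  have sq0 := IsPullback.of_hasPullback q (V.affineCover.f j)
  have haff : IsAffine (pullback q (V.affineCover.f j)) := isAffine_of_isAffineHom (pullback.snd q (V.affineCover.f j))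
  let e := (pullback q (V.affineCover.f j)).isoSpec
  obtain ⟨φ, hφ⟩ := Spec.map_surjective (e.inv ≫ pullback.snd q (V.affineCover.f j))
  have sq1 : IsPullback (e.inv ≫ pullback.fst q (V.affineCover.f j)) (Spec.map φ) q (V.affineCover.f j) :=
    sq0.of_iso' e.symm (Iso.refl _) (Iso.refl _) (Iso.refl _) (by simp) (by simp [hφ]) (by simp) (by simp)
  have h4 := isIso_aux q hA h1 h2 h2' h3 _ φ _ sq1
  have h5 : pullback.snd q (V.affineCover.f j) = e.hom ≫ Spec.map φ := by rw [hφ, Iso.hom_inv_id_assoc]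
  rw [h5]
  infer_instance

end Glob

end K624.IntBiratSch
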