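import Groth.Agent.AlgSp.K624.Birat
import Groth.Agent.AlgSp.K624.IntBiratSch
import Groth.Agent.AlgSp.K613.Cover
import Groth.Agent.AlgSp.K617.FinLoc
import Groth.Agent.AlgSp.K638.RedSp

/-!
# Integral birational morphisms onto normal spaces
-/

set_option autoImplicit false
set_option backward.isDefEq.respectTransparency false
set_option backward.isDefEq.respectTransparency.types false
universe u
open CategoryTheory CategoryTheory.Limits AlgebraicGeometry Topology TopologicalSpace

namespace K624.IntIso

open AlgSp K621.Generic W4stk3decentspacesp2 K624.Birat K624.IntBiratSch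

variable {S : Scheme.{u}}

theorem gen_iff {T : Over S} (t : ↥T.left) :
    Points.ofPt (𝟙 ((yon S).obj T)) t ∈ genericPoints (Points ((yon S).obj T)) ↔ Gen t := by
  let Ts : Space S := ⟨(yon S).obj T, IsAlgSpace.yon_obj _⟩
  rw [mem_genericPoints_iff (X := Ts) (K620.Dec.isDecent_yon _)]
  exact codimZero_iff (IsAlgSpace.yon_obj T) ((RepWith (S := S) @Etale).id_mem _)

theorem map_ofPt_id {T V : Over S} (q : T ⟶ V) (t : ↥T.left) :
    Points.map ((yon S).map q) (Points.ofPt (𝟙 _) t) = Points.ofPt (𝟙 _) (q.left t) := by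
  rw [Points.map_ofPt, Category.id_comp]
  have h := K629.Basic.ofPt_comp (F := (yon S).obj V) q (𝟙 _) t
  rwa [Category.comp_id] at h

/-- Birational morphisms between schemes. -/
theorem stalkIso_of_isBirational {T V : Over S} (q : T ⟶ V) (h : IsBirational ((yon S).map q)) (t : ↥T.left)
    (ht : Gen t) : IsIso (q.left.stalkMap t) := by
  obtain ⟨U, V₀, a, b₀, g, u, ha, hb₀, w, hu, hg⟩ := h.stalkIso _ ((gen_iff t).2 ht)
  obtain ⟨a, rfl⟩ := (yon S).map_surjective a
  obtain ⟨b₀, rfl⟩ := (yon S).map_surjective b₀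
  have ha' : IsOpenImmersion a.left := (repWith_yon_map_iff _ _).1 ha
  have hb' : IsOpenImmersion b₀.left := (repWith_yon_map_iff _ _).1 hb₀
  have hut : a.left u = t := by
    apply K608.Pts.ofPt_yon_injective
    rw [← hu]
    have h := K629.Basic.ofPt_comp (F := (yon S).obj T) a (𝟙 _) u
    rw [Category.comp_id] at h
    exact h.symm
  subst hut
  have w' : a ≫ q = g ≫ b₀ := (yon S).map_injective (by rw [Functor.map_comp, w, Functor.map_comp])
  have w2 : a.left ≫ q.left = g.left ≫ b₀.left := by rw [← Over.comp_left, w', Over.comp_left]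
  have h1 : IsIso ((a.left ≫ q.left).stalkMap u) := by
    rw [w2, Scheme.Hom.stalkMap_comp]
    infer_instance
  rw [Scheme.Hom.stalkMap_comp] at h1
  exact IsIso.of_isIso_comp_right _ (a.left.stalkMap u)

theorem isIso {X Y : Space S} (f : X ⟶ Y) (hX : IsDecent X.obj) (hY : IsDecent Y.obj)
    (hi : IsIntegralMor f.hom) (hf : IsBirational f.hom)
    (hYn : EtaleLocally (fun T => ∀ t : ↥T, IsDomain ↥(T.presheaf.stalk t) ∧
      IsIntegrallyClosed ↥(T.presheaf.stalk t)) Y.obj)
    (hXr : EtaleLocally (fun T => IsReduced T) X.obj) : IsIso f.hom := by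
  obtain ⟨V, b, hb, hbs, hV⟩ := hYn
  have hi' := K617.FinLoc.isIntegralMor_iff.1 hi
  obtain ⟨T, q, fst, sq⟩ := hi'.rep b
  have hq : IsIntegralHom q.left := hi'.property _ _ _ sq
  have hfst : RepWith @Etale fst := repWith_fst f b hb fst ((yon S).map q) sq
  have hT : IsReduced T.left := K638.RedSp.isReduced_of_etaleLocally hXr hfst
  have hbir := isBirational_snd f hX hY b hb fst ((yon S).map q) sq hf
  have key : IsIso q.left := by
    refine K624.IntBiratSch.isIso q.left hV ?_ ?_ ?_ ?_
    · intro t ht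
      rw [← gen_iff] at ht ⊢
      rw [← map_ofPt_id]
      exact hbir.bijOn.mapsTo ht
    · intro v hv
      obtain ⟨p, hp, hpv⟩ := hbir.bijOn.surjOn ((gen_iff v).2 hv)
      obtain ⟨t, rfl⟩ := K608.Pts.ofPt_surjective_yon p
      rw [map_ofPt_id] at hpv
      exact ⟨t, (gen_iff t).1 hp, K608.Pts.ofPt_yon_injective hpv⟩
    · intro t t' ht ht' h
      apply K608.Pts.ofPt_yon_injective
      apply hbir.bijOn.injOn ((gen_iff t).2 ht) ((gen_iff t').2 ht')
      rw [map_ofPt_id, map_ofPt_id, h]
    · intro t ht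
      exact stalkIso_of_isBirational q hbir t ht
  have : IsIso q := by
    have : IsIso ((Over.forget S).map q) := key
    exact isIso_of_reflects_iso q (Over.forget S)
  have h2 : IsIso ((yon S).map q) := inferInstance
  exact (K613.Cover.ESurj.of_repWith hb hbs).fSurj.isIso sq

end K624.IntIso
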