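import Groth.Agent.S10007
import Groth.Agent.AlgSp.K596.QC
import Groth.Agent.AlgSp.K604.LimSepY
import Groth.Agent.AlgSp.K605.LfpLim
import Groth.Agent.AlgSp.K605.LimImg
import Groth.Agent.AlgSp.K605.ImmMain
import Groth.Agent.AlgSp.K613.Chart
import Groth.Agent.AlgSp.K618.OpenSurj

/-!
# Limits over the base: if the limit base change is a scheme then so is one of the stages

* `exists_stage_rep`: cofiltered systems of affine schemes over the base.
* `IdealSys`: the system `Spec (A / I)` over a chain of ideals.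
-/

set_option autoImplicit false
set_option backward.isDefEq.respectTransparency false
set_option backward.isDefEq.respectTransparency.types false
universe u
open CategoryTheory CategoryTheory.Limits AlgebraicGeometry Topology TopologicalSpace Opposite

namespace K624.LimBase

open AlgSp

variable {S : Scheme.{u}}

theorem hom_ext_id {F : Sp S} (a b : F ⟶ (yon S).obj (Over.mk (𝟙 S))) : a = b := by
  have h : IsTerminal ((yon S).obj (Over.mk (𝟙 S))) := Over.mkIdTerminal.isTerminalObj (yon S) _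
  exact h.hom_ext a b

theorem exists_stage_rep [QuasiSeparatedSpace ↥S] {J : Type u} [SmallCategory J] [IsCofiltered J]
    (B : J ⥤ Over S) (hB : ∀ j, IsAffine (B.obj j).left) {c : Cone B} (hc : IsLimit c) {X : Sp S}
    (hX : IsAlgSpace X) (q : X ⟶ (yon S).obj (Over.mk (𝟙 S))) (hqc : IsQuasiCompactMor q)
    (hqs : IsQuasiSeparatedMor q) {P : Sp S} {fst : P ⟶ X} {snd : P ⟶ (yon S).obj c.pt}
    {t : (yon S).obj c.pt ⟶ (yon S).obj (Over.mk (𝟙 S))} (sq : IsPullback fst snd q t)
    (hP : P.obj.IsRepresentable) :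
    ∃ j, ∀ (Q : Sp S) (fst' : Q ⟶ X) (snd' : Q ⟶ (yon S).obj (B.obj j))
      (t' : (yon S).obj (B.obj j) ⟶ (yon S).obj (Over.mk (𝟙 S))), IsPullback fst' snd' q t' →
      Q.obj.IsRepresentable := by
  have := IsCofiltered.isConnected J
  let D : J ⥤ Sp S := B ⋙ yon S
  let z : ∀ j, D.obj j ⟶ (yon S).obj (Over.mk (𝟙 S)) := fun j => (yon S).map (Over.mkIdTerminal.from _)
  obtain ⟨D', α, β, c', hc', a, b, hsq, hα, hP', -, -⟩ := K604.LimSepY.exists_bc_system q z
    (fun i j φ => hom_ext_id _ _) (isLimitOfPreserves (yon S) hc) t (fun i => hom_ext_id _ _)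
  have hD' : ∀ i, IsAlgSpace (D'.obj i) := fun i =>
    K613.Chart.isAlgSpace_of_isPullback (IsAlgSpace.yon_obj _).diag hX (IsAlgSpace.yon_obj _) (hsq i)
  have hDa : ∀ (i j : J) (φ : i ⟶ j), IsAffineMor (D'.map φ) := by
    intro i j φ
    have := hB i
    have := hB j
    exact K605.LimImg.isAffineMor_of_isPullback (K605.LfpLim.isAffineMor_yon_map (B.map φ)) (hα φ).flip
  have hDc : ∀ i, IsQuasiCompactSp (D'.obj i) := fun i => by
    have := hB i
    exact hqc (IsAlgSpace.yon_obj _) (K596.QC.isQuasiCompactSp_yon (B.obj i)) _ _ _ (hsq i)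
  have hDs : ∀ i, IsQuasiSeparatedSp (D'.obj i) := fun i => by
    have := hB i
    refine K605.ImmMain.isQuasiSeparatedSp_of_mor (f := α.app i) ?_ (K605.LfpLim.isQuasiSeparatedSp_yon)
    exact K613.Diag.repWith_diagonal_of_isPullback hqs (hsq i)
  have hrep : c'.pt.obj.IsRepresentable := by
    refine K618.OpenSurj.isRepresentable_of_iso ?_ hP
    exact sq.isoIsPullback _ _ hP'
  obtain ⟨j, hj⟩ := Groth.Agent.S10007.result S D' hD' hDa hDc hDs c' hc' hrep
  refine ⟨j, fun Q fst' snd' t' hQ => ?_⟩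
  have ht : t' = z j := hom_ext_id _ _
  subst ht
  exact K618.OpenSurj.isRepresentable_of_iso ((hsq j).isoIsPullback _ _ hQ) hj

/-! ## The system `Spec (A / I)` over a chain of ideals -/

section Ideals

variable (A : CommRingCat.{u})

/-- `Spec (A / I)` over `Spec A`. -/
noncomputable abbrev cl (I : Ideal A) : Over (Spec A) := Over.mk (Spec.map (CommRingCat.ofHom (Ideal.Quotient.mk I)))

variable {A}

instance (I : Ideal A) : IsAffine (cl A I).left := inferInstanceAs (IsAffine (Spec _))

instance mono_cl (I : Ideal A) : Mono (Spec.map (CommRingCat.ofHom (Ideal.Quotient.mk I))) := by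
  have : IsClosedImmersion (Spec.map (CommRingCat.ofHom (Ideal.Quotient.mk I))) :=
    IsClosedImmersion.spec_of_surjective _ Ideal.Quotient.mk_surjective
  infer_instance

theorem hom_ext_cl {T : Over (Spec A)} {I : Ideal A} (f g : T ⟶ cl A I) : f = g := by
  ext1
  rw [← cancel_mono (Spec.map (CommRingCat.ofHom (Ideal.Quotient.mk I)))]
  exact (Over.w f).trans (Over.w g).symm

/-- The ring homomorphism of global functions. -/
noncomputable def gm (T : Over (Spec A)) : A ⟶ Γ(T.left, ⊤) := (Scheme.ΓSpecIso A).inv ≫ T.hom.appTop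

theorem toSpecΓ_gm (T : Over (Spec A)) : T.left.toSpecΓ ≫ Spec.map (gm T) = T.hom := by
  rw [gm, Spec.map_comp, ← Category.assoc, ← Scheme.toSpecΓ_naturality, Category.assoc]
  have : (Spec A).toSpecΓ ≫ Spec.map (Scheme.ΓSpecIso A).inv = 𝟙 _ := by
    rw [toSpecΓ_SpecMap_ΓSpecIso_inv]
  rw [this]
  exact Category.comp_id _

theorem nonempty_hom_of_le {T : Over (Spec A)} {I : Ideal A} (h : I ≤ RingHom.ker (gm T).hom) :
    Nonempty (T ⟶ cl A I) := by
  refine ⟨Over.homMk (T.left.toSpecΓ ≫ Spec.map (CommRingCat.ofHom (Ideal.Quotient.lift I (gm T).hom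
    fun a ha => h ha))) ?_⟩
  change (T.left.toSpecΓ ≫ Spec.map _) ≫ Spec.map _ = T.hom
  rw [Category.assoc, ← Spec.map_comp, ← CommRingCat.ofHom_comp, Ideal.Quotient.lift_comp_mk]
  exact toSpecΓ_gm T

theorem le_of_hom {T : Over (Spec A)} {I : Ideal A} (f : T ⟶ cl A I) : I ≤ RingHom.ker (gm T).hom := by
  intro a ha
  rw [RingHom.mem_ker]
  have h1 : gm T = CommRingCat.ofHom (Ideal.Quotient.mk I) ≫ (Scheme.ΓSpecIso _).inv ≫ f.left.appTop := by
    have h2 := Over.w f
    rw [gm, ← h2]
    change (Scheme.ΓSpecIso A).inv ≫ (f.left ≫ Spec.map _).appTop = _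
    rw [Scheme.Hom.comp_appTop, ← Category.assoc, ← Category.assoc]
    congr 1
    exact (Scheme.ΓSpecIso_inv_naturality _).symm
  rw [h1]
  have h3 : (Ideal.Quotient.mk I) a = 0 := Ideal.Quotient.eq_zero_iff_mem.2 ha
  change ((Scheme.ΓSpecIso _).inv ≫ f.left.appTop).hom ((Ideal.Quotient.mk I) a) = 0
  rw [h3, map_zero]

/-- The system over a chain. -/
noncomputable def sys (C : Set (Ideal A)) : (↥C)ᵒᵖ ⥤ Over (Spec A) where
  obj I := cl A I.unop.1
  map {I I'} f := Over.homMk (Spec.map (CommRingCat.ofHom (Ideal.Quotient.factor (leOfHom f.unop)))) (by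
    change Spec.map _ ≫ Spec.map _ = Spec.map _
    rw [← Spec.map_comp, ← CommRingCat.ofHom_comp, Ideal.Quotient.factor_comp_mk])
  map_id _ := hom_ext_cl _ _
  map_comp _ _ := hom_ext_cl _ _

/-- The limit cone. -/
noncomputable def cone (C : Set (Ideal A)) : Cone (sys C) where
  pt := cl A (sSup C)
  π :=
    { app := fun I => Over.homMk (Spec.map (CommRingCat.ofHom (Ideal.Quotient.factor (le_sSup I.unop.2)))) (by
        change Spec.map _ ≫ Spec.map _ = Spec.map _
        rw [← Spec.map_comp, ← CommRingCat.ofHom_comp, Ideal.Quotient.factor_comp_mk])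
      naturality := fun _ _ _ => hom_ext_cl _ _ }

noncomputable def isLimitCone (C : Set (Ideal A)) : IsLimit (cone C) where
  lift s := (nonempty_hom_of_le (T := s.pt) (I := sSup C) (sSup_le fun I hI => le_of_hom (s.π.app (op ⟨I, hI⟩)))).some
  fac _ _ := hom_ext_cl _ _
  uniq _ _ _ := hom_ext_cl _ _

end Ideals

end K624.LimBase
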