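import Groth.Agent.AlgSp.K624.LimBase
import Groth.Agent.AlgSp.K624.IntBiratSch
import Groth.Agent.CurvSt.K902.SliceMor
import Groth.Agent.AlgSp.K610.SchLocus
import Groth.Agent.AlgSp.K629.Basic

/-!
# Being a scheme is local on the base in the sense of local rings

* `exists_stage_rep'`: `exists_stage_rep` over an arbitrary base `S'`, for systems of affine schemes over an open
  (or any) quasi-separated `S` over `S'`.
* `locSys`: the system of basic open neighbourhoods of a point of `Spec A`.
* `exists_open`: if `X x Spec O_{S,s}` is a scheme then so is `X x U` for an open neighbourhood `U` of `s`.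
-/

set_option autoImplicit false
set_option backward.isDefEq.respectTransparency false
set_option backward.isDefEq.respectTransparency.types false
universe u
open CategoryTheory CategoryTheory.Limits AlgebraicGeometry Topology TopologicalSpace Opposite

namespace K624.LimBase2

open AlgSp K595 K595.ChBase K902.Slice K624.LimBase

section Stage

variable {S S' : Scheme.{u}} (g : S ⟶ S')

theorem exists_model {X : Sp S'} (q : X ⟶ (yon S').obj (Over.mk (𝟙 S'))) :
    ∃ (Z₀ : Sp S) (z₀ : Z₀ ⟶ (yon S).obj (Over.mk (𝟙 S))),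
      (IsQuasiCompactMor q → IsQuasiCompactMor z₀) ∧ (IsQuasiSeparatedMor q → IsQuasiSeparatedMor z₀) ∧
      (IsAlgSpace X → IsAlgSpace Z₀) ∧
      ∀ (T : Over S) (P₀ : Sp S) (a : P₀ ⟶ Z₀) (b : P₀ ⟶ (yon S).obj T)
        (m : (yon S).obj T ⟶ (yon S).obj (Over.mk (𝟙 S))), IsPullback a b z₀ m →
        ∃ (fst : (L g).obj P₀ ⟶ X) (snd : (L g).obj P₀ ⟶ (yon S').obj ((Over.map g).obj T))
          (t : (yon S').obj ((Over.map g).obj T) ⟶ (yon S').obj (Over.mk (𝟙 S'))), IsPullback fst snd q t := by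
  let t0 : (yon S').obj ((Over.map g).obj (Over.mk (𝟙 S))) ⟶ (yon S').obj (Over.mk (𝟙 S')) :=
    (yon S').map (Over.mkIdTerminal.from _)
  have sq0 := IsPullback.of_hasPullback q t0
  obtain ⟨Z₀, e, z₀, he⟩ := exists_lift_obj (g := g) (pullback.snd q t0 ≫ yonHom (Over.mk (𝟙 S)))
  have sq1 : IsPullback (e.hom ≫ pullback.fst q t0) ((L g).map z₀) q (inv (yonHom (Over.mk (𝟙 S))) ≫ t0) := by
    refine IsPullback.of_iso sq0 e.symm (Iso.refl _) (asIso (yonHom (Over.mk (𝟙 S)))) (Iso.refl _) ?_ ?_ ?_ ?_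
    · simp
    · rw [← he]
      simp
    · simp
    · simp
  refine ⟨Z₀, z₀, ?_, ?_, ?_, ?_⟩
  · intro hq
    rw [← isQuasiCompactMor_L_iff (g := g)]
    intro Z Z' hZ hZq w fst snd sq
    exact hq hZ hZq _ _ _ (sq.paste_horiz sq1)
  · intro hq
    rw [← isQuasiSeparatedMor_L_iff (g := g)]
    exact K613.Diag.repWith_diagonal_of_isPullback hq sq1
  · intro hX
    rw [← isAlgSpace_L_iff (g := g)]
    exact K613.Chart.isAlgSpace_of_isPullback (IsAlgSpace.yon_obj _).diag hX
      (isAlgSpace_L (IsAlgSpace.yon_obj _)) sq1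
  · intro T P₀ a b m sq
    have sq2 := (isPullback_L (g := g) sq)
    have sq3 : IsPullback ((L g).map a) ((L g).map b ≫ inv (yonHom T)) ((L g).map z₀)
        (yonHom T ≫ (L g).map m) := by
      refine IsPullback.of_iso sq2 (Iso.refl _) (Iso.refl _) (asIso (yonHom T)).symm (Iso.refl _) ?_ ?_ ?_ ?_
      · simp
      · simp
      · simp
      · simp
    exact ⟨_, _, _, sq3.paste_horiz sq1⟩

end Stage

end K624.LimBase2
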