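import Groth.Agent.AlgSp.K624.LocSys

/-!
# Being a scheme can be checked on the local rings of the base
-/

set_option autoImplicit false
set_option backward.isDefEq.respectTransparency false
set_option backward.isDefEq.respectTransparency.types false
universe u
open CategoryTheory CategoryTheory.Limits AlgebraicGeometry Topology TopologicalSpace Opposite

namespace K624.LocRep

open AlgSp K595 K595.ChBase K902.Slice K624.LimBase K624.LimBase2 K624.LocSys

variable {S' : Scheme.{u}}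

theorem exists_open_aux {A : CommRingCat.{u}} (g : Spec A ⟶ S') [IsOpenImmersion g] (y : Spec A) {X : Sp S'}
    (hX : IsAlgSpace X) (q : X ⟶ (yon S').obj (Over.mk (𝟙 S'))) (hqc : IsQuasiCompactMor q)
    (hqs : IsQuasiSeparatedMor q)
    (h : ∀ (P : Sp S') (fst : P ⟶ X) (snd : P ⟶ (yon S').obj (Over.mk (S'.fromSpecStalk (g y))))
      (t : (yon S').obj (Over.mk (S'.fromSpecStalk (g y))) ⟶ (yon S').obj (Over.mk (𝟙 S'))),
      IsPullback fst snd q t → P.obj.IsRepresentable) :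
    ∃ (n : Nb y) (Q : Sp S') (fst : Q ⟶ X) (snd : Q ⟶ (yon S').obj ((Over.map g).obj n.O))
      (t : (yon S').obj ((Over.map g).obj n.O) ⟶ (yon S').obj (Over.mk (𝟙 S'))),
      IsPullback fst snd q t ∧ Q.obj.IsRepresentable := by
  obtain ⟨Z₀, z₀, h1, h2, h3, h4⟩ := exists_model g q
  let e : (Over.map g).obj (Over.mk ((Spec A).fromSpecStalk y)) ≅ Over.mk (S'.fromSpecStalk (g y)) :=
    Over.isoMk (Scheme.Spec.mapIso (asIso (g.stalkMap y)).op) (Scheme.SpecMap_stalkMap_fromSpecStalk g)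
  let m₀ : (yon (Spec A)).obj (cone y).pt ⟶ (yon (Spec A)).obj (Over.mk (𝟙 (Spec A))) :=
    (yon (Spec A)).map (Over.mkIdTerminal.from _)
  have sq := IsPullback.of_hasPullback z₀ m₀
  obtain ⟨j, hj⟩ := exists_stage_rep (sys y) (fun n => n.isAffine) (isLimit y) (h3 hX) z₀ (h1 hqc) (h2 hqs) sq (by
    obtain ⟨fst, snd, t, sq'⟩ := h4 _ _ _ _ _ sq
    rw [← isRepresentable_L_iff (g := g)]
    refine h _ fst (snd ≫ (yon S').map e.hom) ((yon S').map e.inv ≫ t) ?_
    refine IsPullback.of_iso sq' (Iso.refl _) (Iso.refl _) ((yon S').mapIso e) (Iso.refl _) ?_ ?_ ?_ ?_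
    · simp
    · simp
    · simp
    · exact hom_ext_id _ _)
  let m₁ : (yon (Spec A)).obj j.O ⟶ (yon (Spec A)).obj (Over.mk (𝟙 (Spec A))) :=
    (yon (Spec A)).map (Over.mkIdTerminal.from _)
  have sq1 := IsPullback.of_hasPullback z₀ m₁
  have h5 := hj _ _ _ _ sq1
  obtain ⟨fst, snd, t, sq'⟩ := h4 _ _ _ _ _ sq1
  exact ⟨j, _, fst, snd, t, sq', (isRepresentable_L_iff (g := g) _).2 h5⟩

/-- **Stacks, 07SM-like.** If `X x Spec O_{S, s}` is a scheme then so is `X x U` for some open `U` containing `s`. -/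
theorem exists_open (s : S') {X : Sp S'}
    (hX : IsAlgSpace X) (q : X ⟶ (yon S').obj (Over.mk (𝟙 S'))) (hqc : IsQuasiCompactMor q)
    (hqs : IsQuasiSeparatedMor q)
    (h : ∀ (P : Sp S') (fst : P ⟶ X) (snd : P ⟶ (yon S').obj (Over.mk (S'.fromSpecStalk s)))
      (t : (yon S').obj (Over.mk (S'.fromSpecStalk s)) ⟶ (yon S').obj (Over.mk (𝟙 S'))),
      IsPullback fst snd q t → P.obj.IsRepresentable) :
    ∃ (T : Over S') (Q : Sp S') (fst : Q ⟶ X) (snd : Q ⟶ (yon S').obj T)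
      (t : (yon S').obj T ⟶ (yon S').obj (Over.mk (𝟙 S'))),
      IsOpenImmersion T.hom ∧ s ∈ Set.range T.hom ∧ IsPullback fst snd q t ∧ Q.obj.IsRepresentable := by
  obtain ⟨V, hV, hs, -⟩ := exists_isAffineOpen_mem_and_subset (X := S') (x := s) (U := ⊤) trivial
  have hgy : hV.fromSpec (hV.primeIdealOf ⟨s, hs⟩) = s := hV.fromSpec_primeIdealOf ⟨s, hs⟩
  generalize hy : (hV.primeIdealOf ⟨s, hs⟩ : Spec Γ(S', V)) = y at hgy
  subst hgy
  obtain ⟨n, Q, fst, snd, t, sq, hQ⟩ := exists_open_aux hV.fromSpec y hX q hqc hqs h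
  refine ⟨_, Q, fst, snd, t, ?_, ?_, sq, hQ⟩
  · exact (inferInstance : IsOpenImmersion (n.U.ι ≫ hV.fromSpec))
  · exact ⟨(⟨y, n.mem⟩ : n.U), by
      change (n.U.ι ≫ hV.fromSpec) _ = _
      rw [Scheme.Hom.comp_apply]
      rfl⟩

end K624.LocRep
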